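import Groth.Prelude.Def_Grpd
import Mathlib.AlgebraicGeometry.PullbackCarrier

/-! Basic consequences of the groupoid scheme axioms. -/

set_option autoImplicit false
universe u
open CategoryTheory CategoryTheory.Limits AlgebraicGeometry

namespace Groth.Agent.GrpdBasic

variable {S : Scheme.{u}} (G : Grpd.GroupoidScheme S) {T T' : Scheme.{u}}

/-- composition of `T`-points -/
noncomputable def mul (α β : T ⟶ G.R) (h : α ≫ G.s = β ≫ G.t) : T ⟶ G.R :=
  pullback.lift α β h ≫ G.c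

theorem mul_s (α β : T ⟶ G.R) (h : α ≫ G.s = β ≫ G.t) : mul G α β h ≫ G.s = β ≫ G.s :=
  G.comp_s α β h

theorem mul_t (α β : T ⟶ G.R) (h : α ≫ G.s = β ≫ G.t) : mul G α β h ≫ G.t = α ≫ G.t :=
  G.comp_t α β h

theorem mul_congr {α α' β β' : T ⟶ G.R} (e₁ : α = α') (e₂ : β = β') (h : α ≫ G.s = β ≫ G.t) :
    mul G α β h = mul G α' β' (by rw [← e₁, ← e₂, h]) := by
  subst e₁; subst e₂; rfl

theorem comp_mul (f : T' ⟶ T) (α β : T ⟶ G.R) (h : α ≫ G.s = β ≫ G.t) :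
    f ≫ mul G α β h = mul G (f ≫ α) (f ≫ β) (by simp [h]) := by
  rw [mul, mul, ← Category.assoc]
  congr 1
  refine pullback.hom_ext ?_ ?_ <;> simp only [Category.assoc, pullback.lift_fst, pullback.lift_snd]

theorem c_eq : G.c = mul G (pullback.fst G.s G.t) (pullback.snd G.s G.t) pullback.condition := by
  rw [mul, show pullback.lift _ _ pullback.condition = 𝟙 (pullback G.s G.t) from
    pullback.hom_ext (by simp) (by simp), Category.id_comp]

theorem mul_assoc (α β γ : T ⟶ G.R) (h₁ : α ≫ G.s = β ≫ G.t) (h₂ : β ≫ G.s = γ ≫ G.t) :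
    mul G (mul G α β h₁) γ ((mul_s G α β h₁).trans h₂) =
      mul G α (mul G β γ h₂) (h₁.trans (mul_t G β γ h₂).symm) :=
  G.assoc α β γ h₁ h₂

theorem mul_one (α : T ⟶ G.R) (β : T ⟶ G.R) (hβ : β = α ≫ G.s ≫ G.e) (h : α ≫ G.s = β ≫ G.t) :
    mul G α β h = α := by
  subst hβ; exact G.comp_e α

theorem one_mul (α : T ⟶ G.R) (β : T ⟶ G.R) (hβ : β = α ≫ G.t ≫ G.e) (h : β ≫ G.s = α ≫ G.t) :
    mul G β α h = α := by
  subst hβ; exact G.e_comp α

theorem mul_inv (α : T ⟶ G.R) :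
    mul G α (α ≫ G.i) (by rw [Category.assoc, G.i_t]) = α ≫ G.t ≫ G.e := G.comp_i α

theorem inv_mul (α : T ⟶ G.R) :
    mul G (α ≫ G.i) α (by rw [Category.assoc, G.i_s]) = α ≫ G.s ≫ G.e := G.i_comp α

theorem mul_inv_cancel_right (α γ : T ⟶ G.R) (h : α ≫ G.s = γ ≫ G.t) :
    mul G (mul G α γ h) (γ ≫ G.i) ((mul_s G α γ h).trans (by rw [Category.assoc, G.i_t])) = α := by
  refine (mul_assoc G α γ _ h (by rw [Category.assoc, G.i_t])).trans (mul_one G α _ ?_ _)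
  rw [mul_inv, reassoc_of% h]

theorem inv_mul_cancel_right (α γ : T ⟶ G.R) (h : α ≫ G.s = γ ≫ G.s) :
    mul G (mul G α (γ ≫ G.i) (by rw [h, Category.assoc, G.i_t])) γ
      ((mul_s G _ _ _).trans (by rw [Category.assoc, G.i_s])) = α := by
  refine (mul_assoc G α _ γ _ (by rw [Category.assoc, G.i_s])).trans (mul_one G α _ ?_ _)
  rw [inv_mul, reassoc_of% h]

theorem mul_inv_cancel_left (α γ : T ⟶ G.R) (h : α ≫ G.s = γ ≫ G.t) :
    mul G (α ≫ G.i) (mul G α γ h)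
      ((show (α ≫ G.i) ≫ G.s = α ≫ G.t by rw [Category.assoc, G.i_s]).trans (mul_t G α γ h).symm)
      = γ := by
  refine (mul_assoc G _ α γ (by rw [Category.assoc, G.i_s]) h).symm.trans (one_mul G γ _ ?_ _)
  rw [inv_mul, reassoc_of% h]

theorem mul_right_cancel {α β γ : T ⟶ G.R} (h : α ≫ G.s = γ ≫ G.t) (h' : β ≫ G.s = γ ≫ G.t)
    (e : mul G α γ h = mul G β γ h') : α = β := by
  rw [← mul_inv_cancel_right G α γ h, ← mul_inv_cancel_right G β γ h']
  exact mul_congr G e rfl _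

theorem i_i : G.i ≫ G.i = 𝟙 G.R := by
  refine mul_right_cancel G (γ := G.i) (by rw [Category.assoc, G.i_s, G.i_t])
    (by rw [Category.id_comp, G.i_t]) ?_
  rw [inv_mul, ← mul_congr G rfl (Category.id_comp G.i) (by simp [G.i_t]), mul_inv]
  rw [Category.id_comp, reassoc_of% G.i_s]

/-- `c`, the second projection, `s`, `s` is cartesian. -/
theorem isPullback_c : IsPullback G.c (pullback.snd G.s G.t) G.s G.s := by
  have w : G.c ≫ G.s = pullback.snd G.s G.t ≫ G.s := by rw [c_eq]; exact mul_s G _ _ _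
  refine IsPullback.of_isLimit (c := PullbackCone.mk G.c (pullback.snd G.s G.t) w)
    (PullbackCone.IsLimit.mk _
      (fun q => pullback.lift (mul G q.fst (q.snd ≫ G.i) (by rw [q.condition, Category.assoc, G.i_t]))
        q.snd ((mul_s G _ _ _).trans (by rw [Category.assoc, G.i_s])))
      (fun q => inv_mul_cancel_right G q.fst q.snd q.condition) (fun q => pullback.lift_snd _ _ _)
      fun q m h₁ h₂ => ?_)
  refine pullback.hom_ext ?_ (h₂.trans (pullback.lift_snd _ _ _).symm)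
  rw [pullback.lift_fst]
  have hh : (m ≫ pullback.fst G.s G.t) ≫ G.s = (m ≫ pullback.snd G.s G.t) ≫ G.t := by
    simp [pullback.condition]
  rw [← mul_inv_cancel_right G (m ≫ pullback.fst G.s G.t) (m ≫ pullback.snd G.s G.t) hh]
  refine mul_congr G ?_ (by rw [h₂]) _
  rw [← h₁]
  conv_rhs => rw [c_eq]
  rw [comp_mul]

/-! ### Points -/

theorem exists_comp (r₁ r₂ : G.R) (h : G.s r₁ = G.t r₂) :
    ∃ r : G.R, G.t r = G.t r₁ ∧ G.s r = G.s r₂ := by
  obtain ⟨z, hz₁, hz₂⟩ := Scheme.Pullback.exists_preimage_pullback r₁ r₂ h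
  refine ⟨G.c z, ?_, ?_⟩
  · rw [← Scheme.Hom.comp_apply, c_eq, mul_t, Scheme.Hom.comp_apply, hz₁]
  · rw [← Scheme.Hom.comp_apply, c_eq, mul_s, Scheme.Hom.comp_apply, hz₂]

theorem s_i (r : G.R) : G.s (G.i r) = G.t r := by rw [← Scheme.Hom.comp_apply, G.i_s]

theorem t_i (r : G.R) : G.t (G.i r) = G.s r := by rw [← Scheme.Hom.comp_apply, G.i_t]

theorem s_e (x : G.U) : G.s (G.e x) = x := by rw [← Scheme.Hom.comp_apply, G.e_s]; rfl

theorem t_e (x : G.U) : G.t (G.e x) = x := by rw [← Scheme.Hom.comp_apply, G.e_t]; rfl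

/-- the orbit relation -/
def Orb (x y : G.U) : Prop := ∃ r : G.R, G.t r = x ∧ G.s r = y

theorem orb_equivalence : Equivalence (Orb G) where
  refl x := ⟨G.e x, t_e G x, s_e G x⟩
  symm := fun {x y} ⟨r, h₁, h₂⟩ => ⟨G.i r, (t_i G r).trans h₂, (s_i G r).trans h₁⟩
  trans := fun {x y z} ⟨r, h₁, h₂⟩ ⟨r', h₁', h₂'⟩ => by
    obtain ⟨q, hq₁, hq₂⟩ := exists_comp G r r' (h₂.trans h₁'.symm)
    exact ⟨q, hq₁.trans h₁, hq₂.trans h₂'⟩

theorem preimage_saturation (W : Set G.U) :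
    G.s ⁻¹' (G.t '' (G.s ⁻¹' W)) = G.t ⁻¹' (G.t '' (G.s ⁻¹' W)) := by
  ext r
  constructor
  · rintro ⟨r', hr', e⟩
    obtain ⟨q, hq₁, hq₂⟩ := exists_comp G r r' e.symm
    exact ⟨q, show G.s q ∈ W from hq₂ ▸ hr', hq₁⟩
  · rintro ⟨r', hr', e⟩
    obtain ⟨q, hq₁, hq₂⟩ := exists_comp G (G.i r) r' ((s_i G r).trans e.symm)
    exact ⟨q, show G.s q ∈ W from hq₂ ▸ hr', hq₁.trans (t_i G r)⟩

end Groth.Agent.GrpdBasic
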