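import Groth.Agent.GrpdBasic.Quot
import Mathlib.RingTheory.Finiteness.Projective
import Mathlib.RingTheory.Flat.Stability
import Mathlib.RingTheory.FinitePresentation
import Mathlib.AlgebraicGeometry.Morphisms.FinitePresentation
import Mathlib.AlgebraicGeometry.Morphisms.Flat

/-! Quotient of an affine finite locally free equivalence relation: globalisation. -/

set_option autoImplicit false
universe u
open CategoryTheory CategoryTheory.Limits AlgebraicGeometry TensorProduct

namespace Groth.Agent.GrpdBasic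

variable {S : Scheme.{u}} (G : Grpd.GroupoidScheme S)
variable [IsAffine G.U] [IsAffine G.R]
variable [IsFinite G.s] [Flat G.s] [LocallyOfFinitePresentation G.s] [IsFinite G.t] [Flat G.t]
  [LocallyOfFinitePresentation G.t] [Mono G.j]

theorem eq_top_of_forall_prime {C : Type*} [CommRing C] (J : Ideal C)
    (h : ∀ q : Ideal C, q.IsPrime → ∃ c ∈ J, c ∉ q) : J = ⊤ := by
  by_contra hne
  obtain ⟨m, hm, hle⟩ := Ideal.exists_le_maximal J hne
  obtain ⟨c, hc, hcm⟩ := h m hm.isPrime
  exact hcm (hle hc)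

theorem exists_frame_invariants :
    ∃ (d : ℕ) (a : Fin d → Γ(G.U, ⊤)) (φ : Fin d → Γ(G.U, ⊤) →ₗ[G.invariants] G.invariants),
      ∀ x, ∑ i, φ i x • a i = x := by
  let J : Ideal G.invariants :=
    { carrier := {c | ∃ (d : ℕ) (a : Fin d → Γ(G.U, ⊤))
        (φ : Fin d → Γ(G.U, ⊤) →ₗ[G.invariants] G.invariants), ∀ x, ∑ i, φ i x • a i = c • x}
      zero_mem' := ⟨0, Fin.elim0, Fin.elim0, fun x => by simp⟩
      add_mem' := by
        rintro c c' ⟨d, a, φ, h⟩ ⟨d', a', φ', h'⟩
        refine ⟨d + d', Fin.append a a', Fin.append φ φ', fun x => ?_⟩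
        simp only [Fin.sum_univ_add, Fin.append_left, Fin.append_right, h, h', add_smul]
      smul_mem' := by
        rintro r c ⟨d, a, φ, h⟩
        refine ⟨d, a, fun i => r • φ i, fun x => ?_⟩
        simp only [LinearMap.smul_apply, smul_eq_mul, mul_smul, ← Finset.smul_sum, h] }
  suffices h1 : J = ⊤ by
    obtain ⟨d, a, φ, h⟩ := (h1 ▸ Submodule.mem_top : (1 : G.invariants) ∈ J)
    exact ⟨d, a, φ, fun x => by rw [h, one_smul]⟩
  refine eq_top_of_forall_prime J fun q _ => ?_
  obtain ⟨h, hq, d, a, L, hL, -, -, h₃⟩ := exists_local G q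
  refine ⟨h * h, ⟨d, a, fun i =>
    { toFun := fun x => ⟨_, (h₃ x).1 i⟩
      map_add' := fun x y => Subtype.ext (by simp [mul_add])
      map_smul' := fun c x => Subtype.ext ?_ }, fun x => ?_⟩,
    fun hm => (Ideal.IsPrime.mem_or_mem ‹q.IsPrime› hm).elim hq hq⟩
  · show (h : Γ(G.U, ⊤)) * L i (G.t.appTop.hom ((c : Γ(G.U, ⊤)) * x)) =
      (c : Γ(G.U, ⊤)) * ((h : Γ(G.U, ⊤)) * L i (G.t.appTop.hom x))
    rw [map_mul, ← (c.2 : G.s.appTop.hom _ = _), hL]
    ring
  · exact (h₃ x).2

theorem finite_invariants : Module.Finite G.invariants Γ(G.U, ⊤) := by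
  classical
  obtain ⟨d, a, φ, h⟩ := exists_frame_invariants G
  exact GrpdFrame.finite_of_frame (⟨a, φ, h⟩ : GrpdFrame.Frame G.invariants Γ(G.U, ⊤) d)

theorem projective_invariants : Module.Projective G.invariants Γ(G.U, ⊤) := by
  obtain ⟨d, a, φ, h⟩ := exists_frame_invariants G
  refine Module.Projective.of_split (LinearMap.pi φ) (Fintype.linearCombination G.invariants a) ?_
  exact LinearMap.ext fun x => h x

theorem isPushout_invariants :
    CategoryTheory.IsPushout (CommRingCat.ofHom G.invariants.subtype)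
      (CommRingCat.ofHom G.invariants.subtype) G.t.appTop G.s.appTop := by
  let _ : Algebra G.invariants Γ(G.R, ⊤) := (G.t.appTop.hom.comp G.invariants.subtype).toAlgebra
  let tA : Γ(G.U, ⊤) →ₐ[G.invariants] Γ(G.R, ⊤) := ⟨G.t.appTop.hom, fun _ => rfl⟩
  let sA : Γ(G.U, ⊤) →ₐ[G.invariants] Γ(G.R, ⊤) := ⟨G.s.appTop.hom, fun c => c.2⟩
  let Φ : Γ(G.U, ⊤) ⊗[G.invariants] Γ(G.U, ⊤) →ₐ[G.invariants] Γ(G.R, ⊤) :=
    Algebra.TensorProduct.lift tA sA fun _ _ => Commute.all _ _
  have hΦ : ∀ x y, Φ (x ⊗ₜ y) = G.t.appTop.hom x * G.s.appTop.hom y := fun x y => by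
    rw [Algebra.TensorProduct.lift_tmul]; rfl
  have hsurj : Function.Surjective Φ := by
    intro b
    let K : Ideal G.invariants :=
      { carrier := {c | c • b ∈ Φ.range}
        zero_mem' := by
          show (0 : G.invariants) • b ∈ Φ.range
          rw [zero_smul]; exact zero_mem _
        add_mem' := fun {c c'} hc hc' => by
          show (c + c') • b ∈ Φ.range
          rw [add_smul]; exact add_mem hc hc'
        smul_mem' := fun r {c} hc => by
          show (r • c) • b ∈ Φ.range
          rw [smul_assoc]; exact Subalgebra.smul_mem _ hc r }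
    have : K = ⊤ := eq_top_of_forall_prime K fun q _ => by
      obtain ⟨h, hq, d, a, L, -, -, h₂, -⟩ := exists_local G q
      refine ⟨h, ⟨∑ i, a i ⊗ₜ L i b, ?_⟩, hq⟩
      show Φ _ = h • b
      rw [map_sum, Algebra.smul_def, show algebraMap G.invariants Γ(G.R, ⊤) h = G.s.appTop.hom h from
        (h.2 : G.s.appTop.hom _ = _).symm, ← h₂ b]
      exact Finset.sum_congr rfl fun i _ => by rw [hΦ, _root_.mul_comm]
    have h1 : (1 : G.invariants) • b ∈ Φ.range := (this ▸ Submodule.mem_top : (1 : G.invariants) ∈ K)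
    rw [one_smul] at h1
    exact h1
  have hinj : Function.Injective Φ := by
    rw [injective_iff_map_eq_zero]
    intro z hz
    let K : Ideal G.invariants :=
      { carrier := {c | c • z = 0}
        zero_mem' := by
          show (0 : G.invariants) • z = 0
          exact zero_smul G.invariants z
        add_mem' := fun {c c'} (hc : c • z = 0) (hc' : c' • z = 0) => by
          show (c + c') • z = 0
          rw [add_smul, hc, hc', add_zero]
        smul_mem' := fun r {c} (hc : c • z = 0) => by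
          show (r • c) • z = 0
          rw [smul_assoc, hc, smul_zero] }
    have : K = ⊤ := eq_top_of_forall_prime K fun q _ => by
      obtain ⟨h, hq, d, a, L, -, h₁, -, h₃⟩ := exists_local G q
      have : ∀ w : Γ(G.U, ⊤) ⊗[G.invariants] Γ(G.U, ⊤),
          ∃ μ : Fin d → Γ(G.U, ⊤), (h * h) • w = ∑ i, a i ⊗ₜ[G.invariants] μ i := by
        intro w
        induction w using TensorProduct.induction_on with
        | zero => exact ⟨0, by simp⟩
        | add w w' hw hw' =>
          obtain ⟨μ, hμ⟩ := hw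
          obtain ⟨μ', hμ'⟩ := hw'
          exact ⟨μ + μ', by simp [smul_add, hμ, hμ', tmul_add, Finset.sum_add_distrib]⟩
        | tmul x y =>
          refine ⟨fun i => (⟨_, (h₃ x).1 i⟩ : G.invariants) • y, ?_⟩
          have hx : (h * h) • x = ∑ i, (⟨_, (h₃ x).1 i⟩ : G.invariants) • a i := (h₃ x).2.symm
          rw [TensorProduct.smul_tmul', hx, sum_tmul]
          exact Finset.sum_congr rfl fun i _ => smul_tmul _ _ _
      obtain ⟨μ, hμ⟩ := this z
      have h0 : ∀ i, h • μ i = 0 := fun i => by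
        show (h : Γ(G.U, ⊤)) * μ i = 0
        rw [← h₁ i μ, show ∑ j, G.s.appTop.hom (μ j) * G.t.appTop.hom (a j) = 0 from ?_, map_zero]
        have := congrArg Φ hμ
        rw [map_smul, hz, smul_zero, map_sum] at this
        rw [this]
        exact Finset.sum_congr rfl fun i _ => by rw [hΦ, _root_.mul_comm]
      refine ⟨h * (h * h), ?_, fun hm => (Ideal.IsPrime.mem_or_mem ‹q.IsPrime› hm).elim hq
        fun hm' => (Ideal.IsPrime.mem_or_mem ‹q.IsPrime› hm').elim hq hq⟩
      show (h * (h * h)) • z = 0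
      rw [mul_smul, hμ, Finset.smul_sum]
      exact Finset.sum_eq_zero fun i _ => by rw [← tmul_smul, h0, tmul_zero]
    have h1 : (1 : G.invariants) • z = 0 := (this ▸ Submodule.mem_top : (1 : G.invariants) ∈ K)
    rwa [one_smul] at h1
  refine (CommRingCat.isPushout_tensorProduct G.invariants Γ(G.U, ⊤) Γ(G.U, ⊤)).of_iso
    (Iso.refl _) (Iso.refl _) (Iso.refl _)
    ((AlgEquiv.ofBijective Φ ⟨hinj, hsurj⟩).toRingEquiv.toCommRingCatIso) ?_ ?_ ?_ ?_
  · rfl
  · rfl
  · ext x
    show Φ (x ⊗ₜ 1) = G.t.appTop.hom x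
    rw [hΦ, map_one, _root_.mul_one]
  · ext x
    show Φ (1 ⊗ₜ x) = G.s.appTop.hom x
    rw [hΦ, map_one, _root_.one_mul]

theorem toQuot_eq : G.toQuot = G.U.isoSpec.hom ≫ Spec.map (CommRingCat.ofHom G.invariants.subtype) :=
  rfl

theorem finiteLocallyFree_toQuot :
    IsFinite G.toQuot ∧ Flat G.toQuot ∧ LocallyOfFinitePresentation G.toQuot := by
  have := finite_invariants G
  have := projective_invariants G
  have := Module.finitePresentation_of_projective G.invariants Γ(G.U, ⊤)
  rw [toQuot_eq]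
  have h : G.invariants.subtype = algebraMap G.invariants Γ(G.U, ⊤) := rfl
  have : IsFinite (Spec.map (CommRingCat.ofHom G.invariants.subtype)) :=
    IsFinite.SpecMap_iff _ |>.2 (by
      rw [CommRingCat.hom_ofHom, h, RingHom.finite_algebraMap]; infer_instance)
  have : Flat (Spec.map (CommRingCat.ofHom G.invariants.subtype)) :=
    Flat.SpecMap_iff.2 (by
      rw [CommRingCat.hom_ofHom, h, RingHom.flat_algebraMap_iff]; infer_instance)
  have : LocallyOfFinitePresentation (Spec.map (CommRingCat.ofHom G.invariants.subtype)) :=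
    LocallyOfFinitePresentation.SpecMap_iff _ |>.2 (by
      rw [CommRingCat.hom_ofHom, h, RingHom.finitePresentation_algebraMap]
      exact Algebra.FinitePresentation.of_finitePresentation G.invariants Γ(G.U, ⊤))
  exact ⟨inferInstance, inferInstance, inferInstance⟩

theorem exists_iso_pullback_toQuot :
    ∃ φ : G.R ≅ pullback G.toQuot G.toQuot,
      φ.hom ≫ pullback.fst G.toQuot G.toQuot = G.t ∧ φ.hom ≫ pullback.snd G.toQuot G.toQuot = G.s := by
  have h := isPullback_SpecMap_of_isPushout _ _ _ _ (isPushout_invariants G)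
  have h' : IsPullback G.t G.s G.toQuot G.toQuot := by
    refine h.of_iso G.R.isoSpec.symm G.U.isoSpec.symm G.U.isoSpec.symm (Iso.refl _) ?_ ?_ ?_ ?_
    · simp [Scheme.isoSpec_inv_naturality]
    · simp [Scheme.isoSpec_inv_naturality]
    · simp [toQuot_eq]
    · simp [toQuot_eq]
  exact ⟨h'.isoPullback, h'.isoPullback_hom_fst, h'.isoPullback_hom_snd⟩

end Groth.Agent.GrpdBasic
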