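import Groth.Agent.GrpdBasic.Basic
import Groth.Agent.S9347

/-! Saturations of quasi-compact opens for flat quasi-compact groupoids. -/

set_option autoImplicit false
universe u
open CategoryTheory CategoryTheory.Limits AlgebraicGeometry TopologicalSpace

namespace Groth.Agent.GrpdBasic

/-- Separate a quasi-compact generalisation-stable set from a point outside by a quasi-compact open. -/
theorem exists_qcOpen_notMem {X : Scheme.{u}} {Z : Set X} (hZ : IsCompact Z)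
    (hgen : StableUnderGeneralization Z) {x : X} (hx : x ∉ Z) :
    ∃ V : X.Opens, IsCompact (V : Set X) ∧ Z ⊆ V ∧ x ∉ V := by
  classical
  have h : ∀ z : Z, ∃ O : X.Opens, IsCompact (O : Set X) ∧ z.1 ∈ O ∧ x ∉ O := fun z => by
    have hns : ¬ x ⤳ z.1 := fun hs => hx (hgen hs z.2)
    simp only [specializes_iff_forall_open, not_forall] at hns
    obtain ⟨O, hO, hzO, hxO⟩ := hns
    obtain ⟨W, ⟨hW₁, hW₂⟩, hzW, hWO⟩ :=
      PrespectralSpace.isTopologicalBasis.exists_subset_of_mem_open hzO hO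
    exact ⟨⟨W, hW₁⟩, hW₂, hzW, fun h => hxO (hWO h)⟩
  choose O hOc hzO hxO using h
  obtain ⟨F, hF⟩ := hZ.elim_finite_subcover (fun z => (O z : Set X)) (fun z => (O z).2)
    fun z hz => Set.mem_iUnion.2 ⟨⟨z, hz⟩, hzO _⟩
  refine ⟨⟨⋃ z ∈ F, (O z : Set X), isOpen_biUnion fun z _ => (O z).2⟩,
    F.finite_toSet.isCompact_biUnion fun z _ => hOc z, hF, fun h => ?_⟩
  obtain ⟨z, -, hz⟩ := Set.mem_iUnion₂.1 h
  exact hxO z hz

theorem exists_qcOpen_of_isCompact {X : Scheme.{u}} {Z : Set X} (hZ : IsCompact Z) :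
    ∃ V : X.Opens, IsCompact (V : Set X) ∧ Z ⊆ V := by
  classical
  have h : ∀ z : X, ∃ O : X.Opens, IsCompact (O : Set X) ∧ z ∈ O := fun z => by
    obtain ⟨W, ⟨hW₁, hW₂⟩, hzW, -⟩ :=
      PrespectralSpace.isTopologicalBasis.exists_subset_of_mem_open (Set.mem_univ z) isOpen_univ
    exact ⟨⟨W, hW₁⟩, hW₂, hzW⟩
  choose O hOc hzO using h
  obtain ⟨F, hF⟩ := hZ.elim_finite_subcover (fun z => (O z : Set X)) (fun z => (O z).2)
    fun z _ => Set.mem_iUnion.2 ⟨z, hzO z⟩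
  exact ⟨⟨⋃ z ∈ F, (O z : Set X), isOpen_biUnion fun z _ => (O z).2⟩,
    F.finite_toSet.isCompact_biUnion fun z _ => hOc z, hF⟩

theorem mem_closure_image_iff {X Y : Scheme.{u}} (f : X ⟶ Y) [QuasiCompact f] (C : Closeds X) (y : Y) :
    y ∈ closure (f '' C) ↔ ∃ c ∈ C, f c ⤳ y := by
  constructor
  · intro h
    let I := Scheme.IdealSheafData.vanishingIdeal C
    have hr : Set.range I.subschemeι = C := by
      rw [Scheme.IdealSheafData.range_subschemeι, Scheme.IdealSheafData.coe_support_vanishingIdeal]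
    obtain ⟨x, hx⟩ := S9347.exists_specializes_of_mem_closure_range (I.subschemeι ≫ f) y (by
      rwa [Scheme.Hom.comp_base, TopCat.coe_comp, Set.range_comp, hr])
    exact ⟨I.subschemeι x, hr.le ⟨x, rfl⟩, hx⟩
  · rintro ⟨c, hc, hcy⟩
    exact hcy.mem_closed isClosed_closure (subset_closure ⟨c, hc, rfl⟩)

variable {S : Scheme.{u}} (G : Grpd.GroupoidScheme S)

theorem stableUnderGeneralization_saturation [Flat G.t] (W : G.U.Opens) :
    StableUnderGeneralization (G.t '' (G.s ⁻¹' (W : Set G.U))) := by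
  rintro z x hxz ⟨r, hr, rfl⟩
  obtain ⟨r', hr', e⟩ := Flat.generalizingMap G.t hxz
  exact ⟨r', hr'.mem_open (W.2.preimage G.s.continuous) hr, e⟩

theorem isCompact_saturation [QuasiCompact G.s] (W : G.U.Opens) (hW : IsCompact (W : Set G.U)) :
    IsCompact (G.t '' (G.s ⁻¹' (W : Set G.U))) :=
  (G.s.isCompact_preimage (U := W) hW).image G.t.continuous

theorem subset_saturation (W : Set G.U) : W ⊆ G.t '' (G.s ⁻¹' W) := fun x hx =>
  ⟨G.e x, by show G.s (G.e x) ∈ W; rwa [s_e], t_e G x⟩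

theorem exists_invariant_open_between [QuasiCompact G.s] [Flat G.s] [QuasiCompact G.t] [Flat G.t]
    (W : G.U.Opens) (hW : IsCompact (W : Set G.U)) :
    ∃ V W' : G.U.Opens, G.s ⁻¹ᵁ V = G.t ⁻¹ᵁ V ∧ IsCompact (W' : Set G.U) ∧ W ≤ V ∧ V ≤ W' := by
  set Z := G.t '' (G.s ⁻¹' (W : Set G.U))
  obtain ⟨W', hW', hZW'⟩ := exists_qcOpen_of_isCompact (isCompact_saturation G W hW)
  let C : Closeds G.R := ⟨G.s ⁻¹' (W' : Set G.U)ᶜ, W'.2.isClosed_compl.preimage G.s.continuous⟩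
  let T := G.t '' (C : Set G.R)
  -- the closure of the saturation of the complement is saturated
  have hinv : ∀ r : G.R, G.s r ∈ closure T ↔ G.t r ∈ closure T := by
    intro r
    simp only [T, mem_closure_image_iff]
    constructor
    · rintro ⟨c, hc, hcy⟩
      obtain ⟨r', hr', e⟩ := Flat.generalizingMap G.s hcy
      obtain ⟨q, hq₁, hq₂⟩ := exists_comp G r' c e
      exact ⟨q, show G.s q ∈ (W' : Set G.U)ᶜ from hq₂ ▸ hc, hq₁ ▸ hr'.map G.t.continuous⟩
    · rintro ⟨c, hc, hcy⟩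
      obtain ⟨r', hr', e⟩ := Flat.generalizingMap G.t hcy
      obtain ⟨q, hq₁, hq₂⟩ := exists_comp G (G.i r') c ((s_i G r').trans e)
      exact ⟨q, show G.s q ∈ (W' : Set G.U)ᶜ from hq₂ ▸ hc,
        (hq₁.trans (t_i G r')) ▸ hr'.map G.s.continuous⟩
  refine ⟨⟨(closure T)ᶜ, isClosed_closure.isOpen_compl⟩, W', ?_, hW', fun x hx hxT => ?_, fun x hx => ?_⟩
  · exact TopologicalSpace.Opens.ext (Set.ext fun r => not_congr (hinv r))
  · obtain ⟨c, hc, hcx⟩ := (mem_closure_image_iff G.t C x).1 hxT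
    obtain ⟨r, hr, e⟩ := stableUnderGeneralization_saturation G W hcx (subset_saturation G _ hx)
    obtain ⟨q, hq₁, hq₂⟩ := exists_comp G (G.i c) r ((s_i G c).trans e.symm)
    exact hc (hZW' ⟨q, show G.s q ∈ W from hq₂ ▸ hr, hq₁.trans (t_i G c)⟩)
  · by_contra hxW'
    exact hx (subset_closure ⟨G.e x, show G.s (G.e x) ∉ W' by rwa [s_e], t_e G x⟩)

theorem saturation_eq_iInter [QuasiCompact G.s] [Flat G.t] (W : G.U.Opens)
    (hW : IsCompact (W : Set G.U)) :
    ∃ (ι : Type u) (_ : Nonempty ι) (V : ι → G.U.Opens), (∀ i, IsCompact (V i : Set G.U)) ∧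
      G.t '' (G.s ⁻¹' (W : Set G.U)) = ⋂ i, (V i : Set G.U) := by
  set Z := G.t '' (G.s ⁻¹' (W : Set G.U))
  have hZ : IsCompact Z := isCompact_saturation G W hW
  obtain ⟨V₀, h₀, h₀'⟩ := exists_qcOpen_of_isCompact hZ
  refine ⟨{V : G.U.Opens // IsCompact (V : Set G.U) ∧ Z ⊆ V}, ⟨⟨V₀, h₀, h₀'⟩⟩, fun i => i.1,
    fun i => i.2.1, Set.Subset.antisymm (Set.subset_iInter fun i => i.2.2) fun x hx => ?_⟩
  by_contra hxZ
  obtain ⟨V, hV₁, hV₂, hxV⟩ :=
    exists_qcOpen_notMem hZ (stableUnderGeneralization_saturation G W) hxZ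
  exact hxV (Set.mem_iInter.1 hx ⟨V, hV₁, hV₂⟩)

end Groth.Agent.GrpdBasic
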