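import Groth.Agent.GrpdBasic.Quot
import Mathlib.AlgebraicGeometry.Morphisms.QuasiFinite
import Mathlib.RingTheory.Flat.EquationalCriterion
import Mathlib.RingTheory.Ideal.GoingUp
import Mathlib.FieldTheory.IsAlgClosed.AlgebraicClosure
import Mathlib.AlgebraicGeometry.Morphisms.Finite
import Mathlib.AlgebraicGeometry.Morphisms.Flat
import Mathlib.AlgebraicGeometry.Morphisms.FinitePresentation

/-! The locus where all preimages lie in a principal open is principal. -/

set_option autoImplicit false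
universe u
open CategoryTheory CategoryTheory.Limits AlgebraicGeometry

namespace Groth.Agent.GrpdFrame

theorem exists_norm {A B : Type u} [CommRing A] [CommRing B] [Algebra A B] {n : ℕ}
    (F : Frame A B n) (g : B) :
    ∃ h : A, ∀ p : Ideal A, p.IsPrime →
      (h ∉ p ↔ ∀ P : Ideal B, P.IsPrime → P.comap (algebraMap A B) = p → g ∉ P) := by
  classical
  have hfin : Module.Finite A B := finite_of_frame F
  have : Algebra.IsIntegral A B := Algebra.IsIntegral.of_finite A B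
  refine ⟨(mat F (1 - g)).charpoly.eval 1, fun p hp => ?_⟩
  let k := AlgebraicClosure (FractionRing (A ⧸ p))
  let ε : A →+* k := (algebraMap (FractionRing (A ⧸ p)) k).comp
    ((algebraMap (A ⧸ p) (FractionRing (A ⧸ p))).comp (Ideal.Quotient.mk p))
  have hε : RingHom.ker ε = p := by
    rw [RingHom.ker_comp_of_injective _ (RingHom.injective _),
      RingHom.ker_comp_of_injective _ (IsFractionRing.injective _ _), Ideal.mk_ker]
  have hev : ((mat F (1 - g)).map ε).charpoly.eval 1 = ε ((mat F (1 - g)).charpoly.eval 1) := by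
    rw [Matrix.charpoly_map, Polynomial.eval_one_map]
  constructor
  · intro hh P hP hPp hgP
    obtain ⟨y, hy', hyP⟩ := GrpdBasic.exists_point ε P (hPp.trans hε.symm)
    have hy : ∀ a, y (algebraMap A B a) = ε a := fun a => RingHom.congr_fun hy' a
    have hyg : y g = 0 := (RingHom.mem_ker).1 (hyP ▸ hgP)
    -- the row vector of values is fixed by the matrix
    let w : Fin n → k := fun i => y (F.x i)
    have hw : w ≠ 0 := fun h0 => by
      have := congrArg y (F.sum_eq 1)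
      rw [map_sum, map_one, Finset.sum_eq_zero] at this
      · exact zero_ne_one this
      · intro i _
        rw [Algebra.smul_def, map_mul, show y (F.x i) = 0 from congrFun h0 i, mul_zero]
    have hdet : (Matrix.scalar (Fin n) (1 : k) - (mat F (1 - g)).map ε).det = 0 := by
      refine Matrix.exists_vecMul_eq_zero_iff.1 ⟨w, hw, ?_⟩
      rw [Matrix.vecMul_sub, map_one, Matrix.vecMul_one, sub_eq_zero]
      funext l
      show w l = ∑ i, w i * ε (F.φ i ((1 - g) * F.x l))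
      calc w l = y ((1 - g) * F.x l) := by rw [map_mul, map_sub, map_one, hyg, sub_zero, one_mul]
        _ = _ := by
          conv_lhs => rw [← F.sum_eq ((1 - g) * F.x l), map_sum]
          refine Finset.sum_congr rfl fun i _ => ?_
          rw [Algebra.smul_def, map_mul, hy, mul_comm]
    apply hh
    rw [← hε, RingHom.mem_ker, ← hev, Matrix.eval_charpoly, hdet]
  · intro hP hh
    rw [← hε, RingHom.mem_ker, ← hev] at hh
    obtain ⟨ρ, hρ, hρg⟩ := exists_ringHom_of_root F ε (1 - g) 1 one_ne_zero hh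
    refine hP (RingHom.ker ρ) (RingHom.ker_isPrime ρ) ?_ ?_
    · refine Eq.trans ?_ hε
      rw [← hρ, RingHom.comap_ker]
    · rw [RingHom.mem_ker]
      rwa [map_sub, map_one, sub_eq_self] at hρg

end Groth.Agent.GrpdFrame

namespace Groth.Agent.GrpdBasic

open GrpdFrame

theorem mem_basicOpen_iff {X : Scheme.{u}} (f : Γ(X, ⊤)) (x : X) :
    x ∈ X.basicOpen f ↔ f ∉ (X.toSpecΓ x).asIdeal := by
  rw [← Scheme.toSpecΓ_preimage_basicOpen]
  rfl

/-- the locus of points all of whose preimages lie in a principal open is principal -/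
theorem exists_basicOpen_forall {R V : Scheme.{u}} (π : R ⟶ V) [IsAffine V] [IsFinite π] [Flat π]
    [LocallyOfFinitePresentation π] (g : Γ(R, ⊤)) :
    ∃ h : Γ(V, ⊤), ∀ x, x ∈ V.basicOpen h ↔ ∀ r, π r = x → r ∈ R.basicOpen g := by
  have : IsAffine R := isAffine_of_isAffineHom π
  let _ := π.appTop.hom.toAlgebra
  haveI : Module.Finite Γ(V, ⊤) Γ(R, ⊤) := π.finite_app _ (isAffineOpen_top V)
  haveI : Module.Flat Γ(V, ⊤) Γ(R, ⊤) :=
    RingHom.flat_algebraMap_iff.1 (HasRingHomProperty.appTop (P := @Flat.{u}) π inferInstance)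
  haveI : Algebra.FinitePresentation Γ(V, ⊤) Γ(R, ⊤) :=
    HasRingHomProperty.appTop (P := @LocallyOfFinitePresentation.{u}) π inferInstance
  haveI := Module.FinitePresentation.of_finite_of_finitePresentation Γ(V, ⊤) Γ(R, ⊤)
  haveI : Module.Projective Γ(V, ⊤) Γ(R, ⊤) := Module.Flat.projective_of_finitePresentation
  obtain ⟨n, ⟨F⟩⟩ := GrpdFrame.exists_frame (A := Γ(V, ⊤)) (B := Γ(R, ⊤))
  obtain ⟨h, hh⟩ := exists_norm F g
  refine ⟨h, fun x => ?_⟩
  have hcomap : ∀ r, ((R.toSpecΓ r).asIdeal).comap (algebraMap Γ(V, ⊤) Γ(R, ⊤)) =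
      (V.toSpecΓ (π r)).asIdeal := fun r => by
    rw [← Scheme.Hom.comp_apply, Scheme.toSpecΓ_naturality, Scheme.Hom.comp_apply]
    rfl
  rw [mem_basicOpen_iff, hh _ (V.toSpecΓ x).isPrime]
  constructor
  · intro H r hr
    rw [mem_basicOpen_iff]
    exact H _ (R.toSpecΓ r).isPrime (by rw [hcomap, hr])
  · intro H P hP hPx
    obtain ⟨r, hr⟩ := R.toSpecΓ.surjective ⟨P, hP⟩
    have hP' : (R.toSpecΓ r).asIdeal = P := congrArg PrimeSpectrum.asIdeal hr
    have hx : π r = x := (Scheme.Hom.homeomorph V.toSpecΓ).injective (PrimeSpectrum.ext (show (V.toSpecΓ (π r)).asIdeal = (V.toSpecΓ x).asIdeal by rw [← hcomap, hP', hPx]))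
    rw [← hP', ← mem_basicOpen_iff]
    exact H r hx

theorem exists_basicOpen_subset_of_finite {V : Scheme.{u}} [IsAffine V] (W : V.Opens) (T : Finset V)
    (hT : ∀ x ∈ T, x ∈ W) : ∃ f : Γ(V, ⊤), V.basicOpen f ≤ W ∧ ∀ x ∈ T, x ∈ V.basicOpen f := by
  classical
  have hcl : IsClosed (V.toSpecΓ '' ((W : Set V)ᶜ)) :=
    (Scheme.Hom.homeomorph V.toSpecΓ).isClosedMap _ W.2.isClosed_compl
  obtain ⟨J, hJ⟩ := (PrimeSpectrum.isClosed_iff_zeroLocus_ideal _).1 hcl
  rcases isEmpty_or_nonempty V with hV | hV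
  · exact ⟨0, fun x hx => (hV.false x).elim, fun x hx => (hV.false x).elim⟩
  have hnot : ¬ ((J : Set Γ(V, ⊤)) ⊆ ⋃ x ∈ (↑T : Set V), ((V.toSpecΓ x).asIdeal : Set Γ(V, ⊤))) := by
    intro hc
    obtain ⟨x, hx, hle⟩ :=
      (Ideal.subset_union_prime (s := T) (f := fun x => (V.toSpecΓ x).asIdeal) (Classical.arbitrary _)
        (Classical.arbitrary _) fun x _ _ _ => (V.toSpecΓ x).isPrime).1 hc
    have : V.toSpecΓ x ∈ PrimeSpectrum.zeroLocus (J : Set Γ(V, ⊤)) := hle
    rw [← hJ] at this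
    obtain ⟨x', hx', e⟩ := this
    exact hx' ((Scheme.Hom.homeomorph V.toSpecΓ).injective e ▸ hT x hx)
  obtain ⟨f, hfJ, hf⟩ := Set.not_subset.1 hnot
  refine ⟨f, fun x hx => by_contra fun hxW => ?_, fun x hx => ?_⟩
  · have : V.toSpecΓ x ∈ PrimeSpectrum.zeroLocus (J : Set Γ(V, ⊤)) := hJ ▸ ⟨x, hxW, rfl⟩
    exact (mem_basicOpen_iff f x).1 hx (this hfJ)
  · exact (mem_basicOpen_iff f x).2 fun h => hf (Set.mem_biUnion hx h)

end Groth.Agent.GrpdBasic

namespace Groth.Agent.GrpdBasic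

variable {S : Scheme.{u}} (G : Grpd.GroupoidScheme S)

/-- the points whose orbit lies in an open -/
def orbitCore (W : Set G.U) : Set G.U := {x | ∀ r, G.s r = x → G.t r ∈ W}

theorem orbitCore_subset (W : Set G.U) : orbitCore G W ⊆ W := fun x hx => by
  have := hx (G.e x) (s_e G x)
  rwa [t_e] at this

theorem preimage_orbitCore (W : Set G.U) :
    G.s ⁻¹' orbitCore G W = G.t ⁻¹' orbitCore G W := by
  ext r
  constructor
  · intro hr q hq
    obtain ⟨c, hc₁, hc₂⟩ := exists_comp G q r hq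
    exact hc₁ ▸ hr c hc₂
  · intro hr q hq
    obtain ⟨c, hc₁, hc₂⟩ := exists_comp G q (G.i r) (hq.trans (t_i G r).symm)
    exact hc₁ ▸ hr c (hc₂.trans (s_i G r))

theorem isOpen_orbitCore [IsFinite G.s] (W : G.U.Opens) : IsOpen (orbitCore G (W : Set G.U)) := by
  have : orbitCore G (W : Set G.U) = (G.s '' (G.t ⁻¹' (W : Set G.U)ᶜ))ᶜ := by
    ext x
    simp only [orbitCore, Set.mem_setOf_eq, Set.mem_compl_iff, Set.mem_image, Set.mem_preimage]
    exact ⟨fun h ⟨r, hr, e⟩ => hr (h r e), fun h r e => by_contra fun hr => h ⟨r, hr, e⟩⟩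
  rw [this]
  exact (G.s.isClosedMap _ (W.2.isClosed_compl.preimage G.t.continuous)).isOpen_compl

theorem exists_invariant_affine_open [IsFinite G.s] [Flat G.s] [LocallyOfFinitePresentation G.s]
    (u : G.U) (V : G.U.Opens) (hV : IsAffineOpen V) (huV : ∀ r : G.R, G.s r = u → G.t r ∈ V) :
    ∃ W : G.U.Opens, IsAffineOpen W ∧ u ∈ W ∧ G.s ⁻¹ᵁ W = G.t ⁻¹ᵁ W := by
  classical
  have : IsAffine V := hV
  let W₁ : G.U.Opens := ⟨orbitCore G (V : Set G.U), isOpen_orbitCore G V⟩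
  have hW₁V : W₁ ≤ V := orbitCore_subset G _
  have hu : u ∈ W₁ := huV
  have horb : ∀ r, G.s r = u → G.t r ∈ W₁ := fun r hr => by
    have : r ∈ G.s ⁻¹' orbitCore G (V : Set G.U) := by
      show G.s r ∈ orbitCore G (V : Set G.U)
      rw [hr]; exact hu
    rwa [preimage_orbitCore] at this
  have hfin : (G.s ⁻¹' {u}).Finite := G.s.finite_preimage_singleton u
  let T : Finset V :=
    hfin.toFinset.attach.image fun r : {x // x ∈ hfin.toFinset} =>
      ⟨G.t r.1, hW₁V (horb r.1 ((Set.Finite.mem_toFinset hfin).1 r.2))⟩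
  obtain ⟨f, hfW, hfT⟩ := exists_basicOpen_subset_of_finite (V := (V : Scheme)) (V.ι ⁻¹ᵁ W₁) T
    fun x hx => by
      obtain ⟨r, -, rfl⟩ := Finset.mem_image.1 hx
      exact horb r.1 ((Set.Finite.mem_toFinset hfin).1 r.2)
  let V' : G.U.Opens := V.ι ''ᵁ (V : Scheme).basicOpen f
  have hV'aff : IsAffineOpen V' := (isAffineOpen_top (V : Scheme)).basicOpen f |>.image_of_isOpenImmersion _
  have hV'W : V' ≤ W₁ := by
    rintro _ ⟨y, hy, rfl⟩
    exact hfW hy
  have huV' : ∀ r, G.s r = u → G.t r ∈ V' := fun r hr =>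
    ⟨⟨G.t r, hW₁V (horb r hr)⟩, hfT _ (Finset.mem_image.2
      ⟨⟨r, (Set.Finite.mem_toFinset hfin).2 hr⟩, Finset.mem_attach _ _, rfl⟩), rfl⟩
  have : IsAffine V' := hV'aff
  let jt : ((G.s ⁻¹ᵁ V' : G.R.Opens) : Scheme) ⟶ (V : Scheme) :=
    IsOpenImmersion.lift V.ι ((G.s ⁻¹ᵁ V').ι ≫ G.t) (by
      rintro _ ⟨r, rfl⟩
      rw [Scheme.Opens.range_ι]
      have : r.1 ∈ G.s ⁻¹' orbitCore G (V : Set G.U) := hV'W r.2
      rw [preimage_orbitCore] at this
      exact orbitCore_subset G _ this)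
  obtain ⟨h, hh⟩ := exists_basicOpen_forall (G.s ∣_ V') (jt.appTop f)
  let W : G.U.Opens := V'.ι ''ᵁ (V' : Scheme).basicOpen h
  have hg : ∀ r : (G.s ⁻¹ᵁ V' : G.R.Opens), r ∈ Scheme.basicOpen _ (jt.appTop f) ↔ G.t r.1 ∈ V' := by
    intro r
    rw [← Scheme.preimage_basicOpen_top]
    have e : V.ι (jt r) = G.t r.1 := by
      rw [← Scheme.Hom.comp_apply, IsOpenImmersion.lift_fac]
      rfl
    show jt r ∈ (V : Scheme).basicOpen f ↔ _
    exact ⟨fun h => ⟨_, h, e⟩, fun ⟨y, hy, e'⟩ =>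
      (V.ι.isOpenEmbedding.injective (e'.trans e.symm)) ▸ hy⟩
  have hW : (W : Set G.U) = orbitCore G (V' : Set G.U) := by
    ext x
    constructor
    · rintro ⟨y, hy, rfl⟩ r hr
      have hr' : r ∈ G.s ⁻¹ᵁ V' := show G.s r ∈ V' from hr ▸ y.2
      exact (hg ⟨r, hr'⟩).1 ((hh y).1 hy ⟨r, hr'⟩ (Subtype.ext (by
        rw [morphismRestrict_base_coe]; exact hr)))
    · intro hx
      refine ⟨⟨x, orbitCore_subset G _ hx⟩, (hh _).2 fun r hr => (hg r).2 (hx _ ?_), rfl⟩
      rw [← morphismRestrict_base_coe, hr]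
  refine ⟨W, (isAffineOpen_top (V' : Scheme)).basicOpen h |>.image_of_isOpenImmersion _, ?_, ?_⟩
  · show u ∈ (W : Set G.U)
    rw [hW]
    exact huV'
  · refine TopologicalSpace.Opens.ext ?_
    show G.s ⁻¹' (W : Set G.U) = G.t ⁻¹' (W : Set G.U)
    rw [hW]
    exact preimage_orbitCore G _

end Groth.Agent.GrpdBasic
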