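import Groth.Agent.GrpdBasic.Strata2

/-! Finite presentation of the thickened stratum and generic points. -/

set_option autoImplicit false
universe u
open CategoryTheory CategoryTheory.Limits AlgebraicGeometry TopologicalSpace

namespace Groth.Agent.GrpdBasic

open Groth.Agent.FittMor

theorem lfp_subschemeι {X : Scheme.{u}} (I : X.IdealSheafData) {ι : Type*} (V : ι → X.affineOpens)
    (hV : ⨆ i, (V i).1 = ⊤) (h : ∀ i, (I.ideal (V i)).FG) :
    LocallyOfFinitePresentation I.subschemeι := by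
  refine (IsZariskiLocalAtTarget.iff_of_iSup_eq_top (P := @LocallyOfFinitePresentation)
    (fun i => (V i).1) hV).mpr fun i => ?_
  have : IsAffine ((V i).1 : Scheme.{u}) := (V i).2
  have : IsAffine (I.subschemeι ⁻¹ᵁ (V i).1 : Scheme.{u}) := (V i).2.preimage _
  refine (HasRingHomProperty.iff_of_isAffine (P := @LocallyOfFinitePresentation)).mpr ?_
  rw [morphismRestrict_appTop]
  have key : ∀ (W : X.affineOpens), W = V i →
      (I.subschemeι.app W.1).hom.FinitePresentation := by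
    rintro W rfl
    refine RingHom.FinitePresentation.of_surjective _
      (I.subschemeι.app_surjective _ (V i).2) ?_
    rw [I.ker_subschemeι_app]
    exact h i
  have hW := key ⟨(V i).1.ι ''ᵁ ⊤, (isAffineOpen_top _).image_of_isOpenImmersion _⟩
    (Subtype.ext (V i).1.ι_image_top)
  exact RingHom.FinitePresentation.comp
    (RingHom.FinitePresentation.of_bijective (ConcreteCategory.bijective_of_isIso
      (I.subscheme.presheaf.map (eqToHom (image_morphismRestrict_preimage I.subschemeι (V i).1 ⊤)).op)))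
    hW

theorem exists_pow_mul_eq_zero_of_minimal {A : Type*} [CommRing A] (p : Ideal A) [p.IsPrime]
    (hp : ∀ q : Ideal A, q.IsPrime → q ≤ p → q = p) {a : A} (ha : a ∈ p) :
    ∃ b ∉ p, IsNilpotent (b * a) := by
  by_contra hne
  push Not at hne
  let M : Submonoid A := p.primeCompl ⊔ Submonoid.powers a
  have hdis : Disjoint ((⊥ : Ideal A) : Set A) (M : Set A) := by
    rw [Set.disjoint_left]
    rintro x hx hxM
    obtain rfl : x = 0 := (Submodule.mem_bot A).mp hx
    obtain ⟨b, hb, c, ⟨n, rfl⟩, he⟩ := Submonoid.mem_sup.mp hxM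
    refine hne b hb ⟨n + 1, ?_⟩
    calc (b * a) ^ (n + 1) = (b * a ^ n) * (b ^ n * a) := by ring
      _ = 0 := by rw [he, zero_mul]
  obtain ⟨q, hq, -, hqM⟩ := Ideal.exists_le_prime_disjoint ⊥ M hdis
  have hqp : q ≤ p := fun x hx => by_contra fun hxp =>
    Set.disjoint_left.mp hqM hx ((le_sup_left : p.primeCompl ≤ M) hxp)
  obtain rfl := hp q hq hqp
  exact Set.disjoint_left.mp hqM ha ((le_sup_right : Submonoid.powers a ≤ M) ⟨1, pow_one a⟩)

theorem exists_nhd_subset_support {X : Scheme.{u}} (I : X.IdealSheafData) (V : X.affineOpens)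
    (hfg : (I.ideal V).FG) (u : X) (hu : u ∈ V.1) (hmin : ∀ x : X, x ⤳ u → x = u)
    (hsupp : u ∈ I.support) :
    ∃ O : X.Opens, u ∈ O ∧ (O : Set X) ⊆ I.support := by
  obtain ⟨p, hp⟩ : u ∈ Set.range V.2.fromSpec := by rw [V.2.range_fromSpec]; exact hu
  have hmem : ∀ q : PrimeSpectrum Γ(X, V.1),
      V.2.fromSpec q ∈ I.support ↔ (I.ideal V : Set Γ(X, V.1)) ⊆ q.asIdeal := by
    intro q
    have hq : V.2.fromSpec q ∈ V.1 := by
      have : V.2.fromSpec q ∈ Set.range V.2.fromSpec := ⟨q, rfl⟩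
      rwa [V.2.range_fromSpec] at this
    have h := Set.ext_iff.mp (I.coe_support_inter V) (V.2.fromSpec q)
    simp only [Set.mem_inter_iff, SetLike.mem_coe, hq, and_true] at h
    rw [h]
    change V.2.fromSpec q ∈ X.zeroLocus _ ↔ _
    exact Set.ext_iff.mp (IsAffineOpen.fromSpec_preimage_zeroLocus V.2 _) q
  have hpI : I.ideal V ≤ p.asIdeal := (hmem p).mp (hp ▸ hsupp)
  have hpmin : ∀ q : Ideal Γ(X, V.1), q.IsPrime → q ≤ p.asIdeal → q = p.asIdeal := by
    intro q hq hle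
    have hsp : V.2.fromSpec (⟨q, hq⟩ : PrimeSpectrum Γ(X, V.1)) ⤳ V.2.fromSpec p :=
      ((PrimeSpectrum.le_iff_specializes ⟨q, hq⟩ p).mp hle).map V.2.fromSpec.continuous
    rw [hp] at hsp
    exact congrArg PrimeSpectrum.asIdeal (V.2.fromSpec.isOpenEmbedding.injective
      ((hmin _ hsp).trans hp.symm))
  obtain ⟨S, hS⟩ := hfg
  have hb : ∀ a ∈ S, ∃ b ∉ p.asIdeal, IsNilpotent (b * a) := fun a ha =>
    exists_pow_mul_eq_zero_of_minimal p.asIdeal hpmin (hpI (hS ▸ Submodule.subset_span ha))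
  choose! b hb1 hb2 using hb
  let D : (Spec Γ(X, V.1)).Opens := PrimeSpectrum.basicOpen (∏ a ∈ S, b a)
  refine ⟨V.2.fromSpec ''ᵁ D, ⟨p, ?_, hp⟩, ?_⟩
  · exact fun h => ((Ideal.IsPrime.prod_mem_iff).mp h).elim fun a ha => hb1 a ha.1 ha.2
  · rintro _ ⟨q, hq, rfl⟩
    refine (hmem q).mpr ?_
    rw [← hS]
    refine Submodule.span_le.mpr fun a ha => ?_
    obtain ⟨n, hn⟩ := hb2 a ha
    refine (q.isPrime.mem_or_mem (q.isPrime.mem_of_pow_mem n (hn ▸ q.asIdeal.zero_mem))).resolve_left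
      fun h => hq ?_
    exact Ideal.IsPrime.prod_mem_iff.mpr ⟨a, ha, h⟩

variable {S : Scheme.{u}} (G : Grpd.GroupoidScheme S) [IsFinite G.s] [IsFinite G.t]
  [LocallyOfFinitePresentation G.s]

theorem fittSheaf_fg (r : ℕ) (V : G.U.affineOpens) : ((fittSheaf G.s r).ideal V).FG := by
  rw [fittSheaf_ideal]
  refine fittAt_fg _ (G.s.finite_app V.1 V.2) ?_ r
  rw [Scheme.Hom.app_eq_appLE]
  exact G.s.finitePresentation_appLE V.2 (V.2.preimage G.s) le_rfl

theorem lfp_goodIdeal : LocallyOfFinitePresentation (goodIdeal G).subschemeι := by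
  have hx : ∀ x : (goodW G : Scheme.{u}), ∃ (r : ℕ) (V : (goodW G : Scheme.{u}).affineOpens),
      x ∈ V.1 ∧ V.1 ≤ piece G r := by
    intro x
    obtain ⟨r, hr⟩ := exists_mem_piece G x
    obtain ⟨V, hV, hxV, hle⟩ := exists_isAffineOpen_mem_and_subset (U := piece G r) hr
    exact ⟨r, ⟨V, hV⟩, hxV, hle⟩
  choose r V hxV hle using hx
  refine lfp_subschemeι _ V (eq_top_iff.mpr fun x _ =>
    TopologicalSpace.Opens.mem_iSup.mpr ⟨x, hxV x⟩) fun x => ?_
  rw [goodIdeal_ideal G (V x) (hle x), Scheme.IdealSheafData.ideal_comap_of_isOpenImmersion]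
  have h := fittSheaf_fg G (r x) ⟨(goodW G).ι ''ᵁ (V x).1, (V x).2.image_of_isOpenImmersion _⟩
  let e := ((goodW G).ι.appIso (V x).1).symm.commRingCatIsoToRingEquiv
  have heq : Ideal.comap ((goodW G).ι.appIso (V x).1).inv.hom ((fittSheaf G.s (r x)).ideal
      ⟨(goodW G).ι ''ᵁ (V x).1, (V x).2.image_of_isOpenImmersion _⟩) = Ideal.map e.symm.toRingHom
      ((fittSheaf G.s (r x)).ideal
        ⟨(goodW G).ι ''ᵁ (V x).1, (V x).2.image_of_isOpenImmersion _⟩) :=
    (Ideal.map_symm e).symm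
  rw [heq]
  exact h.map _

theorem mem_goodW_of_generic (u : G.U)
    (hu : ∀ r : G.R, G.s r = u → ∀ x : G.U, x ⤳ G.t r → x = G.t r) : u ∈ goodW G := by
  obtain ⟨k, hk⟩ := exists_mem_stratum G u
  let O : G.U.Opens := sSup {O : G.U.Opens | (O : Set G.U) ⊆ stratum G k}
  have hO : (O : Set G.U) ⊆ stratum G k := fun x hx => by
    obtain ⟨O', hO', hx'⟩ := TopologicalSpace.Opens.mem_sSup.mp hx
    exact hO' hx'
  let V := avoid G ((O : Set G.U)ᶜ) O.2.isClosed_compl
  refine TopologicalSpace.Opens.mem_iSup.mpr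
    ⟨k, le_goodOpen G (r := k) (V := V) (avoid_inv G _ _) (fun v hv => ?_) ?_⟩
  · exact hO (by_contra fun h => hv ⟨G.e v, by simpa [s_e] using h, t_e G v⟩)
  · rintro ⟨w, hw, hwu⟩
    apply hw
    have hgen : ∀ x : G.U, x ⤳ G.s w → x = G.s w := by
      simpa only [t_i] using hu (G.i w) (by rw [s_i, hwu])
    have hsw : G.s w ∈ stratum G k := (mem_stratum_iff_s_t G k w).mpr (hwu ▸ hk)
    obtain ⟨A, hA, hmem, -⟩ := exists_isAffineOpen_mem_and_subset (x := G.s w) (U := ⊤) (by trivial)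
    obtain ⟨N, hN1, hN2⟩ := exists_nhd_subset_support _ ⟨A, hA⟩ (fittSheaf_fg G k _) (G.s w) hmem
      hgen hsw.1
    exact TopologicalSpace.Opens.mem_sSup.mpr
      ⟨N ⊓ (fittSheaf G.s (k + 1)).support.compl, fun x hx => ⟨hN2 hx.1, hx.2⟩, hN1, hsw.2⟩

end Groth.Agent.GrpdBasic
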