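import Groth.Prelude.Def_Grpd
import Groth.Prelude.Def_AlgGrp
import Groth.Agent.GrpSchField.Orbit
import Mathlib

/-! The groupoid scheme of an action of a group scheme. -/

set_option autoImplicit false
set_option backward.isDefEq.respectTransparency false
universe u
open CategoryTheory CategoryTheory.Limits MonoidalCategory CartesianMonoidalCategory MonObj
  AlgebraicGeometry

namespace Groth.Agent.GrpdBasic

open Groth.Agent.GrpSchField

namespace ActionGrpd

variable {S : Scheme.{u}} {G X : Over S} [GrpObj G] (a : AlgGrp.Action G X)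

/-- Pairs of composable arrows, over `S`. -/
noncomputable abbrev P : Over S :=
  Over.mk (pullback.fst (snd G X).left a.act.left ≫ (G ⊗ X).hom)

/-- first arrow -/
noncomputable abbrev A : P a ⟶ G ⊗ X := Over.homMk (pullback.fst (snd G X).left a.act.left) rfl

/-- second arrow -/
noncomputable abbrev B : P a ⟶ G ⊗ X :=
  Over.homMk (pullback.snd (snd G X).left a.act.left) (by
    change pullback.snd (snd G X).left a.act.left ≫ (G ⊗ X).hom =
      pullback.fst (snd G X).left a.act.left ≫ (G ⊗ X).hom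
    rw [← Over.w (snd G X), pullback.condition_assoc, Over.w a.act, Over.w (snd G X)])

/-- composition -/
noncomputable def c : (P a).left ⟶ (G ⊗ X).left :=
  (lift ((A a ≫ fst G X) * (B a ≫ fst G X)) (B a ≫ snd G X)).left

theorem pt_c {T : Over S} (α β : T ⟶ G ⊗ X) (h : α.left ≫ (snd G X).left = β.left ≫ a.act.left) :
    pullback.lift α.left β.left h ≫ c a =
      (lift ((α ≫ fst G X) * (β ≫ fst G X)) (β ≫ snd G X)).left := by
  let ℓ : T ⟶ P a := Over.homMk (pullback.lift α.left β.left h) (by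
    change pullback.lift α.left β.left h ≫ pullback.fst _ _ ≫ _ = _
    rw [pullback.lift_fst_assoc, Over.w α])
  have hA : ℓ ≫ A a = α := Over.OverMorphism.ext (pullback.lift_fst _ _ _)
  have hB : ℓ ≫ B a = β := Over.OverMorphism.ext (pullback.lift_snd _ _ _)
  change (ℓ ≫ lift ((A a ≫ fst G X) * (B a ≫ fst G X)) (B a ≫ snd G X)).left = _
  rw [comp_lift, MonObj.comp_mul, ← Category.assoc, ← Category.assoc, ← Category.assoc, hA, hB]

theorem exists_pt {T : Scheme.{u}} (α β : T ⟶ (G ⊗ X).left)
    (h : α ≫ (snd G X).left = β ≫ a.act.left) :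
    ∃ (T' : Over S) (e : T'.left = T) (α' β' : T' ⟶ G ⊗ X),
      α'.left = eqToHom e ≫ α ∧ β'.left = eqToHom e ≫ β ∧ α' ≫ snd G X = β' ≫ a.act := by
  refine ⟨Over.mk (β ≫ (G ⊗ X).hom), rfl, Over.homMk α ?_, Over.homMk β rfl,
    (Category.id_comp α).symm, (Category.id_comp β).symm, Over.OverMorphism.ext h⟩
  change α ≫ (G ⊗ X).hom = β ≫ (G ⊗ X).hom
  rw [← Over.w (snd G X), reassoc_of% h, Over.w a.act, Over.w (snd G X)]

theorem lift_fst' {T : Over S} (g : T ⟶ G) (x : T ⟶ X) : lift g x ≫ fst G X = g := lift_fst g x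

theorem lift_snd' {T : Over S} (g : T ⟶ G) (x : T ⟶ X) : lift g x ≫ snd G X = x := lift_snd g x

end ActionGrpd

open ActionGrpd in
/-- The groupoid of an action. -/
noncomputable abbrev actionGrpd {S : Scheme.{u}} {G X : Over S} [GrpObj G] (a : AlgGrp.Action G X) :
    Grpd.GroupoidScheme S where
  U := X.left
  R := (G ⊗ X).left
  pU := X.hom
  pR := (G ⊗ X).hom
  s := (snd G X).left
  t := a.act.left
  e := (lift (1 : X ⟶ G) (𝟙 X)).left
  i := (lift (fst G X)⁻¹ a.act).left
  c := c a
  s_over := Over.w _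
  t_over := Over.w _
  comp_s := by
    intro T α β h
    obtain ⟨T', e, α', β', hα, hβ, hh⟩ := exists_pt a α β h
    subst e
    simp only [eqToHom_refl, Category.id_comp] at hα hβ
    subst hα hβ
    rw [pt_c a α' β' h, ← Over.comp_left, ← Over.comp_left, lift_snd']
  comp_t := by
    intro T α β h
    obtain ⟨T', e, α', β', hα, hβ, hh⟩ := exists_pt a α β h
    subst e
    simp only [eqToHom_refl, Category.id_comp] at hα hβ
    subst hα hβ
    rw [pt_c a α' β' h, ← Over.comp_left, ← Over.comp_left, lift_act_mul]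
    congr 1
    rw [← lift_comp_fst_snd α', lift_fst', hh]
    congr 2
    exact (congrArg (· ≫ a.act) (lift_comp_fst_snd β'))
  assoc := by
    intro T α β δ h₁ h₂
    obtain ⟨T', e, α', β', hα, hβ, hh⟩ := exists_pt a α β h₁
    subst e
    simp only [eqToHom_refl, Category.id_comp] at hα hβ
    subst hα hβ
    have hδ : δ ≫ (G ⊗ X).hom = T'.hom := by
      rw [← Over.w a.act, ← reassoc_of% h₂, Over.w (snd G X), Over.w β']
    let δ' : T' ⟶ G ⊗ X := Over.homMk δ hδ
    have e1 := pt_c a α' β' h₁
    have e2 := pt_c a β' δ' h₂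
    have h₁' : (lift ((α' ≫ fst G X) * (β' ≫ fst G X)) (β' ≫ snd G X)).left ≫ (snd G X).left =
        δ'.left ≫ a.act.left := by
      rw [← Over.comp_left, lift_snd', Over.comp_left]; exact h₂
    have h₂' : α'.left ≫ (snd G X).left =
        (lift ((β' ≫ fst G X) * (δ' ≫ fst G X)) (δ' ≫ snd G X)).left ≫ a.act.left := by
      rw [← Over.comp_left, ← Over.comp_left, lift_act_mul, hh]
      congr 1
      rw [lift_comp_fst_snd δ',
        show δ' ≫ a.act = β' ≫ snd G X from (Over.OverMorphism.ext h₂).symm, lift_comp_fst_snd β']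
    calc _ = pullback.lift (lift ((α' ≫ fst G X) * (β' ≫ fst G X)) (β' ≫ snd G X)).left δ'.left
          h₁' ≫ c a := by congr 2
      _ = (lift ((α' ≫ fst G X) * (β' ≫ fst G X) * (δ' ≫ fst G X)) (δ' ≫ snd G X)).left := by
          rw [pt_c a _ δ' h₁', lift_fst']
      _ = pullback.lift α'.left
          (lift ((β' ≫ fst G X) * (δ' ≫ fst G X)) (δ' ≫ snd G X)).left h₂' ≫ c a := by
          rw [pt_c a α' _ h₂', lift_fst', lift_snd', _root_.mul_assoc]
      _ = _ := by congr 2; exact e2.symm
  e_s := by rw [← Over.comp_left, lift_snd']; rfl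
  e_t := by rw [← Over.comp_left, lift_act_one]; rfl
  comp_e := by
    intro T α
    let α' : Over.mk (α ≫ (G ⊗ X).hom) ⟶ G ⊗ X := Over.homMk α rfl
    have h : α'.left ≫ (snd G X).left =
        (α' ≫ snd G X ≫ lift (1 : X ⟶ G) (𝟙 X)).left ≫ a.act.left := by
      rw [← Over.comp_left, ← Over.comp_left, Category.assoc, Category.assoc, lift_act_one,
        Category.comp_id]
    refine (pt_c a α' (α' ≫ snd G X ≫ lift (1 : X ⟶ G) (𝟙 X)) h).trans ?_
    rw [Category.assoc, Category.assoc, lift_fst', Category.assoc, Category.assoc, lift_snd',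
      Category.comp_id, MonObj.comp_one, MonObj.comp_one, _root_.mul_one, lift_comp_fst_snd]
    rfl
  e_comp := by
    intro T α
    let α' : Over.mk (α ≫ (G ⊗ X).hom) ⟶ G ⊗ X := Over.homMk α rfl
    have h : (α' ≫ a.act ≫ lift (1 : X ⟶ G) (𝟙 X)).left ≫ (snd G X).left =
        α'.left ≫ a.act.left := by
      rw [← Over.comp_left, ← Over.comp_left, Category.assoc, Category.assoc, lift_snd',
        Category.comp_id]
    refine (pt_c a (α' ≫ a.act ≫ lift (1 : X ⟶ G) (𝟙 X)) α' h).trans ?_
    rw [Category.assoc, Category.assoc, lift_fst', MonObj.comp_one, MonObj.comp_one, _root_.one_mul,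
      lift_comp_fst_snd]
    rfl
  i_s := by rw [← Over.comp_left, lift_snd']
  i_t := by
    rw [← Over.comp_left]
    congr 1
    have : a.act = lift (fst G X) (snd G X) ≫ a.act := by rw [lift_fst_snd, Category.id_comp]
    conv_lhs => arg 1; arg 2; rw [this]
    rw [← lift_act_mul, inv_mul_cancel, lift_act_one]
  comp_i := by
    intro T α
    let α' : Over.mk (α ≫ (G ⊗ X).hom) ⟶ G ⊗ X := Over.homMk α rfl
    have hi : lift (fst G X)⁻¹ a.act ≫ a.act = snd G X := by
      have : a.act = lift (fst G X) (snd G X) ≫ a.act := by rw [lift_fst_snd, Category.id_comp]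
      conv_lhs => arg 1; arg 2; rw [this]
      rw [← lift_act_mul, inv_mul_cancel, lift_act_one]
    have h : α'.left ≫ (snd G X).left = (α' ≫ lift (fst G X)⁻¹ a.act).left ≫ a.act.left := by
      rw [← Over.comp_left, ← Over.comp_left, Category.assoc, hi]
    refine (pt_c a α' (α' ≫ lift (fst G X)⁻¹ a.act) h).trans ?_
    change _ = (α' ≫ a.act ≫ lift (1 : X ⟶ G) (𝟙 X)).left
    congr 1
    rw [Category.assoc, Category.assoc, lift_fst', lift_snd', GrpObj.comp_inv, mul_inv_cancel,
      comp_lift, comp_lift, MonObj.comp_one, MonObj.comp_one, Category.comp_id]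
  i_comp := by
    intro T α
    let α' : Over.mk (α ≫ (G ⊗ X).hom) ⟶ G ⊗ X := Over.homMk α rfl
    have h : (α' ≫ lift (fst G X)⁻¹ a.act).left ≫ (snd G X).left = α'.left ≫ a.act.left := by
      rw [← Over.comp_left, ← Over.comp_left, Category.assoc, lift_snd']
    refine (pt_c a (α' ≫ lift (fst G X)⁻¹ a.act) α' h).trans ?_
    change _ = (α' ≫ snd G X ≫ lift (1 : X ⟶ G) (𝟙 X)).left
    congr 1
    rw [Category.assoc, lift_fst', GrpObj.comp_inv, inv_mul_cancel,
      comp_lift, comp_lift, MonObj.comp_one, MonObj.comp_one, Category.comp_id]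

end Groth.Agent.GrpdBasic
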