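import Groth.Agent.GrpdBasic.Quot
import Mathlib.RingTheory.TensorProduct.MvPolynomial
import Mathlib.LinearAlgebra.Matrix.SchurComplement
import Mathlib.RingTheory.Flat.Basic

/-! Invariants after base change. -/

set_option autoImplicit false
universe u
open CategoryTheory CategoryTheory.Limits AlgebraicGeometry TensorProduct

namespace Groth.Agent.GrpdBasic

open GrpdFrame

attribute [local instance] MvPolynomial.algebraMvPolynomial

variable {σ : Type u}

/-- coefficientwise map, bundled -/
noncomputable def mvmap (σ : Type u) {A B : CommRingCat.{u}} (f : A ⟶ B) :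
    CommRingCat.of (MvPolynomial σ A) ⟶ CommRingCat.of (MvPolynomial σ B) :=
  CommRingCat.ofHom (MvPolynomial.map f.hom)

/-- constants, bundled -/
noncomputable def mvC (σ : Type u) (A : CommRingCat.{u}) : A ⟶ CommRingCat.of (MvPolynomial σ A) :=
  CommRingCat.ofHom MvPolynomial.C

theorem isPushout_mvC {A B : CommRingCat.{u}} (f : A ⟶ B) :
    CategoryTheory.IsPushout f (mvC σ A) (mvC σ B) (mvmap σ f) := by
  algebraize [f.hom]
  have h : CategoryTheory.IsPushout (CommRingCat.ofHom (algebraMap A B))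
      (CommRingCat.ofHom (algebraMap A (MvPolynomial σ A)))
      (CommRingCat.ofHom (algebraMap B (MvPolynomial σ B)))
      (CommRingCat.ofHom (algebraMap (MvPolynomial σ A) (MvPolynomial σ B))) :=
    CommRingCat.isPushout_iff_isPushout.2 inferInstance
  exact h

theorem isPushout_mvmap {A B A' C : CommRingCat.{u}} {f : A ⟶ B} {τ : A ⟶ A'} {inl : B ⟶ C}
    {inr : A' ⟶ C} (h : CategoryTheory.IsPushout f τ inl inr) :
    CategoryTheory.IsPushout (mvmap σ f) (mvmap σ τ) (mvmap σ inl) (mvmap σ inr) := by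
  have e₁ : τ ≫ mvC σ A' = mvC σ A ≫ mvmap σ τ := (isPushout_mvC τ).w
  have e₂ : inl ≫ mvC σ C = mvC σ B ≫ mvmap σ inl := (isPushout_mvC inl).w
  have big := h.paste_vert (isPushout_mvC (σ := σ) inr)
  rw [e₁, e₂] at big
  refine CategoryTheory.IsPushout.of_top big ?_ (isPushout_mvC f)
  refine CommRingCat.hom_ext (MvPolynomial.ringHom_ext (fun a => ?_) (fun i => ?_))
  · have := RingHom.congr_fun (congrArg CommRingCat.Hom.hom h.w) a
    simpa [mvmap] using congrArg (MvPolynomial.C (σ := σ)) this
  · simp [mvmap]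

/-- `y ↦ det (1 + (y - 1) E)` as a polynomial: its coefficients are the rank idempotents -/
noncomputable def rankPoly {A : Type*} [CommRing A] {n : ℕ} (E : Matrix (Fin n) (Fin n) A) :
    Polynomial A := (1 + ((Polynomial.X : Polynomial A) - 1) • E.map Polynomial.C).det

theorem rankPoly_eval₂ {A A' : Type*} [CommRing A] [CommRing A'] {n : ℕ}
    (E : Matrix (Fin n) (Fin n) A) (f : A →+* A') (y : A') :
    (rankPoly E).eval₂ f y = (1 + (y - 1) • E.map f).det := by
  rw [rankPoly, ← Polynomial.coe_eval₂RingHom, RingHom.map_det]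
  congr 1
  ext i j
  simp [Matrix.map_apply, Matrix.one_apply, apply_ite (Polynomial.eval₂ f y)]

theorem rankPoly_map {A A' : Type*} [CommRing A] [CommRing A'] {n : ℕ}
    (E : Matrix (Fin n) (Fin n) A) (f : A →+* A') :
    (rankPoly E).map f = rankPoly (E.map f) := by
  rw [Polynomial.map, rankPoly_eval₂, rankPoly, Matrix.map_map]
  rfl

theorem rankPoly_indep {A B : Type*} [CommRing A] [CommRing B] [Algebra A B] {n : ℕ}
    (F F' : Frame A B n) : rankPoly (emat F) = rankPoly (emat F') := by
  rw [← trans_mul_trans F F', ← trans_mul_trans F' F, rankPoly, rankPoly, Matrix.map_mul,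
    Matrix.map_mul, ← Matrix.smul_mul, Matrix.det_one_add_mul_comm, Matrix.mul_smul]

theorem rankPoly_natDegree {A : Type*} [CommRing A] {n : ℕ} (E : Matrix (Fin n) (Fin n) A) :
    (rankPoly E).natDegree ≤ n := by
  rw [rankPoly, Matrix.det_apply]
  refine Polynomial.natDegree_sum_le_of_forall_le _ _ fun p _ => ?_
  refine (Polynomial.natDegree_smul_le _ _).trans ((Polynomial.natDegree_prod_le _ _).trans ?_)
  refine (Finset.sum_le_sum fun i _ => (?_ : _ ≤ 1)).trans (by simp)
  rw [Matrix.add_apply, Matrix.smul_apply, smul_eq_mul, Matrix.map_apply, Matrix.one_apply]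
  compute_degree
  split_ifs <;> simp

/-- the rank idempotents turn `det (1 + (y - 1) E)` into a monomial -/
theorem coeff_rankPoly_mul {A A' : Type*} [CommRing A] [CommRing A'] {n : ℕ}
    {E : Matrix (Fin n) (Fin n) A} (hE : E * E = E) (f : A →+* A') (y : A') (r : ℕ) :
    f ((rankPoly E).coeff r) * (1 + (y - 1) • E.map f).det = f ((rankPoly E).coeff r) * y ^ r := by
  set q := rankPoly E with hq
  have hmul : (rankPoly (E.map f)) * Polynomial.C (q.eval₂ f y) =
      (rankPoly (E.map f)).comp (Polynomial.C y * Polynomial.X) := by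
    have hEc : (E.map f).map Polynomial.C * (E.map f).map Polynomial.C =
        (E.map f).map Polynomial.C := by
      rw [← Matrix.map_mul, ← Matrix.map_mul, hE]
    rw [rankPoly_eval₂, RingHom.map_det, Polynomial.comp, rankPoly_eval₂, rankPoly, ← Matrix.det_mul]
    congr 1
    have e : (RingHom.mapMatrix Polynomial.C) (1 + (y - 1) • E.map f) =
        1 + (Polynomial.C y - 1) • (E.map f).map Polynomial.C := by
      ext i j
      simp [Matrix.one_apply, apply_ite Polynomial.C]
    rw [e]
    set M := (E.map f).map Polynomial.C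
    simp only [Matrix.add_mul, Matrix.mul_add, Matrix.smul_mul, Matrix.mul_smul, Matrix.one_mul,
      Matrix.mul_one, hEc, smul_add, smul_smul, add_assoc, ← add_smul]
    congr 2
    ring
  have := congrArg (Polynomial.coeff · r) hmul
  simp only [Polynomial.coeff_mul_C, Polynomial.comp_C_mul_X_coeff, ← rankPoly_map,
    Polynomial.coeff_map] at this
  rw [rankPoly_eval₂] at this
  exact this

theorem sum_coeff_rankPoly {A : Type*} [CommRing A] {n : ℕ} (E : Matrix (Fin n) (Fin n) A) :
    ∑ r ∈ Finset.range (n + 1), (rankPoly E).coeff r = 1 := by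
  have h := rankPoly_eval₂ E (RingHom.id A) 1
  rw [Polynomial.eval₂_id, sub_self, zero_smul, add_zero, Matrix.det_one,
    Polynomial.eval_eq_sum_range' (Nat.lt_succ_of_le (rankPoly_natDegree E))] at h
  simpa using h

variable {S : Scheme.{u}} (G : Grpd.GroupoidScheme S) [IsAffine G.U] [IsAffine G.R]

theorem coeff_rankPoly_mem {n : ℕ}
    (F : letI := G.s.appTop.hom.toAlgebra; Frame Γ(G.U, ⊤) Γ(G.R, ⊤) n) (r : ℕ) :
    letI := G.s.appTop.hom.toAlgebra
    (rankPoly (emat F)).coeff r ∈ G.invariants := by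
  obtain ⟨F₁, hE₁, -, -⟩ :=
    exists_frame_base (isPushout_appTop_of_isPullback (IsPullback.of_hasPullback G.s G.t)) n F
  obtain ⟨F₂, hE₂, -, -⟩ :=
    exists_frame_base (isPushout_appTop_of_isPullback (isPullback_c G)) n F
  let _ : Algebra Γ(G.U, ⊤) Γ(G.R, ⊤) := G.s.appTop.hom.toAlgebra
  let _ : Algebra Γ(G.R, ⊤) Γ(pullback G.s G.t, ⊤) := (pullback.snd G.s G.t).appTop.hom.toAlgebra
  have h := congrArg (Polynomial.coeff · r) (rankPoly_indep F₁ F₂)
  rw [hE₁, hE₂, ← rankPoly_map, ← rankPoly_map] at h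
  simp only [Polynomial.coeff_map] at h
  exact h.symm

theorem coeff_rankPoly_zero {n : ℕ}
    (F : letI := G.s.appTop.hom.toAlgebra; Frame Γ(G.U, ⊤) Γ(G.R, ⊤) n) :
    letI := G.s.appTop.hom.toAlgebra
    (rankPoly (emat F)).coeff 0 = 0 := by
  let _ : Algebra Γ(G.U, ⊤) Γ(G.R, ⊤) := G.s.appTop.hom.toAlgebra
  set v : Fin n → Γ(G.U, ⊤) := fun k => F.φ k 1
  have hEv : (emat F).mulVec v = v := funext fun k => by
    conv_rhs => rw [show v k = F.φ k 1 from rfl, ← F.sum_eq 1, map_sum]
    simp [Matrix.mulVec, dotProduct, emat, v, mul_comm]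
  have hk : ((1 : Matrix (Fin n) (Fin n) Γ(G.U, ⊤)) + (0 - 1 : Γ(G.U, ⊤)) • emat F).mulVec v = 0 := by
    rw [Matrix.add_mulVec, Matrix.one_mulVec, Matrix.smul_mulVec, hEv, zero_sub, neg_one_smul,
      add_neg_cancel]
  have h0 := congrArg ((1 + (0 - 1 : Γ(G.U, ⊤)) • emat F).adjugate.mulVec) hk
  rw [Matrix.mulVec_mulVec, Matrix.adjugate_mul, Matrix.smul_mulVec, Matrix.one_mulVec,
    Matrix.mulVec_zero] at h0
  have hd : ∀ k, (rankPoly (emat F)).coeff 0 * v k = 0 := fun k => by
    have e := rankPoly_eval₂ (emat F) (RingHom.id Γ(G.U, ⊤)) 0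
    rw [Polynomial.eval₂_at_zero, RingHom.id_apply] at e
    rw [e, show (emat F).map (RingHom.id Γ(G.U, ⊤)) = emat F from rfl]
    exact congrFun h0 k
  have h1 : ∑ k, v k * G.e.appTop.hom (F.x k) = 1 := by
    have hes : ∀ f, G.e.appTop.hom (G.s.appTop.hom f) = f := fun f => by
      have := ConcreteCategory.congr_hom (congrArg Scheme.Hom.appTop G.e_s) f
      simpa using this
    have := congrArg G.e.appTop.hom (F.sum_eq 1)
    simp only [Algebra.smul_def, map_sum, map_mul, map_one, RingHom.algebraMap_toAlgebra, hes] at this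
    exact this
  calc (rankPoly (emat F)).coeff 0 = (rankPoly (emat F)).coeff 0 * 1 := (_root_.mul_one _).symm
    _ = 0 := by
      rw [← h1, Finset.mul_sum]
      exact Finset.sum_eq_zero fun k _ => by rw [← _root_.mul_assoc, hd, zero_mul]

variable [IsFinite G.s] [Flat G.s] [LocallyOfFinitePresentation G.s] [IsFinite G.t] [Flat G.t]
  [LocallyOfFinitePresentation G.t]

theorem exists_pow_poly (C' : Type u) [CommRing C'] [Algebra G.invariants C'] :
    letI : Algebra G.invariants Γ(G.R, ⊤) :=
      (G.s.appTop.hom.comp G.invariants.subtype).toAlgebra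
    ∀ (sT tT : TensorProduct G.invariants Γ(G.U, ⊤) C' →ₐ[G.invariants]
        TensorProduct G.invariants Γ(G.R, ⊤) C'),
    (∀ (a : Γ(G.U, ⊤)) (c : C'), sT (a ⊗ₜ c) = G.s.appTop.hom a ⊗ₜ c) →
    (∀ (a : Γ(G.U, ⊤)) (c : C'), tT (a ⊗ₜ c) = G.t.appTop.hom a ⊗ₜ c) →
    ∀ f : TensorProduct G.invariants Γ(G.U, ⊤) C', sT f = tT f →
      ∃ (N : ℕ) (P : Polynomial C'), 0 < N ∧
        Polynomial.map (Algebra.TensorProduct.includeRight :
          C' →ₐ[G.invariants] TensorProduct G.invariants Γ(G.U, ⊤) C').toRingHom P =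
        (Polynomial.X - Polynomial.C f) ^ N := by
  intro sT tT hs ht f hf
  let _ : Algebra G.invariants Γ(G.R, ⊤) := (G.s.appTop.hom.comp G.invariants.subtype).toAlgebra
  classical
  obtain ⟨n, ⟨F⟩⟩ := exists_frame_st G
  obtain ⟨S₀, hS₀⟩ := TensorProduct.exists_finset f
  let σ : Type u := Option S₀
  obtain ⟨F', -, -, hφ', hx'⟩ :=
    exists_frame_base (isPushout_mvC (σ := σ) G.s.appTop) n F
  let _ : Algebra Γ(G.U, ⊤) Γ(G.R, ⊤) := G.s.appTop.hom.toAlgebra
  let g : MvPolynomial σ Γ(G.U, ⊤) :=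
    1 - MvPolynomial.X none + ∑ p : S₀, MvPolynomial.C p.1.1 * MvPolynomial.X (some p)
  let gt : MvPolynomial σ Γ(G.R, ⊤) := MvPolynomial.map G.t.appTop.hom g
  let _ : Algebra (MvPolynomial σ Γ(G.U, ⊤)) (MvPolynomial σ Γ(G.R, ⊤)) :=
    (mvmap σ G.s.appTop).hom.toAlgebra
  let P₀ : MvPolynomial σ Γ(G.U, ⊤) := (mat F' gt).charpoly.eval 1
  have hP₀ : ∀ u, P₀.coeff u ∈ G.invariants := by
    have h₁ := isPushout_mvmap (σ := σ) (isPushout_appTop_of_isPullback (IsPullback.of_hasPullback G.s G.t))
    have h₂ := isPushout_mvmap (σ := σ) (isPushout_appTop_of_isPullback (isPullback_c G))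
    have hinv := map_charpoly (mvmap σ G.s.appTop) (mvmap σ G.t.appTop) _ _ _ h₁ h₂ g (by
      show (MvPolynomial.map G.c.appTop.hom) ((MvPolynomial.map G.t.appTop.hom) g) =
        (MvPolynomial.map (pullback.fst G.s G.t).appTop.hom) ((MvPolynomial.map G.t.appTop.hom) g)
      rw [MvPolynomial.map_map, MvPolynomial.map_map, ← CommRingCat.hom_comp, ← CommRingCat.hom_comp,
        c_t_appTop]) n F'
    intro u
    have h := congrArg (Polynomial.eval 1) hinv
    rw [Polynomial.eval_one_map, Polynomial.eval_one_map] at h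
    have := congrArg (MvPolynomial.coeff u) h
    simp only [mvmap, CommRingCat.hom_ofHom, MvPolynomial.coeff_map] at this
    exact this.symm
  obtain ⟨Pt, hPt⟩ : ∃ Pt, MvPolynomial.map G.invariants.subtype Pt = P₀ :=
    MvPolynomial.mem_range_map_iff_coeffs_subset.2 fun c hc => by
      obtain ⟨u, -, rfl⟩ := MvPolynomial.mem_coeffs_iff.1 hc
      exact ⟨⟨_, hP₀ u⟩, rfl⟩
  let A' := TensorProduct G.invariants Γ(G.U, ⊤) C'
  let iA : Γ(G.U, ⊤) →+* A' := Algebra.TensorProduct.includeLeftRingHom
  let iC : C' →+* A' :=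
    (Algebra.TensorProduct.includeRight : C' →ₐ[G.invariants] A').toRingHom
  let val : σ → Polynomial C' := fun o => o.elim Polynomial.X fun p => Polynomial.C p.1.2
  let D : Polynomial C' :=
    MvPolynomial.eval₂ (Polynomial.C.comp (algebraMap G.invariants C')) val Pt
  let ψ : MvPolynomial σ Γ(G.U, ⊤) →+* Polynomial A' :=
    MvPolynomial.eval₂Hom (Polynomial.C.comp iA) (fun o => (val o).map iC)
  have hD : D.map iC = ψ P₀ := by
    rw [← hPt]
    show (Polynomial.mapRingHom iC).comp (MvPolynomial.eval₂Hom _ val) Pt =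
      ψ.comp (MvPolynomial.map G.invariants.subtype) Pt
    refine RingHom.congr_fun (MvPolynomial.ringHom_ext (fun c => ?_) (fun o => ?_)) Pt
    · simp only [RingHom.comp_apply, MvPolynomial.eval₂Hom_C, MvPolynomial.map_C, ψ,
        Polynomial.coe_mapRingHom, Polynomial.map_C]
      congr 1
      show (1 : Γ(G.U, ⊤)) ⊗ₜ[G.invariants] (algebraMap G.invariants C' c) = (c : Γ(G.U, ⊤)) ⊗ₜ 1
      rw [← Algebra.TensorProduct.algebraMap_apply' (A := Γ(G.U, ⊤)) (B := C') c]
      rfl
    · simp [ψ]
  -- the matrix of multiplication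
  have hmat : (mat F' gt).map ψ = (1 - Polynomial.X + Polynomial.C f) •
      ((emat F).map iA).map Polynomial.C := by
    refine Matrix.ext fun k l => ?_
    let Λ : TensorProduct G.invariants Γ(G.R, ⊤) C' →+ A' :=
      (TensorProduct.map ({ toFun := fun b => F.φ k (b * F.x l)
                            map_add' := fun b b' => by rw [add_mul, map_add]
                            map_smul' := fun c b => by
                              show F.φ k (G.s.appTop.hom c * b * F.x l) = (c : Γ(G.U, ⊤)) * F.φ k (b * F.x l)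
                              rw [_root_.mul_assoc, ← smul_eq_mul (c : Γ(G.U, ⊤)), ← map_smul]
                              rfl } : Γ(G.R, ⊤) →ₗ[G.invariants] Γ(G.U, ⊤))
        LinearMap.id).toAddMonoidHom
    have hΛs : ∀ z : A', Λ (sT z) = z * iA (F.φ k (F.x l)) := by
      intro z
      induction z using TensorProduct.induction_on with
      | zero => simp
      | add z w hz hw => rw [map_add, map_add, hz, hw, add_mul]
      | tmul a c =>
        rw [hs]
        show F.φ k (G.s.appTop.hom a * F.x l) ⊗ₜ[G.invariants] c = _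
        rw [show G.s.appTop.hom a * F.x l = a • F.x l from (Algebra.smul_def _ _).symm, map_smul]
        show _ = (a ⊗ₜ[G.invariants] c) * (F.φ k (F.x l) ⊗ₜ[G.invariants] (1 : C'))
        rw [Algebra.TensorProduct.tmul_mul_tmul, _root_.mul_one, smul_eq_mul]
    have hΛt : Λ (tT f) = ∑ p : S₀, iA (F.φ k (G.t.appTop.hom p.1.1 * F.x l)) * iC p.1.2 := by
      conv_lhs => rw [hS₀, ← Finset.sum_coe_sort S₀ (fun p => p.1 ⊗ₜ[G.invariants] p.2)]
      rw [map_sum, map_sum]
      refine Finset.sum_congr rfl fun p _ => ?_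
      rw [ht]
      show F.φ k (G.t.appTop.hom p.1.1 * F.x l) ⊗ₜ[G.invariants] p.1.2 = _
      show _ = (_ ⊗ₜ[G.invariants] (1 : C')) * ((1 : Γ(G.U, ⊤)) ⊗ₜ[G.invariants] p.1.2)
      rw [Algebra.TensorProduct.tmul_mul_tmul, _root_.mul_one, _root_.one_mul]
    rw [← hf, hΛs] at hΛt
    have hφ : ∀ (k : Fin n) (a : MvPolynomial σ Γ(G.U, ⊤)) (b : Γ(G.R, ⊤)),
        F'.φ k (MvPolynomial.map G.s.appTop.hom a * MvPolynomial.C b) =
          a * MvPolynomial.C (F.φ k b) := hφ'
    have hx : F'.x l = MvPolynomial.C (F.x l) := hx' l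
    have hgt : gt * F'.x l = MvPolynomial.map G.s.appTop.hom (1 - MvPolynomial.X none) *
          MvPolynomial.C (F.x l) + ∑ p : S₀, MvPolynomial.map G.s.appTop.hom (MvPolynomial.X (some p)) *
            MvPolynomial.C (G.t.appTop.hom p.1.1 * F.x l) := by
      simp only [gt, g, hx, map_add, map_sub, map_one, map_sum, map_mul, MvPolynomial.map_C,
        MvPolynomial.map_X, add_mul, Finset.sum_mul]
      congr 1
      exact Finset.sum_congr rfl fun p _ => by ring
    have hval : F'.φ k (gt * F'.x l) =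
        (1 - MvPolynomial.X none) * MvPolynomial.C (F.φ k (F.x l)) +
          ∑ p : S₀, MvPolynomial.X (some p) *
            MvPolynomial.C (F.φ k (G.t.appTop.hom p.1.1 * F.x l)) := by
      rw [hgt, map_add, map_sum]
      simp only [hφ]
    show ψ (F'.φ k (gt * F'.x l)) = _
    rw [hval, map_add, map_mul, map_sub, map_one, map_sum]
    simp only [map_mul, ψ, MvPolynomial.eval₂Hom_C, MvPolynomial.eval₂Hom_X', val, Option.elim,
      RingHom.comp_apply, Polynomial.map_X, Polynomial.map_C, Matrix.smul_apply, Matrix.map_apply,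
      smul_eq_mul, emat, Matrix.of_apply]
    rw [add_mul, ← Polynomial.C_mul (a := f), hΛt, map_sum]
    congr 1
    exact Finset.sum_congr rfl fun p _ => by rw [← Polynomial.C_mul, _root_.mul_comm]
  let E' := (emat F).map iA
  have hE2 : emat F * emat F = emat F := emat_idem F
  let y : Polynomial A' := Polynomial.X - Polynomial.C f
  have hψ : ψ P₀ = (1 + (y - 1) • E'.map Polynomial.C).det := by
    rw [← Polynomial.eval₂_at_one, ← Polynomial.eval_map, ← Matrix.charpoly_map, hmat, Matrix.eval_charpoly]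
    congr 1
    rw [show y - 1 = -(1 - Polynomial.X + Polynomial.C f) by simp only [y]; ring]
    refine Eq.trans ?_ (sub_eq_add_neg _ _ |>.trans (congrArg _ (neg_smul _ _).symm))
    rw [map_one]
  let ε : ℕ → C' := fun r => algebraMap G.invariants C' ⟨_, coeff_rankPoly_mem G F r⟩
  have hε : ∀ r, iC (ε r) = iA ((rankPoly (emat F)).coeff r) := fun r => by
    show (1 : Γ(G.U, ⊤)) ⊗ₜ[G.invariants] (algebraMap G.invariants C' _) = _ ⊗ₜ 1
    exact (Algebra.TensorProduct.algebraMap_apply' (A := Γ(G.U, ⊤)) (B := C') _).symm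
  refine ⟨n.factorial, ∑ r ∈ Finset.range (n + 1), Polynomial.C (ε r) * D ^ (n.factorial / r),
    n.factorial_pos, ?_⟩
  rw [Polynomial.map_sum]
  calc _ = ∑ r ∈ Finset.range (n + 1),
        Polynomial.C (iA ((rankPoly (emat F)).coeff r)) * y ^ n.factorial := by
        refine Finset.sum_congr rfl fun r hr => ?_
        rw [Polynomial.map_mul, Polynomial.map_C, Polynomial.map_pow]
        erw [hε r, hD]
        rw [hψ]
        rcases Nat.eq_zero_or_pos r with rfl | hr0
        · rw [coeff_rankPoly_zero G F, map_zero, map_zero, zero_mul, zero_mul]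
        have key := coeff_rankPoly_mul hE2 (Polynomial.C.comp iA) y r
        simp only [RingHom.comp_apply] at key
        rw [show (emat F).map (Polynomial.C.comp iA) = E'.map Polynomial.C by
          ext; rfl] at key
        have hdvd : r ∣ n.factorial :=
          Nat.dvd_factorial hr0 (Nat.lt_succ_iff.1 (Finset.mem_range.1 hr))
        conv_rhs => rw [← Nat.mul_div_cancel' hdvd]
        generalize n.factorial / r = j
        clear hψ hD hdvd
        induction j with
        | zero => simp
        | succ j ih =>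
          rw [pow_succ, ← _root_.mul_assoc, ih, _root_.mul_right_comm, key, _root_.mul_right_comm,
            _root_.mul_assoc, ← pow_add, Nat.mul_succ]
    _ = _ := by
        rw [← Finset.sum_mul, ← map_sum, ← map_sum, sum_coeff_rankPoly, map_one, map_one,
          _root_.one_mul]

end Groth.Agent.GrpdBasic
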