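import Mathlib.LinearAlgebra.Matrix.Charpoly.LinearMap
import Mathlib.LinearAlgebra.Matrix.Charpoly.Basic
import Mathlib.RingTheory.IsTensorProduct
import Mathlib.RingTheory.Norm.Basic
import Mathlib.Algebra.Module.FinitePresentation
import Mathlib.RingTheory.Finiteness.ModuleFinitePresentation
import Mathlib.RingTheory.Flat.EquationalCriterion

/-! Characteristic polynomials of multiplication through a finite frame of a projective algebra. -/

set_option autoImplicit false
universe u v
open Polynomial Matrix

namespace Groth.Agent.GrpdFrame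

/-- a finite frame: `b = ∑ φ k b • x k` -/
structure Frame (A : Type u) (B : Type v) [CommRing A] [CommRing B] [Algebra A B] (n : ℕ) where
  x : Fin n → B
  φ : Fin n → B →ₗ[A] A
  sum_eq : ∀ b : B, ∑ k, φ k b • x k = b

variable {A : Type u} {B : Type v} [CommRing A] [CommRing B] [Algebra A B] {n : ℕ}

/-- matrix of multiplication -/
def mat (F : Frame A B n) (m : B) : Matrix (Fin n) (Fin n) A :=
  Matrix.of fun k l => F.φ k (m * F.x l)

theorem charpoly_indep (F F' : Frame A B n) (m : B) :
    (mat F m).charpoly = (mat F' m).charpoly := by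
  let P : Matrix (Fin n) (Fin n) A := Matrix.of fun k j => F.φ k (F'.x j)
  let Q : Matrix (Fin n) (Fin n) A := Matrix.of fun j l => F'.φ j (m * F.x l)
  have h1 : P * Q = mat F m := by
    ext k l
    conv_rhs => rw [mat, Matrix.of_apply, ← F'.sum_eq (m * F.x l), map_sum]
    simp [P, Q, Matrix.mul_apply, mul_comm]
  have h2 : Q * P = mat F' m := by
    ext j j'
    conv_rhs => rw [mat, Matrix.of_apply, ← F.sum_eq (F'.x j'), Finset.mul_sum, map_sum]
    simp [P, Q, Matrix.mul_apply, mul_comm]
  rw [← h1, ← h2, Matrix.charpoly_mul_comm]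

theorem mat_pow_apply (F : Frame A B n) (m : B) (j : ℕ) :
    ∀ l, ∑ k, (mat F m ^ j) k l • F.x k = m ^ j * F.x l := by
  induction j with
  | zero => intro l; simp [Matrix.one_apply]
  | succ j ih =>
    intro l
    calc ∑ k, (mat F m ^ (j + 1)) k l • F.x k
        = ∑ i, mat F m i l • ∑ k, (mat F m ^ j) k i • F.x k := by
          simp only [pow_succ, Matrix.mul_apply, Finset.sum_smul, Finset.smul_sum, smul_smul]
          rw [Finset.sum_comm]
          simp only [mul_comm]
      _ = m ^ j * ∑ i, mat F m i l • F.x i := by
          simp only [ih, Finset.mul_sum, mul_smul_comm]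
      _ = m ^ (j + 1) * F.x l := by
          rw [show ∑ i, mat F m i l • F.x i = m * F.x l from F.sum_eq _, pow_succ, mul_assoc]

theorem mat_aeval_apply (F : Frame A B n) (m : B) (p : A[X]) (l : Fin n) :
    ∑ k, (aeval (mat F m) p) k l • F.x k = aeval m p * F.x l := by
  induction p using Polynomial.induction_on' with
  | add p q hp hq =>
    simp only [map_add, Matrix.add_apply, add_smul, Finset.sum_add_distrib, hp, hq, add_mul]
  | monomial j a =>
    simp only [aeval_monomial, ← Algebra.smul_def, Matrix.smul_apply, smul_mul_assoc, smul_eq_mul,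
      mul_smul, ← Finset.smul_sum, mat_pow_apply]

theorem aeval_charpoly (F : Frame A B n) (m : B) : aeval m (mat F m).charpoly = 0 := by
  have h : ∀ l, aeval m (mat F m).charpoly * F.x l = 0 := fun l => by
    rw [← mat_aeval_apply, Matrix.aeval_self_charpoly]; simp
  rw [← mul_one (aeval m (mat F m).charpoly), ← F.sum_eq 1, Finset.mul_sum]
  exact Finset.sum_eq_zero fun k _ => by rw [mul_smul_comm, h, smul_zero]

theorem exists_frame [Module.Finite A B] [Module.Projective A B] :
    ∃ n : ℕ, Nonempty (Frame A B n) := by
  obtain ⟨n, f, g, -, -, hfg⟩ := Module.Finite.exists_comp_eq_id_of_projective A B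
  refine ⟨n, ⟨⟨fun k => f (Pi.single k 1), fun k => (LinearMap.proj k).comp g, fun b => ?_⟩⟩⟩
  conv_rhs => rw [← LinearMap.id_apply (R := A) b, ← hfg, LinearMap.comp_apply,
    pi_eq_sum_univ' (g b), map_sum]
  simp [map_smul]

/-- the frame of a basis -/
noncomputable def ofBasis (b : Module.Basis (Fin n) A B) : Frame A B n where
  x := b
  φ := b.coord
  sum_eq := fun x => b.sum_repr x

theorem norm_eq_det (b : Module.Basis (Fin n) A B) (m : B) :
    Algebra.norm A m = (mat (ofBasis b) m).det := by
  rw [Algebra.norm_eq_matrix_det b]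
  congr 1
  ext k l
  simp [mat, ofBasis, Algebra.leftMulMatrix_eq_repr_mul]

section BaseChange

variable {A' : Type*} {C : Type*} [CommRing A'] [CommRing C] [Algebra A A'] [Algebra B C]
  [Algebra A' C] [Algebra A C] [IsScalarTower A B C] [IsScalarTower A A' C]

theorem exists_baseChange (F : Frame A B n) [h : Algebra.IsPushout A A' B C] :
    ∃ G : Frame A' C n, ∀ m : B, mat G (algebraMap B C m) = (mat F m).map (algebraMap A A') := by
  let φ' : Fin n → C →ₗ[A'] A' := fun k => h.out.lift ((Algebra.linearMap A A').comp (F.φ k))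
  have hφ : ∀ k b, φ' k (algebraMap B C b) = algebraMap A A' (F.φ k b) := fun k b =>
    IsBaseChange.lift_eq h.out _ b
  refine ⟨⟨fun k => algebraMap B C (F.x k), φ', fun c => ?_⟩, fun m => ?_⟩
  · induction c using h.out.inductionOn with
    | zero => simp
    | tmul b =>
      show ∑ k, φ' k (algebraMap B C b) • algebraMap B C (F.x k) = algebraMap B C b
      conv_rhs => rw [← F.sum_eq b, map_sum]
      refine Finset.sum_congr rfl fun k _ => ?_
      rw [hφ, algebraMap_smul, Algebra.smul_def, Algebra.smul_def, map_mul,
        ← IsScalarTower.algebraMap_apply A B C]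
    | smul r c hc => simp only [map_smul, smul_eq_mul, mul_smul, ← Finset.smul_sum, hc]
    | add c d hc hd => simp only [map_add, add_smul, Finset.sum_add_distrib, hc, hd]
  · ext k l
    simp [mat, ← map_mul, hφ]

end BaseChange

end Groth.Agent.GrpdFrame
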