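import Groth.Agent.GrpdBasic.Frame
import Mathlib.RingTheory.Ideal.Quotient.Basic
import Mathlib.LinearAlgebra.Matrix.Adjugate
import Mathlib.LinearAlgebra.Matrix.NonsingularInverse
import Mathlib.LinearAlgebra.Matrix.Rank

/-! When do given elements form a basis, read through a frame. -/

set_option autoImplicit false
universe u v
open Matrix

namespace Groth.Agent.GrpdFrame

variable {A : Type u} {B : Type v} [CommRing A] [CommRing B] [Algebra A B] {n d : ℕ}

/-- coordinates of a family -/
def pmat (F : Frame A B n) (z : Fin d → B) : Matrix (Fin n) (Fin d) A :=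
  Matrix.of fun k i => F.φ k (z i)

/-- the idempotent of a frame -/
def emat (F : Frame A B n) : Matrix (Fin n) (Fin n) A := Matrix.of fun k l => F.φ k (F.x l)

theorem emat_mul_pmat (F : Frame A B n) (z : Fin d → B) : emat F * pmat F z = pmat F z := by
  ext k i
  conv_rhs => rw [pmat, Matrix.of_apply, ← F.sum_eq (z i), map_sum]
  simp [emat, pmat, Matrix.mul_apply, mul_comm]

theorem emat_idem (F : Frame A B n) : emat F * emat F = emat F := emat_mul_pmat F F.x

/-- transition matrix -/
def trans (F F' : Frame A B n) : Matrix (Fin n) (Fin n) A := pmat F F'.x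

theorem trans_mul_pmat (F F' : Frame A B n) (z : Fin d → B) :
    trans F F' * pmat F' z = pmat F z := by
  ext k i
  conv_rhs => rw [pmat, Matrix.of_apply, ← F'.sum_eq (z i), map_sum]
  simp [trans, pmat, Matrix.mul_apply, mul_comm]

theorem trans_mul_emat (F F' : Frame A B n) : trans F F' * emat F' = trans F F' :=
  trans_mul_pmat F F' F'.x

theorem trans_mul_trans (F F' : Frame A B n) : trans F F' * trans F' F = emat F :=
  trans_mul_pmat F F' F.x

/-- `Q` shows that a family is a basis after inverting `a` -/
def IsBasisAt (P : Matrix (Fin n) (Fin d) A) (E : Matrix (Fin n) (Fin n) A) (a : A)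
    (Q : Matrix (Fin d) (Fin n) A) : Prop :=
  Q * P = a • (1 : Matrix (Fin d) (Fin d) A) ∧ P * Q = a • E

theorem isBasisAt_trans {A' : Type*} [CommRing A'] (F F' : Frame A B n) (z : Fin d → B) (y : A →+* A')
    (a : A') (Q : Matrix (Fin d) (Fin n) A')
    (h : IsBasisAt ((pmat F' z).map y) ((emat F').map y) a Q) :
    IsBasisAt ((pmat F z).map y) ((emat F).map y) a (Q * (trans F' F).map y) := by
  refine ⟨?_, ?_⟩
  · rw [Matrix.mul_assoc, ← Matrix.map_mul, trans_mul_pmat, h.1]
  · rw [← trans_mul_pmat F F' z, Matrix.map_mul, Matrix.mul_assoc, ← Matrix.mul_assoc ((pmat F' z).map y),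
      h.2, Matrix.smul_mul, Matrix.mul_smul, ← Matrix.mul_assoc, ← Matrix.map_mul, trans_mul_emat,
      ← Matrix.map_mul, trans_mul_trans]

theorem exists_isBasisAt_basis {k : Type*} [CommRing k] {C : Type*} [CommRing C] [Algebra k C]
    (G : Frame k C n) (b : Module.Basis (Fin d) k C) :
    ∃ Q, IsBasisAt (pmat G b) (emat G) 1 Q := by
  refine ⟨Matrix.of fun i l => b.repr (G.x l) i, ?_, ?_⟩
  · ext i i'
    rw [one_smul, Matrix.mul_apply]
    have := congrArg (fun v => b.repr v i) (G.sum_eq (b i'))
    simp only [map_sum, map_smul, Finsupp.coe_finsetSum, Finset.sum_apply, Finsupp.smul_apply,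
      smul_eq_mul, b.repr_self] at this
    rw [Finsupp.single_apply] at this
    simp only [Matrix.of_apply, pmat]
    rw [Matrix.one_apply]
    simpa [mul_comm, eq_comm] using this
  · ext k' l
    rw [one_smul, Matrix.mul_apply]
    conv_rhs => rw [emat, Matrix.of_apply, ← b.sum_repr (G.x l), map_sum]
    simp [pmat, mul_comm]

theorem exists_isBasisAt_notMem (P : Matrix (Fin n) (Fin d) A) (E : Matrix (Fin n) (Fin n) A)
    (hEE : E * E = E) (hEP : E * P = P) {k : Type*} [Field k] (x : A →+* k)
    (Q' : Matrix (Fin d) (Fin n) k) (h : IsBasisAt (P.map x) (E.map x) 1 Q') :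
    ∃ a Q, x a ≠ 0 ∧ IsBasisAt P E a Q := by
  classical
  obtain ⟨hQP, hPQ⟩ := h
  rw [one_smul] at hQP hPQ
  -- a left inverse over `A` up to a unit at `x`
  obtain ⟨δ, Q₀, hδ, hQ₀⟩ : ∃ δ Q₀, x δ ≠ 0 ∧ Q₀ * P = δ • (1 : Matrix (Fin d) (Fin d) A) := by
    have hinj : Function.Injective (P.map x).mulVec := fun v w hvw => by
      have := congrArg Q'.mulVec hvw
      simpa [Matrix.mulVec_mulVec, hQP] using this
    have hli : LinearIndependent k (fun i => (P.map x).col i) :=
      Matrix.mulVec_injective_iff.1 hinj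
    have hrank : (P.map x).rank = d := by simpa using hli.rank_matrix
    obtain ⟨rows, hrows⟩ : ∃ rows : Fin d → Fin n, ((P.map x).submatrix rows id).det ≠ 0 := by
      have hspan : Submodule.span k (Set.range (P.map x).row) = ⊤ := by
        apply Submodule.eq_top_of_finrank_eq
        rw [← Matrix.rank_eq_finrank_span_row, hrank]
        simp
      obtain ⟨κ, a, ha, hsp, hind⟩ := exists_linearIndependent' k (P.map x).row
      have : Finite κ := Finite.of_injective a ha
      let _ : Fintype κ := Fintype.ofFinite κ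
      let bas := Module.Basis.mk hind (by rw [hsp, hspan])
      have hcard : Fintype.card κ = d := by
        rw [← Module.finrank_eq_card_basis bas]; simp
      let e : Fin d ≃ κ := (Fintype.equivFinOfCardEq hcard).symm
      refine ⟨fun i => a (e i), fun hdet => ?_⟩
      have hu : IsUnit ((P.map x).submatrix (fun i => a (e i)) id) :=
        Matrix.linearIndependent_rows_iff_isUnit.1 (hind.comp e e.injective)
      exact ((Matrix.isUnit_iff_isUnit_det _).1 hu).ne_zero hdet
    refine ⟨(P.submatrix rows id).det, (P.submatrix rows id).adjugate *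
      (1 : Matrix (Fin n) (Fin n) A).submatrix rows id, ?_, ?_⟩
    · rwa [RingHom.map_det]
    · rw [Matrix.mul_assoc, show (1 : Matrix (Fin n) (Fin n) A).submatrix rows id * P =
          P.submatrix rows id from by ext i j; simp [Matrix.mul_apply, Matrix.one_apply],
        Matrix.adjugate_mul]
  let D := δ • E - P * Q₀ * E
  have hDP : D * P = 0 := by
    rw [Matrix.sub_mul, Matrix.smul_mul, hEP, Matrix.mul_assoc, hEP, Matrix.mul_assoc, hQ₀,
      Matrix.mul_smul, Matrix.mul_one, sub_self]
  have hDE : D * E = D := by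
    rw [Matrix.sub_mul, Matrix.smul_mul, hEE, Matrix.mul_assoc, hEE]
  have hDD : D * D = δ • D := by
    show D * (δ • E - P * Q₀ * E) = δ • D
    rw [Matrix.mul_sub, Matrix.mul_smul, hDE, Matrix.mul_assoc, ← Matrix.mul_assoc, hDP,
      Matrix.zero_mul, sub_zero]
  have hD0 : D.map x = 0 := by
    rw [← hDE, Matrix.map_mul, ← hPQ, ← Matrix.mul_assoc, ← Matrix.map_mul, hDP]
    simp
  let N := δ • (1 : Matrix (Fin n) (Fin n) A) - D
  have hND : N * D = 0 := by
    rw [Matrix.sub_mul, Matrix.smul_mul, Matrix.one_mul, hDD, sub_self]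
  have hηD : N.det • D = 0 := by
    have := congrArg (N.adjugate * ·) hND
    simpa [← Matrix.mul_assoc, Matrix.adjugate_mul] using this
  have hη : x N.det ≠ 0 := by
    have hN : N.map x = x δ • (1 : Matrix (Fin n) (Fin n) k) := by
      ext i j
      have hij : x (D i j) = 0 := congrFun (congrFun hD0 i) j
      simp [N, hij, Matrix.one_apply, apply_ite x]
    rw [RingHom.map_det, RingHom.mapMatrix_apply, hN, Matrix.det_smul, Matrix.det_one, mul_one]
    exact pow_ne_zero _ hδ
  refine ⟨N.det * δ, N.det • (Q₀ * E), by rw [map_mul]; exact mul_ne_zero hη hδ, ?_, ?_⟩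
  · rw [Matrix.smul_mul, Matrix.mul_assoc, hEP, hQ₀, smul_smul]
  · rw [Matrix.mul_smul, ← Matrix.mul_assoc]
    rw [← sub_eq_zero, mul_smul, ← smul_sub, ← neg_sub, smul_neg]
    exact neg_eq_zero.2 hηD

theorem coords (F : Frame A B n) (z : Fin d → B) (a : A) (Q : Matrix (Fin d) (Fin n) A)
    (h : IsBasisAt (pmat F z) (emat F) a Q) :
    ∃ L : Fin d → B →ₗ[A] A, (∀ i j, L i (z j) = if i = j then a else 0) ∧
      ∀ b, ∑ i, L i b • z i = a • b := by
  refine ⟨fun i => ∑ k, Q i k • F.φ k, fun i j => ?_, fun b => ?_⟩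
  · have := congrFun (congrFun h.1 i) j
    simpa [Matrix.mul_apply, pmat, Matrix.one_apply] using this
  · calc ∑ i, (∑ k, Q i k • F.φ k) b • z i
        = ∑ i, ∑ k, ∑ l, (F.φ l (z i) * Q i k * F.φ k b) • F.x l := by
          refine Finset.sum_congr rfl fun i _ => ?_
          rw [LinearMap.sum_apply, Finset.sum_smul]
          refine Finset.sum_congr rfl fun k _ => ?_
          conv_lhs => rw [← F.sum_eq (z i), Finset.smul_sum]
          refine Finset.sum_congr rfl fun l _ => ?_
          rw [smul_smul, LinearMap.smul_apply, smul_eq_mul]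
          congr 1
          ring
      _ = ∑ l, (∑ k, (pmat F z * Q) l k * F.φ k b) • F.x l := by
          rw [Finset.sum_comm]
          conv_lhs => arg 2; ext k; rw [Finset.sum_comm]
          rw [Finset.sum_comm]
          refine Finset.sum_congr rfl fun l _ => ?_
          simp only [Matrix.mul_apply, Finset.sum_mul, Finset.sum_smul]
          rfl
      _ = a • b := by
          rw [h.2]
          conv_rhs => rw [← F.sum_eq b, Finset.smul_sum]
          refine Finset.sum_congr rfl fun l _ => ?_
          rw [smul_smul]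
          congr 1
          conv_rhs => rw [← F.sum_eq b, map_sum, Finset.mul_sum]
          refine Finset.sum_congr rfl fun k _ => ?_
          simp [emat]
          ring

end Groth.Agent.GrpdFrame
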