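import Groth.Agent.GrpdBasic.Frame
import Mathlib.LinearAlgebra.Matrix.ToLinearEquiv
import Mathlib.FieldTheory.IsAlgClosed.Basic
import Mathlib.RingTheory.PolynomialAlgebra

/-! Eigenvalues of multiplication matrices and points over algebraically closed fields. -/

set_option autoImplicit false
universe u v
open Polynomial Matrix
open scoped TensorProduct

namespace Groth.Agent.GrpdFrame

theorem finite_of_frame {A : Type u} {B : Type v} [CommRing A] [CommRing B] [Algebra A B] {n : ℕ}
    (F : Frame A B n) : Module.Finite A B := by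
  classical
  refine ⟨⟨Finset.univ.image F.x, ?_⟩⟩
  rw [eq_top_iff]
  rintro b -
  rw [← F.sum_eq b]
  exact Submodule.sum_mem _ fun k _ => Submodule.smul_mem _ _ (Submodule.subset_span (by simp))

theorem exists_algHom_of_root {k : Type u} {C : Type v} [Field k] [IsAlgClosed k] [CommRing C]
    [Algebra k C] {n : ℕ} (F : Frame k C n) (m : C) (μ : k) (hμ : μ ≠ 0)
    (h : (mat F m).charpoly.eval μ = 0) : ∃ ρ : C →ₐ[k] k, ρ m = μ := by
  rw [Matrix.eval_charpoly] at h
  obtain ⟨v, hv, hMv⟩ := Matrix.exists_mulVec_eq_zero_iff.2 h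
  rw [Matrix.sub_mulVec, sub_eq_zero] at hMv
  have hMv : ∀ k', ∑ l, F.φ k' (m * F.x l) * v l = μ * v k' := fun k' => by
    have := congrFun hMv k'
    simpa [Matrix.mulVec, dotProduct, mat, Matrix.scalar_apply, Matrix.diagonal] using this.symm
  let b := ∑ l, v l • F.x l
  have hmb : m * b = μ • b := by
    conv_lhs => rw [← F.sum_eq (m * b)]
    simp only [b, Finset.smul_sum, smul_smul]
    refine Finset.sum_congr rfl fun k' _ => ?_
    congr 1
    rw [← hMv k']
    simp [Finset.mul_sum, mul_comm]
  have hb : b ≠ 0 := by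
    intro hb0
    refine hv (funext fun k' => ?_)
    have h1 : F.φ k' (m * b) = μ * v k' := by
      rw [← hMv k']
      simp [b, Finset.mul_sum, mul_comm]
    rw [hb0, mul_zero, map_zero] at h1
    exact (mul_eq_zero.1 h1.symm).resolve_left hμ
  have hu : ¬ IsUnit (m - algebraMap k C μ) := fun hunit => hb (hunit.mul_right_eq_zero.1 (by
    rw [sub_mul, hmb, Algebra.smul_def, sub_self]))
  obtain ⟨P, hP, hmP⟩ := Ideal.exists_le_maximal (Ideal.span {m - algebraMap k C μ})
    (fun e => hu (Ideal.span_singleton_eq_top.1 e))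
  have := finite_of_frame F
  have hbij := IsAlgClosed.algebraMap_bijective_of_isIntegral (k := k) (K := C ⧸ P)
  let e := AlgEquiv.ofBijective (Algebra.ofId k (C ⧸ P)) hbij
  refine ⟨e.symm.toAlgHom.comp (Ideal.Quotient.mkₐ k P), ?_⟩
  show e.symm (Ideal.Quotient.mk P m) = μ
  rw [AlgEquiv.symm_apply_eq]
  exact (Ideal.Quotient.eq.2 (hmP (Ideal.mem_span_singleton_self _)))

variable {A : Type u} {B : Type v} [CommRing A] [CommRing B] [Algebra A B] {n : ℕ}

theorem exists_ringHom_of_root (F : Frame A B n) {k : Type u} [Field k] [IsAlgClosed k] (ε : A →+* k)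
    (m : B) (μ : k) (hμ : μ ≠ 0) (h : ((mat F m).map ε).charpoly.eval μ = 0) :
    ∃ ρ : B →+* k, ρ.comp (algebraMap A B) = ε ∧ ρ m = μ := by
  let _ : Algebra A k := ε.toAlgebra
  let _ : Algebra B (k ⊗[A] B) := Algebra.TensorProduct.rightAlgebra
  have : IsScalarTower A B (k ⊗[A] B) := Algebra.TensorProduct.right_isScalarTower
  have : Algebra.IsPushout A k B (k ⊗[A] B) := TensorProduct.isPushout
  obtain ⟨G, hG⟩ := exists_baseChange (A' := k) (C := k ⊗[A] B) F
  obtain ⟨ρ, hρ⟩ := exists_algHom_of_root G (algebraMap B (k ⊗[A] B) m) μ hμ (by rw [hG]; exact h)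
  refine ⟨ρ.toRingHom.comp (algebraMap B (k ⊗[A] B)), RingHom.ext fun a => ?_, hρ⟩
  show ρ (algebraMap B (k ⊗[A] B) (algebraMap A B a)) = ε a
  rw [← IsScalarTower.algebraMap_apply A B (k ⊗[A] B), IsScalarTower.algebraMap_apply A k (k ⊗[A] B),
    AlgHom.commutes]
  rfl

theorem finite_ringHoms (F : Frame A B n) {k : Type*} [Field k] (ε : A →+* k) :
    {y : B →+* k | y.comp (algebraMap A B) = ε}.Finite := by
  classical
  let roots : Set (Fin n → k) :=
    {v | ∀ i, v i ∈ (((mat F (F.x i)).charpoly.map ε).roots.toFinset : Set k)}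
  have hroots : roots.Finite := by
    refine (Set.Finite.pi' fun i => Finset.finite_toSet _).subset fun v hv => hv
  refine Set.Finite.of_injOn (f := fun y i => y (F.x i)) (t := roots) ?_ ?_ hroots
  · intro y hy i
    have hy' : y.comp (algebraMap A B) = ε := hy
    simp only [SetLike.mem_coe, Multiset.mem_toFinset, Polynomial.mem_roots',
      Polynomial.IsRoot.def]
    refine ⟨((Matrix.charpoly_monic _).map ε).ne_zero, ?_⟩
    have := congrArg y (aeval_charpoly F (F.x i))
    rw [map_zero, Polynomial.aeval_def, Polynomial.hom_eval₂, hy'] at this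
    rwa [Polynomial.eval_map]
  · intro y hy y' hy' e
    ext b
    rw [← F.sum_eq b, map_sum, map_sum]
    refine Finset.sum_congr rfl fun i _ => ?_
    rw [Algebra.smul_def, map_mul, map_mul, show y (F.x i) = y' (F.x i) from congrFun e i]
    congr 1
    exact RingHom.congr_fun (hy.trans hy'.symm) (F.φ i b)

end Groth.Agent.GrpdFrame
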