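import Groth.Agent.GrpdBasic.NormRed
import Mathlib.AlgebraicGeometry.Morphisms.Immersion
import Mathlib.AlgebraicGeometry.Morphisms.ClosedImmersion

/-! An invariant affine basic open around given generic orbits. -/

set_option autoImplicit false
universe u
open CategoryTheory CategoryTheory.Limits AlgebraicGeometry TopologicalSpace

namespace Groth.Agent.GrpdBasic

variable {S : Scheme.{u}} (G : Grpd.GroupoidScheme S)

/-- On an affine open, an invariant basic open around finitely many generic points. -/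
theorem exists_basicOpen_eq_orbitCore [IsFinite G.s] [LocallyOfFinitePresentation G.s]
    (V₁ : G.U.Opens) (hV₁ : IsAffineOpen V₁) (T : Finset G.U) (hT : ∀ x ∈ T, x ∈ V₁)
    (hmin : ∀ x ∈ T, ∀ y : G.U, y ⤳ x → y = x)
    (horb : ∀ (r : G.R), G.s r ∈ T → G.t r ∈ T) :
    ∃ W : (V₁ : Scheme).Opens, (∃ h : Γ((V₁ : Scheme), ⊤), W = (V₁ : Scheme).basicOpen h) ∧
      (∀ x ∈ T, x ∈ V₁.ι ''ᵁ W) ∧ G.s ⁻¹ᵁ (V₁.ι ''ᵁ W) = G.t ⁻¹ᵁ (V₁.ι ''ᵁ W) := by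
  classical
  have : IsAffine V₁ := hV₁
  let X : Scheme := V₁
  let R₁ : Scheme := (G.s ⁻¹ᵁ V₁ : G.R.Opens)
  let π : R₁ ⟶ X := G.s ∣_ V₁
  have : IsAffine R₁ := hV₁.preimage G.s
  let _ := π.appTop.hom.toAlgebra
  haveI : Module.Finite Γ(X, ⊤) Γ(R₁, ⊤) := π.finite_app _ (isAffineOpen_top X)
  haveI : Algebra.FinitePresentation Γ(X, ⊤) Γ(R₁, ⊤) :=
    HasRingHomProperty.appTop (P := @LocallyOfFinitePresentation.{u}) π inferInstance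
  haveI := Module.FinitePresentation.of_finite_of_finitePresentation Γ(X, ⊤) Γ(R₁, ⊤)
  let T₁ : Finset X := T.attach.image fun x : {x // x ∈ T} => (⟨x.1, hT _ x.2⟩ : X)
  have hT₁ : ∀ x : X, x ∈ T₁ ↔ V₁.ι x ∈ T := fun x => by
    constructor
    · intro hx
      obtain ⟨y, -, rfl⟩ := Finset.mem_image.1 hx
      exact y.2
    · intro hx
      exact Finset.mem_image.2 ⟨⟨_, hx⟩, Finset.mem_attach _ _, rfl⟩
  -- the free part
  have hfreemin : ∀ x ∈ T₁, X.toSpecΓ x ∈ GrpdFrame.redFreeLocus Γ(X, ⊤) Γ(R₁, ⊤) := by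
    intro x hx
    refine GrpdFrame.mem_redFreeLocus_of_minimal _ _ _ ⟨⟨(X.toSpecΓ x).isPrime, bot_le⟩, ?_⟩
    intro q ⟨hq, _⟩ hle
    obtain ⟨y, hy⟩ := X.toSpecΓ.surjective ⟨q, hq⟩
    have hsp : X.toSpecΓ y ⤳ X.toSpecΓ x := by
      refine (PrimeSpectrum.le_iff_specializes _ _).1 ?_
      rw [hy]
      exact hle
    have hyx : V₁.ι y = V₁.ι x := hmin _ ((hT₁ x).1 hx) _
      (((Scheme.Hom.homeomorph X.toSpecΓ).isInducing.specializes_iff.1 hsp).map V₁.ι.continuous)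
    obtain rfl := V₁.ι.isOpenEmbedding.injective hyx
    rw [hy]
  obtain ⟨h₁, hh₁, hT₁h₁⟩ := exists_basicOpen_subset_of_finite (V := X)
    (X.toSpecΓ ⁻¹ᵁ ⟨_, GrpdFrame.isOpen_redFreeLocus Γ(X, ⊤) Γ(R₁, ⊤)⟩) T₁ hfreemin
  -- shrink inside the invariant core
  let D₁ : G.U.Opens := V₁.ι ''ᵁ X.basicOpen h₁
  have hTD₁ : ∀ x ∈ T, x ∈ D₁ := fun x hx =>
    ⟨⟨x, hT x hx⟩, hT₁h₁ _ ((hT₁ _).2 hx), rfl⟩
  let W₁ : G.U.Opens := ⟨orbitCore G (D₁ : Set G.U), isOpen_orbitCore G D₁⟩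
  obtain ⟨h₂, hh₂, hT₁h₂⟩ := exists_basicOpen_subset_of_finite (V := X) (V₁.ι ⁻¹ᵁ W₁) T₁
    fun x hx => fun r hr => hTD₁ _ (horb r (hr ▸ (hT₁ x).1 hx))
  let V' : G.U.Opens := V₁.ι ''ᵁ X.basicOpen h₂
  have hV'mem : ∀ x : X, V₁.ι x ∈ V' ↔ x ∈ X.basicOpen h₂ := fun x =>
    ⟨fun ⟨y, hy, e⟩ => V₁.ι.isOpenEmbedding.injective e ▸ hy, fun h => ⟨x, h, rfl⟩⟩
  have hV'W₁ : ∀ x, x ∈ V' → ∀ r, G.s r = x → G.t r ∈ D₁ := by
    rintro _ ⟨x, hx, rfl⟩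
    exact hh₂ hx
  have hTV' : ∀ x ∈ T, x ∈ V' := fun x hx =>
    (hV'mem ⟨x, hT x hx⟩).2 (hT₁h₂ _ ((hT₁ _).2 hx))
  have hV'D₁ : V' ≤ D₁ := fun x hx => orbitCore_subset G _ (hV'W₁ x hx)
  -- the function `t^* h₂` on `s⁻¹ V'`
  let c : Γ(R₁, ⊤) := π.appTop h₂
  let R' : R₁.Opens := R₁.basicOpen c
  have hR' : ∀ r : R₁, r ∈ R' ↔ G.s r.1 ∈ V' := fun r => by
    show r ∈ R₁.basicOpen (π.appTop h₂) ↔ _
    rw [← Scheme.preimage_basicOpen_top]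
    show π r ∈ X.basicOpen h₂ ↔ _
    rw [← hV'mem, ← morphismRestrict_base_coe G.s V₁ r]
    rfl
  let jt : (R' : Scheme) ⟶ X :=
    IsOpenImmersion.lift V₁.ι (R'.ι ≫ (G.s ⁻¹ᵁ V₁).ι ≫ G.t) (by
      rintro _ ⟨r, rfl⟩
      rw [Scheme.Opens.range_ι]
      obtain ⟨y, -, e⟩ := hV'W₁ _ ((hR' r.1).1 r.2) r.1.1 rfl
      show G.t r.1.1 ∈ V₁
      exact e ▸ y.2)
  have hjt : ∀ r : R', jt r ∈ X.basicOpen h₂ ↔ G.t r.1.1 ∈ V' := fun r => by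
    rw [← hV'mem, ← Scheme.Hom.comp_apply, IsOpenImmersion.lift_fac]
    rfl
  let g : Γ(R₁, R') := R'.topIso.hom (jt.appTop h₂)
  obtain ⟨b, hb⟩ := (isAffineOpen_top R₁).basicOpen_basicOpen_is_basicOpen c g
  have hgb : ∀ r : R', r.1 ∈ R₁.basicOpen b ↔ G.t r.1.1 ∈ V' := fun r => by
    rw [hb, ← hjt]
    show _ ↔ r ∈ jt ⁻¹ᵁ X.basicOpen h₂
    rw [Scheme.preimage_basicOpen_top]
    have e := R'.ι_image_basicOpen_topIso_inv g
    rw [show R'.topIso.inv g = jt.appTop h₂ from by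
      show R'.topIso.inv (R'.topIso.hom _) = _
      rw [← CommRingCat.comp_apply, Iso.hom_inv_id, CommRingCat.id_apply]] at e
    rw [← e]
    exact ⟨fun ⟨y, hy, h⟩ => R'.ι.isOpenEmbedding.injective h ▸ hy, fun h => ⟨r, h, rfl⟩⟩
  obtain ⟨h, hh⟩ := GrpdFrame.exists_norm_of_free Γ(X, ⊤) Γ(R₁, ⊤) h₁ (fun p hp => by
    obtain ⟨x, rfl⟩ := X.toSpecΓ.surjective p
    exact hh₁ ((mem_basicOpen_iff h₁ x).2 hp)) b
  have hcomap : ∀ r, ((R₁.toSpecΓ r).asIdeal).comap (algebraMap Γ(X, ⊤) Γ(R₁, ⊤)) =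
      (X.toSpecΓ (π r)).asIdeal := fun r => by
    rw [← Scheme.Hom.comp_apply, Scheme.toSpecΓ_naturality, Scheme.Hom.comp_apply]
    rfl
  have hW : ((V₁.ι ''ᵁ X.basicOpen (h * h₂) : G.U.Opens) : Set G.U) =
      orbitCore G (V' : Set G.U) := by
    ext x
    constructor
    · rintro ⟨x, hx, rfl⟩ r hr
      rw [SetLike.mem_coe, Scheme.basicOpen_mul] at hx
      obtain ⟨hxh, hxh₂⟩ := hx
      have hxV' : V₁.ι x ∈ V' := (hV'mem x).2 hxh₂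
      have hrV₁ : r ∈ G.s ⁻¹ᵁ V₁ := show G.s r ∈ V₁ from hr ▸ x.2
      have hrR' : (⟨r, hrV₁⟩ : R₁) ∈ R' := (hR' _).2 (hr ▸ hxV')
      have hxh₁ : x ∈ X.basicOpen h₁ := by
        obtain ⟨y, hy, e⟩ := hV'D₁ hxV'
        exact V₁.ι.isOpenEmbedding.injective e ▸ hy
      refine (hgb ⟨_, hrR'⟩).1 ((mem_basicOpen_iff _ _).2 ?_)
      refine (hh _ (X.toSpecΓ x).isPrime ((mem_basicOpen_iff _ _).1 hxh₁)).1
        ((mem_basicOpen_iff _ _).1 hxh) _ (R₁.toSpecΓ _).isPrime ?_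
      rw [hcomap]
      congr 2
      exact Subtype.ext ((morphismRestrict_base_coe _ _ _).trans hr)
    · intro hx
      have hxV' := orbitCore_subset G _ hx
      obtain ⟨x, hxh₂, rfl⟩ : ∃ y ∈ X.basicOpen h₂, V₁.ι y = x := hxV'
      have hxV' : V₁.ι x ∈ V' := (hV'mem x).2 hxh₂
      refine ⟨x, ?_, rfl⟩
      rw [SetLike.mem_coe, Scheme.basicOpen_mul]
      refine ⟨(mem_basicOpen_iff _ _).2 ?_, hxh₂⟩
      have hxh₁ : x ∈ X.basicOpen h₁ := by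
        obtain ⟨y, hy, e⟩ := hV'D₁ hxV'
        exact V₁.ι.isOpenEmbedding.injective e ▸ hy
      refine (hh _ (X.toSpecΓ x).isPrime ((mem_basicOpen_iff _ _).1 hxh₁)).2 fun P hP hPx => ?_
      obtain ⟨r, hr⟩ := R₁.toSpecΓ.surjective ⟨P, hP⟩
      have hP' : (R₁.toSpecΓ r).asIdeal = P := congrArg PrimeSpectrum.asIdeal hr
      have hπ : π r = x := (Scheme.Hom.homeomorph X.toSpecΓ).injective (PrimeSpectrum.ext
        (show (X.toSpecΓ (π r)).asIdeal = (X.toSpecΓ x).asIdeal by rw [← hcomap, hP', hPx]))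
      have hs : G.s r.1 = V₁.ι x := by rw [← morphismRestrict_base_coe]; exact congrArg V₁.ι hπ
      rw [← hP', ← mem_basicOpen_iff]
      exact (hgb ⟨r, (hR' r).2 (hs ▸ hxV')⟩).2 (hx _ hs)
  refine ⟨X.basicOpen (h * h₂), ⟨h * h₂, rfl⟩, fun x hx => ?_, Opens.ext ?_⟩
  · show x ∈ ((V₁.ι ''ᵁ X.basicOpen (h * h₂) : G.U.Opens) : Set G.U)
    rw [hW]
    exact fun r hr => hTV' _ (horb r (hr ▸ hx))
  · show G.s ⁻¹' ((V₁.ι ''ᵁ X.basicOpen (h * h₂) : G.U.Opens) : Set G.U) = G.t ⁻¹' ((V₁.ι ''ᵁ X.basicOpen (h * h₂) : G.U.Opens) : Set G.U)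
    rw [hW]
    exact preimage_orbitCore G _

end Groth.Agent.GrpdBasic
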