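import Groth.Agent.GrpdBasic.Torsor
import Mathlib.AlgebraicGeometry.Sites.Fpqc
import Mathlib.AlgebraicGeometry.Sites.Etale
import Mathlib.AlgebraicGeometry.Restrict

/-! Invariance of largest opens with a target-local property. -/

set_option autoImplicit false
universe u
open CategoryTheory CategoryTheory.Limits AlgebraicGeometry

namespace Groth.Agent.GrpdBasic

variable {S : Scheme.{u}} (G : Grpd.GroupoidScheme S)

theorem preimage_le_of_iso (Q : MorphismProperty Scheme.{u}) [Q.IsStableUnderBaseChange]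
    (hQι : ∀ V : G.R.Opens, Q (V.ι ≫ G.t)) (hQs : Q G.s) (hss : Function.Surjective G.s)
    (hto : IsOpenMap ⇑G.t)
    (P : MorphismProperty Scheme.{u}) [P.IsLocalAtTarget (Scheme.precoverage Q)]
    {X : Scheme.{u}} (f : X ⟶ G.U) (Φ : pullback f G.s ⟶ pullback f G.t) [IsIso Φ]
    (hΦ : Φ ≫ pullback.snd f G.t = pullback.snd f G.s)
    (W : G.U.Opens) (hW : P (f ∣_ W)) (hmax : ∀ W' : G.U.Opens, P (f ∣_ W') → W' ≤ W) :
    G.s ⁻¹ᵁ W ≤ G.t ⁻¹ᵁ W := by
  let Z := G.s ⁻¹ᵁ W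
  let σ := G.s ∣_ W
  have hσ : Presieve.singleton σ ∈ Scheme.precoverage Q W := by
    rw [Scheme.singleton_mem_precoverage_iff Q]
    refine ⟨fun w => ?_, Q.of_isPullback (isPullback_morphismRestrict G.s W).flip hQs⟩
    obtain ⟨r, hr⟩ := hss w.1
    refine ⟨⟨r, show G.s r ∈ W from hr ▸ w.2⟩, Subtype.ext ?_⟩
    exact (Eq.trans (congrArg (fun φ : Z.toScheme ⟶ G.U => φ ⟨r, show G.s r ∈ W from hr ▸ w.2⟩)
      (morphismRestrict_ι G.s W)) hr :)
  let V : G.U.Opens := ⟨⇑G.t '' (Z : Set G.R), hto _ Z.2⟩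
  have hle : Set.range ⇑(Z.ι ≫ G.t) ⊆ Set.range ⇑V.ι := by
    rintro _ ⟨z, rfl⟩
    rw [Scheme.Opens.range_ι]
    exact ⟨z.1, z.2, rfl⟩
  let τ : Z.toScheme ⟶ V.toScheme := IsOpenImmersion.lift V.ι (Z.ι ≫ G.t) hle
  have hτι : τ ≫ V.ι = Z.ι ≫ G.t := IsOpenImmersion.lift_fac _ _ _
  have hτ : Presieve.singleton τ ∈ Scheme.precoverage Q V := by
    rw [Scheme.singleton_mem_precoverage_iff Q]
    refine ⟨fun v => ?_, ?_⟩
    · obtain ⟨r, hr, hrv⟩ := v.2
      refine ⟨⟨r, hr⟩, Subtype.ext ?_⟩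
      exact (Eq.trans (congrArg (fun φ : Z.toScheme ⟶ G.U => φ ⟨r, hr⟩) hτι) hrv :)
    · have hpb : IsPullback (𝟙 _) τ (Z.ι ≫ G.t) V.ι := by
        refine IsPullback.of_isLimit (c := PullbackCone.mk (𝟙 _) τ (by rw [Category.id_comp, hτι]))
          (PullbackCone.IsLimit.mk _ (fun q => q.fst) (fun q => Category.comp_id _) (fun q => ?_)
            fun q m h₁ _ => (Category.comp_id m).symm.trans h₁)
        rw [← cancel_mono V.ι, Category.assoc, hτι, q.condition]
      exact Q.of_isPullback hpb (hQι Z)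
  have hp : P (pullback.snd (f ∣_ W) σ) :=
    MorphismProperty.IsLocalAtTarget.pullbackSnd (P := P) (K := Scheme.precoverage Q) (f := f ∣_ W) (g := σ) hσ (Presieve.singleton_self σ) hW
  have hb := (IsPullback.of_hasPullback (f ∣_ W) σ).paste_horiz (isPullback_morphismRestrict f W).flip
  rw [show σ ≫ W.ι = Z.ι ≫ G.s from morphismRestrict_ι G.s W] at hb
  let q := pullback.lift (f := f) (g := G.s) (pullback.fst (f ∣_ W) σ ≫ (f ⁻¹ᵁ W).ι)
    (pullback.snd (f ∣_ W) σ ≫ Z.ι) (hb.w.trans (Category.assoc _ _ _).symm)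
  have hb' : IsPullback q (pullback.snd (f ∣_ W) σ) (pullback.snd f G.s) Z.ι :=
    IsPullback.of_right (by rw [show q ≫ pullback.fst f G.s = _ from pullback.lift_fst _ _ _]; exact hb)
      (pullback.lift_snd _ _ _) (IsPullback.of_hasPullback f G.s)
  have hc : IsPullback (q ≫ Φ) (pullback.snd (f ∣_ W) σ) (pullback.snd f G.t) (Z.ι ≫ 𝟙 _) :=
    hb'.paste_horiz (IsPullback.of_horiz_isIso ⟨by rw [hΦ, Category.comp_id]⟩)
  rw [Category.comp_id] at hc
  have hd := hc.paste_horiz (IsPullback.of_hasPullback f G.t)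
  rw [← hτι] at hd
  let l := (isPullback_morphismRestrict f V).flip.lift _ (pullback.snd (f ∣_ W) σ ≫ τ)
    (hd.w.trans (Category.assoc _ _ _).symm)
  have he : IsPullback l (pullback.snd (f ∣_ W) σ) (f ∣_ V) τ :=
    IsPullback.of_right (by rw [show l ≫ (f ⁻¹ᵁ V).ι = _ from (isPullback_morphismRestrict f V).flip.lift_fst _ _ _]; exact hd)
      ((isPullback_morphismRestrict f V).flip.lift_snd _ _ _) (isPullback_morphismRestrict f V).flip
  have hV : P (f ∣_ V) := by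
    refine MorphismProperty.IsLocalAtTarget.of_forall_pullbackSnd hτ fun {T g _} hg => ?_
    cases hg
    have e : pullback.snd (f ∣_ V) τ = he.isoPullback.inv ≫ pullback.snd (f ∣_ W) σ := by
      rw [Iso.eq_inv_comp, he.isoPullback_hom_snd]
    rw [e, MorphismProperty.cancel_left_of_respectsIso P]
    exact hp
  exact fun r hr => hmax V hV ⟨r, hr, rfl⟩

theorem preimage_eq_of_iso (Q : MorphismProperty Scheme.{u}) [Q.IsStableUnderBaseChange]
    (hQι : ∀ V : G.R.Opens, Q (V.ι ≫ G.t)) (hQs : Q G.s) (hss : Function.Surjective G.s)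
    (hto : IsOpenMap ⇑G.t)
    (P : MorphismProperty Scheme.{u}) [P.IsLocalAtTarget (Scheme.precoverage Q)]
    {X : Scheme.{u}} (f : X ⟶ G.U) (Φ : pullback f G.s ⟶ pullback f G.t) [IsIso Φ]
    (hΦ : Φ ≫ pullback.snd f G.t = pullback.snd f G.s)
    (W : G.U.Opens) (hW : P (f ∣_ W)) (hmax : ∀ W' : G.U.Opens, P (f ∣_ W') → W' ≤ W) :
    G.s ⁻¹ᵁ W = G.t ⁻¹ᵁ W := by
  refine le_antisymm (preimage_le_of_iso G Q hQι hQs hss hto P f Φ hΦ W hW hmax) fun r hr => ?_
  have h : G.i r ∈ G.t ⁻¹ᵁ W := preimage_le_of_iso G Q hQι hQs hss hto P f Φ hΦ W hW hmax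
    (show G.s (G.i r) ∈ W by rw [s_i]; exact hr)
  rw [Scheme.Hom.mem_preimage, t_i] at h
  exact h

/-- the four topologies -/
theorem exists_morphismProperty (K : Precoverage Scheme.{u})
    (hK : K = Scheme.zariskiPrecoverage ∨ K = Scheme.etalePrecoverage ∨
      K = Scheme.precoverage @Smooth ∨ K = Scheme.fppfPrecoverage)
    (hs : Presieve.singleton G.s ∈ K G.U) (ht : Presieve.singleton G.t ∈ K G.U) :
    ∃ Q : MorphismProperty Scheme.{u}, K = Scheme.precoverage Q ∧ Q.IsStableUnderBaseChange ∧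
      (∀ V : G.R.Opens, Q (V.ι ≫ G.t)) ∧ Q G.s ∧ Function.Surjective G.s ∧ IsOpenMap ⇑G.t := by
  rcases hK with rfl | rfl | rfl | rfl
  · obtain ⟨hs₁, hs₂⟩ := (Scheme.singleton_mem_precoverage_iff _ _).1 hs
    obtain ⟨_, ht₂ : IsOpenImmersion G.t⟩ := (Scheme.singleton_mem_precoverage_iff _ _).1 ht
    exact ⟨@IsOpenImmersion.{u}, rfl, inferInstance, fun V => inferInstanceAs (IsOpenImmersion (V.ι ≫ G.t)),
      hs₂, hs₁, G.t.isOpenEmbedding.isOpenMap⟩
  · obtain ⟨hs₁, hs₂⟩ := (Scheme.singleton_mem_precoverage_iff @Etale.{u} _).1 hs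
    obtain ⟨_, ht₂ : Etale G.t⟩ := (Scheme.singleton_mem_precoverage_iff @Etale.{u} _).1 ht
    exact ⟨@Etale.{u}, rfl, inferInstance, fun V => inferInstanceAs (Etale (V.ι ≫ G.t)), hs₂, hs₁,
      G.t.isOpenMap⟩
  · obtain ⟨hs₁, hs₂⟩ := (Scheme.singleton_mem_precoverage_iff _ _).1 hs
    obtain ⟨_, ht₂ : Smooth G.t⟩ := (Scheme.singleton_mem_precoverage_iff _ _).1 ht
    exact ⟨@Smooth.{u}, rfl, inferInstance, fun V => inferInstanceAs (Smooth (V.ι ≫ G.t)), hs₂, hs₁,
      G.t.isOpenMap⟩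
  · obtain ⟨hs₁, hs₂⟩ := (Scheme.singleton_mem_precoverage_iff (@Flat.{u} ⊓ @LocallyOfFinitePresentation.{u}) _).1 hs
    obtain ⟨_, ht₂ : Flat G.t, ht₃ : LocallyOfFinitePresentation G.t⟩ :=
      (Scheme.singleton_mem_precoverage_iff (@Flat.{u} ⊓ @LocallyOfFinitePresentation.{u}) _).1 ht
    exact ⟨@Flat.{u} ⊓ @LocallyOfFinitePresentation.{u}, rfl, MorphismProperty.IsStableUnderBaseChange.inf,
      fun V => ⟨inferInstanceAs (Flat (V.ι ≫ G.t)),
        inferInstanceAs (LocallyOfFinitePresentation (V.ι ≫ G.t))⟩, hs₂, hs₁, G.t.isOpenMap⟩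

theorem conj_cond : (pullback.fst G.stabilizerToU G.s ≫ stFst G) ≫ G.s =
    (pullback.snd G.stabilizerToU G.s ≫ G.i) ≫ G.t := by
  rw [Category.assoc _ G.i G.t, G.i_t]
  exact (Category.assoc _ _ _).trans ((congrArg (_ ≫ ·) (stab_cond G).2).trans pullback.condition)

end Groth.Agent.GrpdBasic

namespace Groth.Agent.GrpdBasic

variable {S : Scheme.{u}} (G : Grpd.GroupoidScheme S) {T : Scheme.{u}}

theorem inv_mul_cancel_left' (α γ : T ⟶ G.R) (h : (α ≫ G.i) ≫ G.s = γ ≫ G.t) :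
    mul G α (mul G (α ≫ G.i) γ h)
      ((show α ≫ G.s = (α ≫ G.i) ≫ G.t by rw [Category.assoc, G.i_t]).trans (mul_t G _ γ h).symm)
      = γ := by
  have h0 : (α ≫ G.i) ≫ G.i = α := by rw [Category.assoc, i_i, Category.comp_id]
  exact (mul_congr G h0.symm rfl _).trans (mul_inv_cancel_left G (α ≫ G.i) γ h)

theorem pbs_ext {f g : T ⟶ pullback G.stabilizerToU G.s}
    (h₁ : f ≫ pullback.fst G.stabilizerToU G.s ≫ stFst G =
      g ≫ pullback.fst G.stabilizerToU G.s ≫ stFst G)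
    (h₂ : f ≫ pullback.snd G.stabilizerToU G.s = g ≫ pullback.snd G.stabilizerToU G.s) : f = g := by
  refine pullback.hom_ext (stab_ext G (by rw [Category.assoc, Category.assoc]; exact h₁) ?_) h₂
  rw [Category.assoc, Category.assoc, pullback.condition, ← Category.assoc, ← Category.assoc, h₂]

theorem conjA : pullback.snd G.stabilizerToU G.s ≫ G.s =
    (pullback.fst G.stabilizerToU G.s ≫ stFst G) ≫ G.t :=
  ((Category.assoc _ _ _).trans ((congrArg (_ ≫ ·) (stab_cond G).1).trans pullback.condition)).symm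

theorem conjB : mul G _ _ (conjA G) ≫ G.s = (pullback.snd G.stabilizerToU G.s ≫ G.i) ≫ G.t := by
  rw [mul_s]; exact conj_cond G

/-- `(γ, r) ↦ (r γ r⁻¹, r)` -/
noncomputable def conj : pullback G.stabilizerToU G.s ⟶ pullback G.stabilizerToU G.t :=
  pullback.lift (toStab G (mul G _ _ (conjB G)) (pullback.snd G.stabilizerToU G.s ≫ G.t)
      (by rw [mul_t, mul_t]) (by rw [mul_s, Category.assoc, G.i_s]))
    (pullback.snd G.stabilizerToU G.s) (toStab_toU G _ _ _ _)

theorem conjA' : (pullback.snd G.stabilizerToU G.t ≫ G.i) ≫ G.s =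
    (pullback.fst G.stabilizerToU G.t ≫ stFst G) ≫ G.t := by
  rw [Category.assoc, G.i_s]
  exact ((Category.assoc _ _ _).trans ((congrArg (_ ≫ ·) (stab_cond G).1).trans pullback.condition)).symm

theorem conjB' : mul G _ _ (conjA' G) ≫ G.s = pullback.snd G.stabilizerToU G.t ≫ G.t := by
  rw [mul_s]; exact shear_cond G

/-- `(δ, r) ↦ (r⁻¹ δ r, r)` -/
noncomputable def conj' : pullback G.stabilizerToU G.t ⟶ pullback G.stabilizerToU G.s :=
  pullback.lift (toStab G (mul G _ _ (conjB' G)) (pullback.snd G.stabilizerToU G.t ≫ G.s)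
      (by rw [mul_t, mul_t, Category.assoc, G.i_t]) (mul_s G _ _ _))
    (pullback.snd G.stabilizerToU G.t) (toStab_toU G _ _ _ _)

theorem conj_snd : conj G ≫ pullback.snd G.stabilizerToU G.t = pullback.snd G.stabilizerToU G.s :=
  pullback.lift_snd _ _ _

theorem conj'_snd : conj' G ≫ pullback.snd G.stabilizerToU G.s = pullback.snd G.stabilizerToU G.t :=
  pullback.lift_snd _ _ _

theorem conj_fst : conj G ≫ pullback.fst G.stabilizerToU G.t ≫ stFst G = mul G _ _ (conjB G) :=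
  (pullback.lift_fst_assoc _ _ _ _).trans (toStab_fst G _ _ _ _)

theorem conj'_fst : conj' G ≫ pullback.fst G.stabilizerToU G.s ≫ stFst G = mul G _ _ (conjB' G) :=
  (pullback.lift_fst_assoc _ _ _ _).trans (toStab_fst G _ _ _ _)

theorem conj_conj' : conj G ≫ conj' G = 𝟙 _ := by
  refine pbs_ext G ?_ (by rw [Category.assoc, conj'_snd, conj_snd, Category.id_comp])
  rw [Category.assoc, conj'_fst, comp_mul, Category.id_comp]
  have e1 : conj G ≫ pullback.snd G.stabilizerToU G.t ≫ G.i = pullback.snd G.stabilizerToU G.s ≫ G.i := by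
    rw [← Category.assoc, conj_snd]
  have hA : (pullback.snd G.stabilizerToU G.s ≫ G.i) ≫ G.s = mul G _ _ (conjB G) ≫ G.t := by
    rw [mul_t, mul_t, Category.assoc, G.i_s]
  have hB : mul G _ _ (conjB G) ≫ G.s = pullback.snd G.stabilizerToU G.s ≫ G.t := by
    rw [mul_s, Category.assoc, G.i_s]
  refine (mul_congr G (α' := mul G _ _ hA) ((comp_mul G _ _ _ _).trans (mul_congr G e1 (conj_fst G) _))
    (conj_snd G) _).trans ?_
  refine (mul_assoc G _ _ _ hA hB).trans ?_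
  refine (mul_congr G rfl (inv_mul_cancel_right G _ _ (mul_s G _ _ (conjA G) |>.trans ?_)) _).trans
    (mul_inv_cancel_left G (pullback.snd G.stabilizerToU G.s) _ (conjA G))
  exact (Category.assoc _ _ _).trans ((congrArg (_ ≫ ·) (stab_cond G).2).trans pullback.condition)

theorem conj'_conj : conj' G ≫ conj G = 𝟙 _ := by
  refine pb_ext G ?_ (by rw [Category.assoc, conj_snd, conj'_snd, Category.id_comp])
  rw [Category.assoc, conj_fst, comp_mul, Category.id_comp]
  have e1 : conj' G ≫ pullback.snd G.stabilizerToU G.s ≫ G.i = pullback.snd G.stabilizerToU G.t ≫ G.i := by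
    rw [← Category.assoc, conj'_snd]
  have hA : pullback.snd G.stabilizerToU G.t ≫ G.s = mul G _ _ (conjB' G) ≫ G.t := by
    rw [mul_t, mul_t, Category.assoc, G.i_t]
  refine (mul_congr G (α' := mul G _ _ hA) ((comp_mul G _ _ _ _).trans
    (mul_congr G (conj'_snd G) (conj'_fst G) _)) e1 _).trans ?_
  have hA1 : pullback.snd G.stabilizerToU G.t ≫ G.s = mul G _ _ (conjA' G) ≫ G.t := by
    rw [mul_t, Category.assoc, G.i_t]
  refine (mul_congr G (mul_assoc G _ _ _ hA1 (conjB' G)).symm rfl _).trans ?_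
  refine (mul_inv_cancel_right G (mul G _ _ hA1) (pullback.snd G.stabilizerToU G.t)
    ((mul_s G _ _ _).trans (conjB' G))).trans ?_
  exact inv_mul_cancel_left' G _ _ (conjA' G)

instance : IsIso (conj G) := ⟨conj' G, conj_conj' G, conj'_conj G⟩

end Groth.Agent.GrpdBasic
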