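import Groth.Agent.GrpdBasic.Basic
import Groth.Agent.GrpdBasic.Frame
import Mathlib.AlgebraicGeometry.Morphisms.Affine
import Mathlib.Algebra.Category.Ring.Constructions

/-! Norms along `s` are invariant functions. -/

set_option autoImplicit false
universe u
open CategoryTheory CategoryTheory.Limits AlgebraicGeometry Polynomial

namespace Groth.Agent.GrpdBasic

open GrpdFrame

section Ring

theorem exists_frame_map {A B A' C : CommRingCat.{u}} {f : A ⟶ B} {σ : A ⟶ A'} {inl : B ⟶ C}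
    {inr : A' ⟶ C} (h : IsPushout f σ inl inr) (n : ℕ)
    (F : letI := f.hom.toAlgebra; Frame A B n) (m : B) :
    letI := f.hom.toAlgebra
    letI := inr.hom.toAlgebra
    ∃ G : Frame A' C n, mat G (inl m) = (mat F m).map σ.hom := by
  algebraize [f.hom, σ.hom, inl.hom, inr.hom]
  let _ : Algebra A C := (f ≫ inl).hom.toAlgebra
  have : IsScalarTower A B C := IsScalarTower.of_algebraMap_eq' rfl
  have : IsScalarTower A A' C := IsScalarTower.of_algebraMap_eq'
    (congrArg CommRingCat.Hom.hom h.w)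
  have : Algebra.IsPushout A A' B C := CommRingCat.isPushout_iff_isPushout.1 h.flip
  obtain ⟨G, hG⟩ := exists_baseChange (A' := A') (C := C) F
  exact ⟨G, hG m⟩

variable {A B C : CommRingCat.{u}} (σs σt : A ⟶ B) (ι₁ ι₂ γ : B ⟶ C)

theorem map_charpoly (h₁ : IsPushout σs σt ι₁ ι₂) (h₂ : IsPushout σs σs γ ι₂)
    (f : A) (hf : γ (σt f) = ι₁ (σt f)) (n : ℕ)
    (F : letI := σs.hom.toAlgebra; Frame A B n) :
    letI := σs.hom.toAlgebra
    ((mat F (σt f)).charpoly).map σt.hom = ((mat F (σt f)).charpoly).map σs.hom := by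
  obtain ⟨G₁, h₁'⟩ := exists_frame_map h₁ n F (σt f)
  obtain ⟨G₂, h₂'⟩ := exists_frame_map h₂ n F (σt f)
  rw [← Matrix.charpoly_map, ← Matrix.charpoly_map, ← h₁', ← h₂', hf]
  exact @charpoly_indep _ _ _ _ ι₂.hom.toAlgebra _ G₁ G₂ _

end Ring

variable {S : Scheme.{u}} (G : Grpd.GroupoidScheme S) [IsAffine G.U] [IsAffine G.R]

theorem charpoly_invariant (f : Γ(G.U, ⊤)) (n : ℕ)
    (F : letI := G.s.appTop.hom.toAlgebra; Frame Γ(G.U, ⊤) Γ(G.R, ⊤) n) (k : ℕ) :
    letI := G.s.appTop.hom.toAlgebra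
    (mat F (G.t.appTop.hom f)).charpoly.coeff k ∈ G.invariants := by
  letI := G.s.appTop.hom.toAlgebra
  have h₁ := isPushout_appTop_of_isPullback (IsPullback.of_hasPullback G.s G.t)
  have h₂ := isPushout_appTop_of_isPullback (isPullback_c G)
  have hct : G.c ≫ G.t = pullback.fst G.s G.t ≫ G.t := by rw [c_eq, mul_t]
  have hf : G.c.appTop.hom (G.t.appTop.hom f) = (pullback.fst G.s G.t).appTop.hom (G.t.appTop.hom f) := by
    rw [← CommRingCat.comp_apply, ← CommRingCat.comp_apply, ← Scheme.Hom.comp_appTop,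
      ← Scheme.Hom.comp_appTop, hct]
  have := map_charpoly G.s.appTop G.t.appTop _ _ _ h₁ h₂ f hf n F
  have := congrArg (fun p => Polynomial.coeff p k) this
  simp only [Polynomial.coeff_map] at this
  exact this.symm

theorem exists_frame_st [IsFinite G.s] [Flat G.s] [LocallyOfFinitePresentation G.s] :
    letI := G.s.appTop.hom.toAlgebra
    ∃ n : ℕ, Nonempty (Frame Γ(G.U, ⊤) Γ(G.R, ⊤) n) := by
  letI := G.s.appTop.hom.toAlgebra
  haveI : Module.Finite Γ(G.U, ⊤) Γ(G.R, ⊤) := G.s.finite_app _ (isAffineOpen_top G.U)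
  haveI : Module.Flat Γ(G.U, ⊤) Γ(G.R, ⊤) :=
    RingHom.flat_algebraMap_iff.1 (HasRingHomProperty.appTop (P := @Flat.{u}) G.s inferInstance)
  haveI : Algebra.FinitePresentation Γ(G.U, ⊤) Γ(G.R, ⊤) :=
    HasRingHomProperty.appTop (P := @LocallyOfFinitePresentation.{u}) G.s inferInstance
  haveI := Module.FinitePresentation.of_finite_of_finitePresentation Γ(G.U, ⊤) Γ(G.R, ⊤)
  haveI : Module.Projective Γ(G.U, ⊤) Γ(G.R, ⊤) := Module.Flat.projective_of_finitePresentation
  exact exists_frame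

end Groth.Agent.GrpdBasic
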