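import Groth.Agent.GrpdBasic.NormOpen
import Mathlib.RingTheory.Spectrum.Prime.FreeLocus
import Mathlib.RingTheory.KrullDimension.Zero

/-! Principal loci over the part of the base where a finitely presented algebra is free modulo nilpotents. -/

set_option autoImplicit false
universe u
open TensorProduct

namespace Groth.Agent.GrpdFrame

variable (A B : Type u) [CommRing A] [CommRing B] [Algebra A B]

/-- the open set of primes where `B` is free modulo nilpotents -/
def redFreeLocus : Set (PrimeSpectrum A) :=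
  ((PrimeSpectrum.comap (Ideal.Quotient.mk (nilradical A))) ''
    (Module.freeLocus (A ⧸ nilradical A) ((A ⧸ nilradical A) ⊗[A] B))ᶜ)ᶜ

theorem isOpen_redFreeLocus [Module.FinitePresentation A B] : IsOpen (redFreeLocus A B) :=
  ((PrimeSpectrum.isClosedEmbedding_comap_of_surjective _ _ Ideal.Quotient.mk_surjective).isClosedMap _
    Module.isOpen_freeLocus.isClosed_compl).isOpen_compl

theorem mem_redFreeLocus_iff (q : PrimeSpectrum (A ⧸ nilradical A)) :
    PrimeSpectrum.comap (Ideal.Quotient.mk (nilradical A)) q ∈ redFreeLocus A B ↔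
      q ∈ Module.freeLocus (A ⧸ nilradical A) ((A ⧸ nilradical A) ⊗[A] B) := by
  refine ⟨fun h => by_contra fun hq => h ⟨q, hq, rfl⟩, fun h ⟨q', hq', e⟩ => hq' ?_⟩
  rwa [(PrimeSpectrum.isClosedEmbedding_comap_of_surjective _ _
    Ideal.Quotient.mk_surjective).injective e]

theorem mem_redFreeLocus_of_minimal (p : PrimeSpectrum A) (hp : p.asIdeal ∈ minimalPrimes A) :
    p ∈ redFreeLocus A B := by
  rintro ⟨q, hq, rfl⟩
  refine hq ?_
  have : IsReduced (A ⧸ nilradical A) :=
    (Ideal.isRadical_iff_quotient_reduced _).1 (Ideal.radical_isRadical _)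
  have hmin : q.asIdeal ∈ minimalPrimes (A ⧸ nilradical A) := by
    refine ⟨⟨q.isPrime, bot_le⟩, fun r ⟨hr, _⟩ hrq => ?_⟩
    have := hp.2 (y := r.comap (Ideal.Quotient.mk _)) ⟨hr.comap _, bot_le⟩ (Ideal.comap_mono hrq)
    exact (Ideal.comap_le_comap_iff_of_surjective _ Ideal.Quotient.mk_surjective _ _).1 this
  have : Ring.KrullDimLE 0 (Localization.AtPrime q.asIdeal) := .of_isLocalization _ hmin _
  let _ : Field (Localization.AtPrime q.asIdeal) := Ring.KrullDimLE.isField_of_isReduced.toField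
  rw [Module.mem_freeLocus]
  exact Module.Free.of_divisionRing _ _

theorem exists_norm_of_free [Module.Finite A B] [Module.FinitePresentation A B] (h₁ : A)
    (hfree : (PrimeSpectrum.basicOpen h₁ : Set (PrimeSpectrum A)) ⊆ redFreeLocus A B) (b : B) :
    ∃ h : A, ∀ p : Ideal A, p.IsPrime → h₁ ∉ p →
      (h ∉ p ↔ ∀ P : Ideal B, P.IsPrime → P.comap (algebraMap A B) = p → b ∉ P) := by
  classical
  let Ab := A ⧸ nilradical A
  let f : Ab := Ideal.Quotient.mk _ h₁
  let A' := Localization.Away f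
  have hproj : Module.Projective A' (LocalizedModule.Away f (Ab ⊗[A] B)) :=
    Module.basicOpen_subset_freeLocus_iff.1 fun q hq =>
      (mem_redFreeLocus_iff A B q).1 (hfree hq)
  let e₁ : LocalizedModule.Away f (Ab ⊗[A] B) ≃ₗ[A'] A' ⊗[Ab] (Ab ⊗[A] B) :=
    (IsLocalizedModule.isBaseChange (Submonoid.powers f) A'
      (LocalizedModule.mkLinearMap (Submonoid.powers f) (Ab ⊗[A] B))).equiv.symm
  have : Module.Projective A' (A' ⊗[A] B) :=
    Module.Projective.of_equiv (e₁ ≪≫ₗ TensorProduct.AlgebraTensorModule.cancelBaseChange A Ab A' A' B)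
  obtain ⟨n, ⟨F⟩⟩ := exists_frame (A := A') (B := A' ⊗[A] B)
  obtain ⟨h', hh'⟩ := exists_norm F (1 ⊗ₜ b)
  obtain ⟨ab, ⟨s, hs⟩, he⟩ := IsLocalization.exists_mk'_eq (Submonoid.powers f) h'
  obtain ⟨a, rfl⟩ := Ideal.Quotient.mk_surjective ab
  refine ⟨a, fun p hp hp₁ => ?_⟩
  let k := AlgebraicClosure (FractionRing (A ⧸ p))
  let ε : A →+* k := (algebraMap (FractionRing (A ⧸ p)) k).comp
    ((algebraMap (A ⧸ p) (FractionRing (A ⧸ p))).comp (Ideal.Quotient.mk p))
  have hε : RingHom.ker ε = p := by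
    rw [RingHom.ker_comp_of_injective _ (RingHom.injective _),
      RingHom.ker_comp_of_injective _ (IsFractionRing.injective _ _), Ideal.mk_ker]
  let εb : Ab →+* k := Ideal.Quotient.lift _ ε fun x hx => by
    rw [← RingHom.mem_ker, hε]
    exact (nilradical_le_prime p) hx
  have hεf : IsUnit (εb f) := Ne.isUnit (show ε h₁ ≠ 0 from fun h0 => hp₁ (hε ▸ h0))
  let ε' : A' →+* k := IsLocalization.Away.lift f hεf
  have hε' : ∀ x : Ab, ε' (algebraMap Ab A' x) = εb x := fun x => IsLocalization.Away.lift_eq f hεf x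
  let p' : Ideal A' := RingHom.ker ε'
  have hp' : p'.IsPrime := RingHom.ker_isPrime ε'
  have hpp' : p'.comap (algebraMap A A') = p := by
    refine Eq.trans ?_ hε
    ext x
    show ε' (algebraMap A A' x) = 0 ↔ _
    rw [IsScalarTower.algebraMap_apply A Ab A', hε']
    rfl
  have hha : a ∈ p ↔ h' ∈ p' := by
    have hsu : IsUnit (ε' (algebraMap Ab A' s)) := (IsLocalization.map_units A' ⟨s, hs⟩).map ε'
    have e2 : ε' h' * ε' (algebraMap Ab A' s) = ε a := by
      rw [← map_mul, ← he, IsLocalization.mk'_spec' A' _ (⟨s, hs⟩ : Submonoid.powers f) |> fun h =>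
        (mul_comm _ _).trans h, hε']
      rfl
    conv_lhs => rw [← hε]
    show ε a = 0 ↔ ε' h' = 0
    rw [← e2, mul_eq_zero, or_iff_left hsu.ne_zero]
  rw [hha, hh' p' hp']
  constructor
  · intro H P hP hPp hbP
    obtain ⟨y, hy, hyP⟩ := GrpdBasic.exists_point ε P (hPp.trans hε.symm)
    let _ : Algebra A k := ε.toAlgebra
    let Y : A' ⊗[A] B →ₐ[A] k := Algebra.TensorProduct.lift
      ⟨ε', fun x => by
        show ε' (algebraMap A A' x) = ε x
        rw [IsScalarTower.algebraMap_apply A Ab A', hε']; rfl⟩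
      ⟨y, fun x => RingHom.congr_fun hy x⟩ fun _ _ => Commute.all _ _
    refine H (RingHom.ker Y.toRingHom) (RingHom.ker_isPrime _) ?_ ?_
    · ext x
      show Y (x ⊗ₜ (1 : B)) = 0 ↔ ε' x = 0
      rw [Algebra.TensorProduct.lift_tmul, map_one, mul_one]
      rfl
    · show Y ((1 : A') ⊗ₜ b) = 0
      rw [Algebra.TensorProduct.lift_tmul, map_one, one_mul]
      exact (RingHom.mem_ker).1 (hyP ▸ hbP)
  · intro H P hP hPp' hbP
    refine H (P.comap (Algebra.TensorProduct.includeRight : B →ₐ[A] A' ⊗[A] B).toRingHom)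
      (hP.comap _) ?_ hbP
    rw [Ideal.comap_comap, ← hpp', ← hPp', Ideal.comap_comap]
    congr 1
    exact RingHom.ext fun x => ((Algebra.TensorProduct.includeRight : B →ₐ[A] A' ⊗[A] B).commutes x).trans
      (IsScalarTower.algebraMap_apply A A' (A' ⊗[A] B) x)

end Groth.Agent.GrpdFrame
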