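import Groth.Agent.GrpdBasic.Norm
import Groth.Agent.GrpdBasic.FrameField

/-! Geometric points with the same image in the quotient lie in the same orbit. -/

set_option autoImplicit false
universe u
open CategoryTheory CategoryTheory.Limits AlgebraicGeometry Polynomial

namespace Groth.Agent.GrpdBasic

open GrpdFrame

attribute [local instance] Polynomial.algebra

/-- coefficientwise map, bundled -/
noncomputable def pmap {A B : CommRingCat.{u}} (f : A ⟶ B) :
    CommRingCat.of A[X] ⟶ CommRingCat.of B[X] :=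
  CommRingCat.ofHom (Polynomial.mapRingHom f.hom)

/-- constants, bundled -/
noncomputable def pC (A : CommRingCat.{u}) : A ⟶ CommRingCat.of A[X] :=
  CommRingCat.ofHom Polynomial.C

theorem isPushout_pC {A B : CommRingCat.{u}} (f : A ⟶ B) :
    CategoryTheory.IsPushout f (pC A) (pC B) (pmap f) := by
  algebraize [f.hom]
  have h : CategoryTheory.IsPushout (CommRingCat.ofHom (algebraMap A B))
      (CommRingCat.ofHom (algebraMap A A[X])) (CommRingCat.ofHom (algebraMap B B[X]))
      (CommRingCat.ofHom (algebraMap A[X] B[X])) :=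
    CommRingCat.isPushout_iff_isPushout.2 inferInstance
  exact h

theorem isPushout_pmap {A B A' C : CommRingCat.{u}} {f : A ⟶ B} {σ : A ⟶ A'} {inl : B ⟶ C}
    {inr : A' ⟶ C} (h : CategoryTheory.IsPushout f σ inl inr) :
    CategoryTheory.IsPushout (pmap f) (pmap σ) (pmap inl) (pmap inr) := by
  have e₁ : σ ≫ pC A' = pC A ≫ pmap σ := (isPushout_pC σ).w
  have e₂ : inl ≫ pC C = pC B ≫ pmap inl := (isPushout_pC inl).w
  have big := h.paste_vert (isPushout_pC inr)
  rw [e₁, e₂] at big
  refine CategoryTheory.IsPushout.of_top big ?_ (isPushout_pC f)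
  refine CommRingCat.hom_ext (Polynomial.ringHom_ext (fun a => ?_) ?_)
  · have := RingHom.congr_fun (congrArg CommRingCat.Hom.hom h.w) a
    simpa [pmap] using congrArg Polynomial.C this
  · simp [pmap]

variable {S : Scheme.{u}} (G : Grpd.GroupoidScheme S) [IsAffine G.U] [IsAffine G.R]
  [IsFinite G.s] [Flat G.s] [LocallyOfFinitePresentation G.s]

theorem exists_orbit_ringHom {k : Type u} [Field k] [IsAlgClosed k] (x₀ x₁ : Γ(G.U, ⊤) →+* k)
    (h : ∀ c ∈ G.invariants, x₀ c = x₁ c) :
    ∃ y : Γ(G.R, ⊤) →+* k, y.comp G.t.appTop.hom = x₀ ∧ y.comp G.s.appTop.hom = x₁ := by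
  classical
  obtain ⟨n, ⟨F⟩⟩ := exists_frame_st G
  algebraize [G.s.appTop.hom]
  let Y := {y : Γ(G.R, ⊤) →+* k | y.comp (algebraMap Γ(G.U, ⊤) Γ(G.R, ⊤)) = x₁}
  have hYfin : Y.Finite := finite_ringHoms F x₁
  by_contra hcon
  have sep : ∀ y ∈ Y, ∃ a, y (G.t.appTop.hom a) ≠ x₀ a := fun y hy => by
    by_contra hc
    exact hcon ⟨y, RingHom.ext fun a => by_contra fun h' => hc ⟨a, h'⟩, hy⟩
  choose a ha using sep
  obtain ⟨m, idx, hidx, hrange⟩ := hYfin.fin_param
  have hmem : ∀ l, idx l ∈ Y := fun l => hrange ▸ ⟨l, rfl⟩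
  let f : Γ(G.U, ⊤)[X] := 1 + ∑ l : Fin m, monomial ((l : ℕ) + 1) (a (idx l) (hmem l))
  have hf0 : f.coeff 0 = 1 := by
    simp [f, Polynomial.coeff_monomial]
  have hfl : ∀ l : Fin m, f.coeff ((l : ℕ) + 1) = a (idx l) (hmem l) := fun l => by
    simp [f, Polynomial.coeff_monomial, Polynomial.coeff_one, Fin.val_inj]
  obtain ⟨F', -⟩ := exists_baseChange (A' := Γ(G.U, ⊤)[X]) (C := Γ(G.R, ⊤)[X]) F
  let g : Γ(G.R, ⊤)[X] := f.map G.t.appTop.hom
  let P := (mat F' g).charpoly
  have h₁ := isPushout_pmap (isPushout_appTop_of_isPullback (IsPullback.of_hasPullback G.s G.t))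
  have h₂ := isPushout_pmap (isPushout_appTop_of_isPullback (isPullback_c G))
  have hct : G.t.appTop ≫ G.c.appTop = G.t.appTop ≫ (pullback.fst G.s G.t).appTop := by
    rw [← Scheme.Hom.comp_appTop, ← Scheme.Hom.comp_appTop,
      show G.c ≫ G.t = pullback.fst G.s G.t ≫ G.t by rw [c_eq, mul_t]]
  have hinv : P.map (pmap G.t.appTop).hom = P.map (pmap G.s.appTop).hom := by
    refine map_charpoly (pmap G.s.appTop) (pmap G.t.appTop) _ _ _ h₁ h₂ f ?_ n F'
    show (f.map G.t.appTop.hom).map G.c.appTop.hom =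
      (f.map G.t.appTop.hom).map (pullback.fst G.s G.t).appTop.hom
    rw [Polynomial.map_map, Polynomial.map_map, ← CommRingCat.hom_comp, ← CommRingCat.hom_comp, hct]
  have hP01 : P.map (mapRingHom x₀) = P.map (mapRingHom x₁) := by
    ext i : 1
    rw [Polynomial.coeff_map, Polynomial.coeff_map]
    ext j
    simp only [coe_mapRingHom, Polynomial.coeff_map]
    refine h _ ?_
    have := congrArg (fun q => (Polynomial.coeff q i).coeff j) hinv
    simp only [Polynomial.coeff_map, pmap, CommRingCat.hom_ofHom, coe_mapRingHom] at this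
    exact this.symm
  have hPf : P.eval f = 0 := by
    have hB : P.eval₂ (pmap G.s.appTop).hom g = 0 := aeval_charpoly F' g
    have hes : (pmap G.e.appTop).hom.comp (pmap G.s.appTop).hom = RingHom.id _ := by
      refine RingHom.ext fun q => ?_
      show (q.map G.s.appTop.hom).map G.e.appTop.hom = q
      rw [Polynomial.map_map, ← CommRingCat.hom_comp, ← Scheme.Hom.comp_appTop, G.e_s,
        Scheme.Hom.id_appTop, CommRingCat.hom_id, Polynomial.map_id]
    have het : (pmap G.e.appTop).hom g = f := by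
      show (f.map G.t.appTop.hom).map G.e.appTop.hom = f
      rw [Polynomial.map_map, ← CommRingCat.hom_comp, ← Scheme.Hom.comp_appTop, G.e_t,
        Scheme.Hom.id_appTop, CommRingCat.hom_id, Polynomial.map_id]
    have := congrArg (pmap G.e.appTop).hom hB
    rw [Polynomial.hom_eval₂, hes, het, map_zero] at this
    exact this
  let lam : k[X] := f.map x₀
  have hlam : (P.map (mapRingHom x₁)).eval lam = 0 := by
    rw [← hP01, Polynomial.eval_map]
    have := congrArg (mapRingHom x₀) hPf
    rwa [map_zero, Polynomial.eval, Polynomial.hom_eval₂, RingHom.comp_id] at this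
  let py : Fin m → k[X] := fun l => (f.map G.t.appTop.hom).map (idx l)
  have hzero : lam * ∏ l, (lam - py l) = 0 := by
    refine Polynomial.funext fun τ => ?_
    rw [Polynomial.eval_mul, Polynomial.eval_zero, Polynomial.eval_prod]
    by_cases h0 : lam.eval τ = 0
    · rw [h0, zero_mul]
    let ε : Γ(G.U, ⊤)[X] →+* k := eval₂RingHom x₁ τ
    have hε : ε = (Polynomial.evalRingHom τ).comp (mapRingHom x₁) := by
      ext <;> simp [ε]
    have hroot : ((mat F' g).map ε).charpoly.eval (lam.eval τ) = 0 := by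
      rw [Matrix.charpoly_map, Polynomial.eval_map, hε]
      have := congrArg (Polynomial.evalRingHom τ) hlam
      rwa [map_zero, Polynomial.eval_map, Polynomial.hom_eval₂] at this
    obtain ⟨ρ, hρ, hρm⟩ := exists_ringHom_of_root F' ε g _ h0 hroot
    have hy : ρ.comp Polynomial.C ∈ Y := by
      refine RingHom.ext fun b => ?_
      have := RingHom.congr_fun hρ (Polynomial.C b)
      simpa [ε, Polynomial.algebraMap_def] using this
    obtain ⟨l, hl⟩ : ∃ l, idx l = ρ.comp Polynomial.C := (hrange.ge hy :)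
    refine mul_eq_zero_of_right _ (Finset.prod_eq_zero (Finset.mem_univ l) ?_)
    have hρX : ρ Polynomial.X = τ := by
      have := RingHom.congr_fun hρ Polynomial.X
      simpa [ε, Polynomial.algebraMap_def] using this
    rw [Polynomial.eval_sub, sub_eq_zero, ← hρm]
    have : ρ = eval₂RingHom (idx l) τ := by
      refine Polynomial.ringHom_ext (fun b => ?_) ?_
      · simp [hl]
      · simp [hρX]
    rw [this]
    simp [py, g, Polynomial.eval_map]
  rcases mul_eq_zero.1 hzero with h0 | h0
  · have := congrArg (Polynomial.coeff · 0) h0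
    simp [lam, hf0] at this
  · obtain ⟨l, -, hl⟩ := Finset.prod_eq_zero_iff.1 h0
    have := congrArg (Polynomial.coeff · ((l : ℕ) + 1)) (sub_eq_zero.1 hl)
    simp only [lam, py, Polynomial.coeff_map, hfl] at this
    exact ha (idx l) (hmem l) this.symm

end Groth.Agent.GrpdBasic
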