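import Groth.Agent.GrpdBasic.Orbit
import Groth.Agent.GrpdBasic.FrameBasis
import Groth.Agent.S1879
import Mathlib.AlgebraicGeometry.Morphisms.Finite
import Mathlib.Algebra.Category.Ring.Epi
import Mathlib.FieldTheory.IsAlgClosed.AlgebraicClosure
import Mathlib.RingTheory.Ideal.GoingUp

/-! Quotient of an affine finite locally free equivalence relation: the ring statement. -/

set_option autoImplicit false
universe u
open CategoryTheory CategoryTheory.Limits AlgebraicGeometry TensorProduct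

namespace Groth.Agent.GrpdBasic

open GrpdFrame

theorem exists_point {R A k : Type u} [CommRing R] [CommRing A] [Algebra R A]
    [Algebra.IsIntegral R A] [Field k] [IsAlgClosed k] (φ : R →+* k) (P : Ideal A) [P.IsPrime]
    (hP : P.comap (algebraMap R A) = RingHom.ker φ) :
    ∃ x : A →+* k, x.comp (algebraMap R A) = φ ∧ RingHom.ker x = P := by
  let q := P.comap (algebraMap R A)
  let φb : R ⧸ q →+* k := Ideal.Quotient.lift q φ fun a ha => by
    have : a ∈ RingHom.ker φ := hP ▸ ha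
    exact this
  have hφb : Function.Injective φb :=
    RingHom.lift_injective_of_ker_le_ideal q _ hP.symm.le
  let _ : Algebra (R ⧸ q) k := φb.toAlgebra
  let _ : Algebra (R ⧸ q) (A ⧸ P) := Ideal.quotientAlgebra
  have : FaithfulSMul (R ⧸ q) k := (faithfulSMul_iff_algebraMap_injective _ _).2 hφb
  have : FaithfulSMul (R ⧸ q) (A ⧸ P) :=
    (faithfulSMul_iff_algebraMap_injective _ _).2 Ideal.algebraMap_quotient_injective
  have : Algebra.IsIntegral (R ⧸ q) (A ⧸ P) := inferInstance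
  let l : A ⧸ P →ₐ[R ⧸ q] k := IsAlgClosed.lift
  refine ⟨l.toRingHom.comp (Ideal.Quotient.mk P), RingHom.ext fun r => ?_, ?_⟩
  · exact l.commutes (Ideal.Quotient.mk q r)
  · have hinj : Function.Injective l.toRingHom := by
      rw [RingHom.injective_iff_ker_eq_bot]
      exact Ideal.eq_bot_of_comap_eq_bot (R := R ⧸ q) (eq_bot_iff.2 fun a ha => by
        have h0 : l (algebraMap (R ⧸ q) (A ⧸ P) a) = 0 := ha
        rw [AlgHom.commutes] at h0
        exact hφb (h0.trans (map_zero _).symm))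
    rw [RingHom.ker_comp_of_injective _ hinj, Ideal.mk_ker]

theorem exists_frame_base {A B A' C : CommRingCat.{u}} {f : A ⟶ B} {σ : A ⟶ A'} {inl : B ⟶ C}
    {inr : A' ⟶ C} (h : CategoryTheory.IsPushout f σ inl inr) (n : ℕ)
    (F : letI := f.hom.toAlgebra; Frame A B n) :
    letI := f.hom.toAlgebra
    letI := inr.hom.toAlgebra
    ∃ G : Frame A' C n, emat G = (emat F).map σ.hom ∧
      (∀ (d : ℕ) (z : Fin d → B), pmat G (fun i => inl (z i)) = (pmat F z).map σ.hom) ∧
      (∀ k (a' : A') (b : B), G.φ k (inr a' * inl b) = a' * σ (F.φ k b)) ∧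
      ∀ k, G.x k = inl (F.x k) := by
  algebraize [f.hom, σ.hom, inl.hom, inr.hom]
  let _ : Algebra A C := (f ≫ inl).hom.toAlgebra
  have : IsScalarTower A B C := IsScalarTower.of_algebraMap_eq' rfl
  have : IsScalarTower A A' C := IsScalarTower.of_algebraMap_eq'
    (congrArg CommRingCat.Hom.hom h.w)
  have hp : Algebra.IsPushout A A' B C := CommRingCat.isPushout_iff_isPushout.1 h.flip
  let φ' : Fin n → C →ₗ[A'] A' := fun k => hp.out.lift ((Algebra.linearMap A A').comp (F.φ k))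
  have hφ : ∀ k b, φ' k (algebraMap B C b) = algebraMap A A' (F.φ k b) := fun k b =>
    IsBaseChange.lift_eq hp.out _ b
  refine ⟨⟨fun k => algebraMap B C (F.x k), φ', fun c => ?_⟩, ?_, fun d z => ?_, fun k a' b => ?_,
    fun k => rfl⟩
  · induction c using hp.out.inductionOn with
    | zero => simp
    | tmul b =>
      show ∑ k, φ' k (algebraMap B C b) • algebraMap B C (F.x k) = algebraMap B C b
      conv_rhs => rw [← F.sum_eq b, map_sum]
      refine Finset.sum_congr rfl fun k _ => ?_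
      rw [hφ, algebraMap_smul, Algebra.smul_def, Algebra.smul_def, map_mul,
        ← IsScalarTower.algebraMap_apply A B C]
    | smul r c hc => simp only [map_smul, smul_eq_mul, mul_smul, ← Finset.smul_sum, hc]
    | add c d hc hd => simp only [map_add, add_smul, Finset.sum_add_distrib, hc, hd]
  · ext k l
    exact hφ k (F.x l)
  · ext k i
    exact hφ k (z i)
  · show φ' k (algebraMap A' C a' * algebraMap B C b) = _
    rw [← Algebra.smul_def, map_smul, smul_eq_mul, hφ]
    rfl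

theorem exists_coord' {A B A' C : CommRingCat.{u}} {f : A ⟶ B} {σ : A ⟶ A'} {inl : B ⟶ C}
    {inr : A' ⟶ C} (h : CategoryTheory.IsPushout f σ inl inr)
    (ℓ : letI := f.hom.toAlgebra; B →ₗ[A] A) :
    ∃ ψ : C →+ A', ∀ a' m, ψ (inr a' * inl m) = a' * σ (letI := f.hom.toAlgebra; ℓ m) := by
  algebraize [f.hom, σ.hom, inl.hom, inr.hom]
  let _ : Algebra A C := (f ≫ inl).hom.toAlgebra
  have : IsScalarTower A B C := IsScalarTower.of_algebraMap_eq' rfl
  have : IsScalarTower A A' C := IsScalarTower.of_algebraMap_eq'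
    (congrArg CommRingCat.Hom.hom h.w)
  have hp : Algebra.IsPushout A A' B C := CommRingCat.isPushout_iff_isPushout.1 h.flip
  refine ⟨(hp.out.lift ((Algebra.linearMap A A').comp ℓ)).toAddMonoidHom, fun a' m => ?_⟩
  show hp.out.lift _ (algebraMap A' C a' * algebraMap B C m) = _
  rw [← Algebra.smul_def, map_smul, smul_eq_mul]
  congr 1
  exact IsBaseChange.lift_eq hp.out _ m

variable {S : Scheme.{u}} (G : Grpd.GroupoidScheme S)

theorem t_s_ext [Mono G.j] {T : Scheme.{u}} {f g : T ⟶ G.R} (ht : f ≫ G.t = g ≫ G.t)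
    (hs : f ≫ G.s = g ≫ G.s) : f = g := by
  refine (cancel_mono G.j).1 (pullback.hom_ext ?_ ?_)
  · rw [Category.assoc, Category.assoc, Grpd.GroupoidScheme.j, pullback.lift_fst]; exact ht
  · rw [Category.assoc, Category.assoc, Grpd.GroupoidScheme.j, pullback.lift_snd]; exact hs

variable [IsAffine G.U] [IsAffine G.R]

theorem span_t [Mono G.j] [IsFinite G.s] :
    letI := G.s.appTop.hom.toAlgebra
    Submodule.span Γ(G.U, ⊤) (Set.range G.t.appTop.hom) = ⊤ := by
  letI := G.s.appTop.hom.toAlgebra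
  haveI : Module.Finite Γ(G.U, ⊤) Γ(G.R, ⊤) := G.s.finite_app _ (isAffineOpen_top G.U)
  let T := Γ(G.U, ⊤) ⊗[ℤ] Γ(G.U, ⊤)
  let ψ : T →ₐ[Γ(G.U, ⊤)] Γ(G.R, ⊤) := Algebra.TensorProduct.lift (Algebra.ofId _ _)
    G.t.appTop.hom.toIntAlgHom fun _ _ => Commute.all _ _
  let f : CommRingCat.of T ⟶ Γ(G.R, ⊤) := CommRingCat.ofHom ψ.toRingHom
  have : Epi f := ⟨fun {Z} g g' h => by
    have h0 : ∀ z : T, g (ψ z) = g' (ψ z) := fun z => ConcreteCategory.congr_hom h z
    have hs : G.s.appTop ≫ g = G.s.appTop ≫ g' := CommRingCat.hom_ext (RingHom.ext fun a => by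
      have := h0 (a ⊗ₜ 1)
      rw [Algebra.TensorProduct.lift_tmul, map_one, _root_.mul_one] at this
      exact this)
    have ht : G.t.appTop ≫ g = G.t.appTop ≫ g' := CommRingCat.hom_ext (RingHom.ext fun a => by
      have := h0 (1 ⊗ₜ a)
      rw [Algebra.TensorProduct.lift_tmul, map_one, _root_.one_mul] at this
      exact this)
    have key : Spec.map g ≫ G.R.isoSpec.inv = Spec.map g' ≫ G.R.isoSpec.inv := by
      refine t_s_ext G ?_ ?_
      · rw [Category.assoc, Category.assoc, ← Scheme.isoSpec_inv_naturality, ← Spec.map_comp_assoc,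
          ← Spec.map_comp_assoc, ht]
      · rw [Category.assoc, Category.assoc, ← Scheme.isoSpec_inv_naturality, ← Spec.map_comp_assoc,
          ← Spec.map_comp_assoc, hs]
    exact Spec.map_injective ((cancel_mono G.R.isoSpec.inv).1 key)⟩
  have hfin : f.hom.Finite := by
    show ψ.toRingHom.Finite
    exact RingHom.Finite.of_comp_finite (f := algebraMap Γ(G.U, ⊤) T) (g := ψ.toRingHom) (by
      rw [show ψ.toRingHom.comp (algebraMap Γ(G.U, ⊤) T) = algebraMap _ _ from ψ.comp_algebraMap]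
      exact RingHom.finite_algebraMap.2 inferInstance)
  have hsurj : Function.Surjective ψ := RingHom.surjective_of_epi_of_finite f hfin
  refine Submodule.eq_top_iff'.2 fun b => ?_
  obtain ⟨z, rfl⟩ := hsurj b
  clear hsurj
  induction z using TensorProduct.induction_on with
  | zero => simp
  | add z w hz hw => rw [map_add]; exact Submodule.add_mem _ hz hw
  | tmul a a' =>
    rw [Algebra.TensorProduct.lift_tmul]
    show algebraMap _ _ a * G.t.appTop.hom a' ∈ _
    rw [← Algebra.smul_def]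
    exact Submodule.smul_mem _ _ (Submodule.subset_span ⟨a', rfl⟩)

theorem c_t_appTop : G.t.appTop ≫ G.c.appTop = G.t.appTop ≫ (pullback.fst G.s G.t).appTop := by
  rw [← Scheme.Hom.comp_appTop, ← Scheme.Hom.comp_appTop,
    show G.c ≫ G.t = pullback.fst G.s G.t ≫ G.t by rw [c_eq, mul_t]]

theorem transfer {n d : ℕ} (F : letI := G.s.appTop.hom.toAlgebra; Frame Γ(G.U, ⊤) Γ(G.R, ⊤) n)
    (a : Fin d → Γ(G.U, ⊤)) {k : Type u} [Field k] (y : Γ(G.R, ⊤) →+* k)
    (Q : Matrix (Fin d) (Fin n) k) :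
    letI := G.s.appTop.hom.toAlgebra
    IsBasisAt ((pmat F fun i => G.t.appTop.hom (a i)).map (y.comp G.s.appTop.hom))
        ((emat F).map (y.comp G.s.appTop.hom)) 1 Q →
    ∃ Q', IsBasisAt ((pmat F fun i => G.t.appTop.hom (a i)).map (y.comp G.t.appTop.hom))
        ((emat F).map (y.comp G.t.appTop.hom)) 1 Q' := by
  intro hQ
  obtain ⟨F₁, hE₁, hP₁, -⟩ :=
    exists_frame_base (isPushout_appTop_of_isPullback (IsPullback.of_hasPullback G.s G.t)) n F
  obtain ⟨F₂, hE₂, hP₂, -⟩ :=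
    exists_frame_base (isPushout_appTop_of_isPullback (isPullback_c G)) n F
  let z : Fin d → Γ(pullback G.s G.t, ⊤) := fun i =>
    (pullback.fst G.s G.t).appTop.hom (G.t.appTop.hom (a i))
  have hz : z = fun i => G.c.appTop.hom (G.t.appTop.hom (a i)) :=
    funext fun i => (ConcreteCategory.congr_hom (c_t_appTop G) (a i)).symm
  let _ : Algebra Γ(G.U, ⊤) Γ(G.R, ⊤) := G.s.appTop.hom.toAlgebra
  let _ : Algebra Γ(G.R, ⊤) Γ(pullback G.s G.t, ⊤) := (pullback.snd G.s G.t).appTop.hom.toAlgebra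
  have e₁ : pmat F₁ z = (pmat F fun i => G.t.appTop.hom (a i)).map G.t.appTop.hom := hP₁ d _
  have e₂ : pmat F₂ z = (pmat F fun i => G.t.appTop.hom (a i)).map G.s.appTop.hom := hz ▸ hP₂ d _
  have h' : IsBasisAt ((pmat F₂ z).map y) ((emat F₂).map y) 1 Q := by
    rw [e₂, hE₂, Matrix.map_map, Matrix.map_map]
    exact hQ
  have := isBasisAt_trans F₁ F₂ z y 1 Q h'
  rw [e₁, hE₁, Matrix.map_map, Matrix.map_map] at this
  exact ⟨_, this⟩

variable [IsFinite G.s] [Flat G.s] [LocallyOfFinitePresentation G.s] [IsFinite G.t] [Flat G.t]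
  [LocallyOfFinitePresentation G.t] [Mono G.j]

theorem exists_local (q : Ideal G.invariants) [q.IsPrime] :
    ∃ h : G.invariants, h ∉ q ∧
      ∃ (d : ℕ) (a : Fin d → Γ(G.U, ⊤)) (L : Fin d → Γ(G.R, ⊤) →+ Γ(G.U, ⊤)),
        (∀ i c b, L i (G.s.appTop.hom c * b) = c * L i b) ∧
        (∀ i (μ : Fin d → Γ(G.U, ⊤)),
          L i (∑ j, G.s.appTop.hom (μ j) * G.t.appTop.hom (a j)) = (h : Γ(G.U, ⊤)) * μ i) ∧
        (∀ b, ∑ i, G.s.appTop.hom (L i b) * G.t.appTop.hom (a i) = G.s.appTop.hom h * b) ∧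
        ∀ x, (∀ i, (h : Γ(G.U, ⊤)) * L i (G.t.appTop.hom x) ∈ G.invariants) ∧
          ∑ i, (h : Γ(G.U, ⊤)) * L i (G.t.appTop.hom x) * a i = ((h * h : G.invariants) : Γ(G.U, ⊤)) * x := by
  classical
  have : Algebra.IsIntegral G.invariants Γ(G.U, ⊤) := Groth.Agent.S1879.result S G
  obtain ⟨n, ⟨F⟩⟩ := exists_frame_st G
  let _ : Algebra Γ(G.U, ⊤) Γ(G.R, ⊤) := G.s.appTop.hom.toAlgebra
  have hinj : RingHom.ker (algebraMap G.invariants Γ(G.U, ⊤)) ≤ q := by
    rw [(RingHom.injective_iff_ker_eq_bot (algebraMap G.invariants Γ(G.U, ⊤))).1 Subtype.val_injective]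
    exact bot_le
  obtain ⟨p₁, -, hp₁, hp₁'⟩ := Ideal.exists_ideal_over_prime_of_isIntegral q ⊥ hinj
  let k := AlgebraicClosure (FractionRing (G.invariants ⧸ q))
  let φ : G.invariants →+* k := (algebraMap (FractionRing (G.invariants ⧸ q)) k).comp
    ((algebraMap (G.invariants ⧸ q) (FractionRing (G.invariants ⧸ q))).comp (Ideal.Quotient.mk q))
  have hφ : RingHom.ker φ = q := by
    rw [RingHom.ker_comp_of_injective _ (RingHom.injective _),
      RingHom.ker_comp_of_injective _ (IsFractionRing.injective _ _), Ideal.mk_ker]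
  obtain ⟨x₁, hx₁, -⟩ := exists_point φ p₁ (hp₁'.trans hφ.symm)
  -- a basis of the fibre
  obtain ⟨d, a, Q₁, hQ₁⟩ : ∃ (d : ℕ) (a : Fin d → Γ(G.U, ⊤)) (Q : Matrix (Fin d) (Fin n) k),
      IsBasisAt ((pmat F fun i => G.t.appTop.hom (a i)).map x₁) ((emat F).map x₁) 1 Q := by
    let _ : Algebra Γ(G.U, ⊤) k := x₁.toAlgebra
    let V := k ⊗[Γ(G.U, ⊤)] Γ(G.R, ⊤)
    let v : Γ(G.U, ⊤) → V := fun x => 1 ⊗ₜ G.t.appTop.hom x
    have hv : Submodule.span k (Set.range v) = ⊤ := by
      refine Submodule.eq_top_iff'.2 fun w => ?_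
      induction w using TensorProduct.induction_on with
      | zero => simp
      | add z w hz hw => exact Submodule.add_mem _ hz hw
      | tmul r b =>
        have hb : b ∈ Submodule.span Γ(G.U, ⊤) (Set.range G.t.appTop.hom) := by
          rw [span_t G]; trivial
        suffices h1 : (1 : k) ⊗ₜ[Γ(G.U, ⊤)] b ∈ Submodule.span k (Set.range v) by
          have := Submodule.smul_mem _ r h1
          rwa [TensorProduct.smul_tmul', smul_eq_mul, _root_.mul_one] at this
        induction hb using Submodule.span_induction with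
        | mem y hy => obtain ⟨x, rfl⟩ := hy; exact Submodule.subset_span ⟨x, rfl⟩
        | zero => simp
        | add y y' _ _ hy hy' => rw [TensorProduct.tmul_add]; exact Submodule.add_mem _ hy hy'
        | smul c y _ hy =>
          rw [TensorProduct.tmul_smul, ← algebraMap_smul k c]
          exact Submodule.smul_mem _ _ hy
    let φ₀ : Fin n → V →ₗ[k] k := fun l =>
      ((Algebra.linearMap Γ(G.U, ⊤) k).comp (F.φ l)).liftBaseChange k
    have hφ₀ : ∀ l b, φ₀ l (1 ⊗ₜ b) = x₁ (F.φ l b) := fun l b => by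
      show (1 : k) • x₁ (F.φ l b) = _
      rw [one_smul]
    let F₀ : Frame k V n := ⟨fun l => 1 ⊗ₜ F.x l, φ₀, fun w => by
      induction w using TensorProduct.induction_on with
      | zero => simp
      | add z w hz hw => simp only [map_add, add_smul, Finset.sum_add_distrib, hz, hw]
      | tmul r b =>
        have hr : (r ⊗ₜ[Γ(G.U, ⊤)] b : V) = r • ((1 : k) ⊗ₜ b) := by
          rw [TensorProduct.smul_tmul', smul_eq_mul, _root_.mul_one]
        rw [hr]
        simp only [map_smul, smul_eq_mul, mul_smul, ← Finset.smul_sum]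
        congr 1
        conv_rhs => rw [← F.sum_eq b, TensorProduct.tmul_sum]
        refine Finset.sum_congr rfl fun l _ => ?_
        rw [hφ₀, TensorProduct.tmul_smul, ← algebraMap_smul k (F.φ l b)]
        rfl⟩
    have hE₀ : emat F₀ = (emat F).map x₁ := by ext l m; exact hφ₀ l (F.x m)
    have := finite_of_frame F₀
    obtain ⟨κ, w, -, hsp, hind⟩ := exists_linearIndependent' k v
    let bas := Module.Basis.mk hind (by rw [hsp, hv])
    have : Finite κ := Module.Finite.finite_basis bas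
    let _ : Fintype κ := Fintype.ofFinite κ
    let e := Fintype.equivFin κ
    refine ⟨Fintype.card κ, fun i => w (e.symm i), ?_⟩
    obtain ⟨Q, hQ⟩ := exists_isBasisAt_basis F₀ (bas.reindex e)
    refine ⟨Q, ?_⟩
    have : pmat F₀ (bas.reindex e) = (pmat F fun i => G.t.appTop.hom (w (e.symm i))).map x₁ := by
      ext l i
      simp only [pmat, Matrix.of_apply, Matrix.map_apply, Module.Basis.coe_reindex,
        Function.comp_apply, bas, Module.Basis.mk_apply]
      exact hφ₀ _ _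
    rw [this, hE₀] at hQ
    exact hQ
  set P := pmat F fun i => G.t.appTop.hom (a i)
  let I : Ideal Γ(G.U, ⊤) :=
    { carrier := {c | ∃ Q, IsBasisAt P (emat F) c Q}
      zero_mem' := ⟨0, by simp [IsBasisAt]⟩
      add_mem' := by
        rintro c c' ⟨Q, h1, h2⟩ ⟨Q', h1', h2'⟩
        exact ⟨Q + Q', by rw [Matrix.add_mul, h1, h1', add_smul],
          by rw [Matrix.mul_add, h2, h2', add_smul]⟩
      smul_mem' := by
        rintro r c ⟨Q, h1, h2⟩
        exact ⟨r • Q, by rw [Matrix.smul_mul, h1, smul_smul, smul_eq_mul],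
          by rw [Matrix.mul_smul, h2, smul_smul, smul_eq_mul]⟩ }
  obtain ⟨h, hI, hhq⟩ : ∃ h : G.invariants, (h : Γ(G.U, ⊤)) ∈ I ∧ h ∉ q := by
    by_contra hc
    have hle : I.comap (algebraMap G.invariants Γ(G.U, ⊤)) ≤ q := fun c hcI => by
      by_contra hcq
      exact hc ⟨c, hcI, hcq⟩
    obtain ⟨p₀, hIp, hp₀, hp₀'⟩ := Ideal.exists_ideal_over_prime_of_isIntegral q I hle
    obtain ⟨x₀, hx₀, hk₀⟩ := exists_point φ p₀ (hp₀'.trans hφ.symm)
    obtain ⟨y, hy₀, hy₁⟩ := exists_orbit_ringHom G x₀ x₁ fun c hc =>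
      RingHom.congr_fun (hx₀.trans hx₁.symm) ⟨c, hc⟩
    obtain ⟨Q', hQ'⟩ := transfer G F a y Q₁ (by rw [hy₁]; exact hQ₁)
    rw [hy₀] at hQ'
    obtain ⟨c, Qc, hc0, hcQ⟩ := exists_isBasisAt_notMem P (emat F) (emat_idem F) (emat_mul_pmat F _)
      x₀ Q' hQ'
    exact hc0 ((RingHom.mem_ker).1 (hk₀ ▸ hIp ⟨Qc, hcQ⟩))
  obtain ⟨Q, hQ⟩ := hI
  obtain ⟨L, hL₁, hL₂⟩ := coords F (fun i => G.t.appTop.hom (a i)) _ Q hQ
  have hL₁' : ∀ i (μ : Fin d → Γ(G.U, ⊤)),
      L i (∑ j, G.s.appTop.hom (μ j) * G.t.appTop.hom (a j)) = (h : Γ(G.U, ⊤)) * μ i := by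
    intro i μ
    rw [map_sum]
    simp only [show ∀ j, G.s.appTop.hom (μ j) * G.t.appTop.hom (a j) = μ j • G.t.appTop.hom (a j) from
      fun j => (Algebra.smul_def _ _).symm, map_smul, hL₁, smul_eq_mul]
    simp [mul_comm]
  have hL₂' : ∀ b, ∑ i, G.s.appTop.hom (L i b) * G.t.appTop.hom (a i) = G.s.appTop.hom h * b := by
    intro b
    have := hL₂ b
    simp only [Algebra.smul_def] at this
    exact this
  have key : ∀ x, (∀ i, (h : Γ(G.U, ⊤)) * L i (G.t.appTop.hom x) ∈ G.invariants) ∧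
      ∑ i, (h : Γ(G.U, ⊤)) * L i (G.t.appTop.hom x) * a i =
        ((h * h : G.invariants) : Γ(G.U, ⊤)) * x := by
    intro x
    let ι₁ := (pullback.fst G.s G.t).appTop.hom
    let ι₂ := (pullback.snd G.s G.t).appTop.hom
    let γ := G.c.appTop.hom
    have hγt : ∀ f, γ (G.t.appTop.hom f) = ι₁ (G.t.appTop.hom f) := fun f =>
      ConcreteCategory.congr_hom (c_t_appTop G) f
    have hγs : ∀ f, γ (G.s.appTop.hom f) = ι₂ (G.s.appTop.hom f) := fun f =>
      ConcreteCategory.congr_hom ((isPushout_appTop_of_isPullback (isPullback_c G)).w) f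
    have hι : ∀ f, ι₁ (G.s.appTop.hom f) = ι₂ (G.t.appTop.hom f) := fun f =>
      ConcreteCategory.congr_hom
        ((isPushout_appTop_of_isPullback (IsPullback.of_hasPullback G.s G.t)).w) f
    have hst : G.s.appTop.hom (h : Γ(G.U, ⊤)) = G.t.appTop.hom (h : Γ(G.U, ⊤)) := h.2
    have hsum : ∀ (σ : Γ(G.U, ⊤) →+* Γ(G.R, ⊤)) (i : Fin d) (ψ : Γ(pullback G.s G.t, ⊤) →+ Γ(G.R, ⊤)),
        (∀ a' m, ψ (ι₂ a' * ι₁ m) = a' * G.t.appTop.hom (L i m)) →
        ψ (∑ j, ι₂ (σ (L j (G.t.appTop.hom x))) * ι₁ (G.t.appTop.hom (a j))) =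
          σ (L i (G.t.appTop.hom x)) * G.t.appTop.hom h := by
      intro σ i ψ hψ
      rw [map_sum, Finset.sum_eq_single i]
      · rw [hψ, hL₁, if_pos rfl]
      · intro j _ hj
        rw [hψ, hL₁, if_neg hj.symm, map_zero, mul_zero]
      · simp
    have hinv : ∀ i, (h : Γ(G.U, ⊤)) * L i (G.t.appTop.hom x) ∈ G.invariants := by
      intro i
      obtain ⟨ψ, hψ⟩ := exists_coord' (isPushout_appTop_of_isPullback (IsPullback.of_hasPullback G.s G.t)) (L i)
      have e₁ : ι₂ (G.t.appTop.hom h) * ι₁ (G.t.appTop.hom x) =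
          ∑ j, ι₂ (G.t.appTop.hom (L j (G.t.appTop.hom x))) * ι₁ (G.t.appTop.hom (a j)) := by
        rw [← hι, ← map_mul, ← hL₂', map_sum]
        exact Finset.sum_congr rfl fun j _ => by rw [map_mul, hι]
      have e₂ : ι₂ (G.s.appTop.hom h) * ι₁ (G.t.appTop.hom x) =
          ∑ j, ι₂ (G.s.appTop.hom (L j (G.t.appTop.hom x))) * ι₁ (G.t.appTop.hom (a j)) := by
        rw [← hγs, ← hγt, ← map_mul, ← hL₂', map_sum]
        exact Finset.sum_congr rfl fun j _ => by rw [map_mul, hγs, hγt]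
      rw [hst] at e₂
      have := congrArg ψ (e₁.symm.trans e₂)
      rw [hsum _ i ψ hψ, hsum _ i ψ hψ, ← hst] at this
      show G.s.appTop.hom _ = G.t.appTop.hom _
      rw [map_mul, map_mul, ← hst, mul_comm, ← this, mul_comm]
    refine ⟨hinv, ?_⟩
    have := congrArg G.e.appTop.hom (hL₂' (G.t.appTop.hom x))
    rw [map_sum, map_mul] at this
    have hes : ∀ f, G.e.appTop.hom (G.s.appTop.hom f) = f := fun f => by
      have := ConcreteCategory.congr_hom (congrArg Scheme.Hom.appTop G.e_s) f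
      simpa using this
    have het : ∀ f, G.e.appTop.hom (G.t.appTop.hom f) = f := fun f => by
      have := ConcreteCategory.congr_hom (congrArg Scheme.Hom.appTop G.e_t) f
      simpa using this
    simp only [map_mul, hes, het] at this
    rw [Subring.coe_mul, _root_.mul_assoc, ← this, Finset.mul_sum]
    exact Finset.sum_congr rfl fun j _ => _root_.mul_assoc _ _ _
  refine ⟨h, hhq, d, a, fun i => (L i).toAddMonoidHom, fun i c b => ?_, hL₁', hL₂', key⟩
  have := (L i).map_smul c b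
  rw [Algebra.smul_def] at this
  exact this

end Groth.Agent.GrpdBasic
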