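import Mathlib
import Groth.Prelude.Def_Grpd
import Groth.Agent.SGA1QuotLib.Basic
import Groth.Agent.SGA1QuotLib.Affine
import Groth.Agent.S1878
import Groth.Agent.S1879

/-!
# Geometric quotients of a pair of morphisms `s, t : R ⟶ U`, their universal property, affine case
-/

universe u
open CategoryTheory CategoryTheory.Limits AlgebraicGeometry Opposite TopologicalSpace

namespace Groth.Agent.GrpdBasic

set_option linter.style.haveILetI false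

variable {U R Y : Scheme.{u}} {s t : R ⟶ U} {q : U ⟶ Y}

/-- A section over `q⁻¹V` equalized by `s` and `t`. -/
def Fixed (s t : R ⟶ U) (q : U ⟶ Y) (V : Y.Opens) (a : Γ(U, q ⁻¹ᵁ V)) : Prop :=
  ∀ e : s ⁻¹ᵁ q ⁻¹ᵁ V ≤ t ⁻¹ᵁ q ⁻¹ᵁ V,
    (s.app (q ⁻¹ᵁ V)).hom a = (t.appLE (q ⁻¹ᵁ V) (s ⁻¹ᵁ q ⁻¹ᵁ V) e).hom a

/-- `q` is a quotient of `s, t : R ⇉ U`: integral, surjective, fibres the classes, functions the
equalizer. -/
structure IsQ (s t : R ⟶ U) (q : U ⟶ Y) : Prop where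
  integral : IsIntegralHom q
  inv : s ≫ q = t ≫ q
  surj : Function.Surjective q.base
  orbit : ∀ x x', q.base x = q.base x' → ∃ r, t.base r = x ∧ s.base r = x'
  injective : ∀ V : Y.Opens, Function.Injective (q.app V).hom
  range : ∀ (V : Y.Opens) (a : Γ(U, q ⁻¹ᵁ V)), Fixed s t q V a → a ∈ Set.range (q.app V).hom

theorem preimage_le_preimage (hinv : s ≫ q = t ≫ q) (V : Y.Opens) :
    s ⁻¹ᵁ q ⁻¹ᵁ V ≤ t ⁻¹ᵁ q ⁻¹ᵁ V := by
  rw [← Scheme.Hom.comp_preimage, ← Scheme.Hom.comp_preimage, hinv]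

theorem IsQ.preimage_image_eq (hq : IsQ s t q) (T : Set U)
    (hT : ∀ r, s.base r ∈ T → t.base r ∈ T) : q.base ⁻¹' (q.base '' T) = T := by
  refine Set.Subset.antisymm ?_ (Set.subset_preimage_image _ _)
  rintro x' ⟨x, hx, hxx⟩
  obtain ⟨r, rfl, rfl⟩ := hq.orbit x' x hxx.symm
  exact hT r hx

theorem IsQ.hom_ext (hq : IsQ s t q) {Z : Scheme.{u}} (a b : Y ⟶ Z) (h : q ≫ a = q ≫ b) : a = b :=
  SGA1QuotLib.hom_ext_of_injective q hq.surj hq.injective a b h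

theorem IsQ.hom_ext_of_openImmersion (hq : IsQ s t q) {V Z : Scheme.{u}} (j : V ⟶ Y)
    [IsOpenImmersion j] (a b : V ⟶ Z) (h : pullback.snd q j ≫ a = pullback.snd q j ≫ b) : a = b := by
  rw [← cancel_epi j.isoOpensRange.inv]
  refine SGA1QuotLib.hom_ext_of_injective (q ∣_ j.opensRange) (fun y => ?_) (fun W => ?_) _ _ ?_
  · obtain ⟨x, hx⟩ := hq.surj y.1
    have hxV : x ∈ q ⁻¹ᵁ j.opensRange := by
      show q.base x ∈ j.opensRange
      rw [hx]; exact y.2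
    refine ⟨⟨x, hxV⟩, Subtype.ext ?_⟩
    simp [hx]
  · rw [morphismRestrict_app]
    exact ((ConcreteCategory.bijective_of_isIso
      (U.presheaf.map (eqToHom (image_morphismRestrict_preimage q _ W)).op)).1).comp (hq.injective _)
  · let L : (q ⁻¹ᵁ j.opensRange).toScheme ⟶ pullback q j :=
      pullback.lift (q ⁻¹ᵁ j.opensRange).ι (q ∣_ j.opensRange ≫ j.isoOpensRange.inv)
        (by rw [Category.assoc, Scheme.Hom.isoOpensRange_inv_comp, morphismRestrict_ι])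
    have hL : L ≫ pullback.snd q j = q ∣_ j.opensRange ≫ j.isoOpensRange.inv := pullback.lift_snd _ _ _
    rw [← Category.assoc, ← Category.assoc, ← hL, Category.assoc, Category.assoc, h]

theorem IsQ.exists_desc (hq : IsQ s t q) {Z : Scheme.{u}} (h : U ⟶ Z) (hh : s ≫ h = t ≫ h) :
    ∃ h' : Y ⟶ Z, q ≫ h' = h := by
  classical
  haveI := hq.integral
  choose x hx using hq.surj
  choose W hW hyW _ using fun y : Y => exists_isAffineOpen_mem_and_subset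
    (TopologicalSpace.Opens.mem_top (h.base (x y)))
  have hsat : ∀ y, q.base ⁻¹' (q.base '' ((h ⁻¹ᵁ W y : U.Opens) : Set U)ᶜ) =
      ((h ⁻¹ᵁ W y : U.Opens) : Set U)ᶜ := fun y => hq.preimage_image_eq _ fun r hz htz => hz (by
    show h.base (s.base r) ∈ W y
    change h.base (t.base r) ∈ W y at htz
    rw [← Scheme.Hom.comp_apply, hh, Scheme.Hom.comp_apply]
    exact htz)
  let V : Y → Y.Opens := fun y => ⟨(q.base '' ((h ⁻¹ᵁ W y : U.Opens) : Set U)ᶜ)ᶜ,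
    (q.isClosedMap _ (h ⁻¹ᵁ W y).isOpen.isClosed_compl).isOpen_compl⟩
  have hyV : ∀ y, y ∈ V y := fun y hy => by
    have h1 : x y ∈ q.base ⁻¹' (q.base '' ((h ⁻¹ᵁ W y : U.Opens) : Set U)ᶜ) := by
      rw [Set.mem_preimage, hx]; exact hy
    rw [hsat] at h1
    exact h1 (hyW y)
  choose O hO hyO hOV using fun y : Y => exists_isAffineOpen_mem_and_subset (x := y) (U := V y) (hyV y)
  have hPW : ∀ y, q ⁻¹ᵁ O y ≤ h ⁻¹ᵁ W y := fun y z hz => by
    by_contra hc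
    exact hOV y hz ⟨z, hc, rfl⟩
  have hinv : ∀ y (a : Γ(Z, W y)), (h.appLE (W y) (q ⁻¹ᵁ O y) (hPW y)).hom a ∈ (q.app (O y)).hom.range := by
    intro y a
    refine hq.range (O y) _ fun e => ?_
    rw [← RingHom.comp_apply, ← RingHom.comp_apply, ← CommRingCat.hom_comp, ← CommRingCat.hom_comp,
      Scheme.Hom.app_eq_appLE, Scheme.Hom.appLE_comp_appLE, Scheme.Hom.appLE_comp_appLE]
    simp only [hh]
  let e : ∀ y, Γ(Y, O y) ≃+* (q.app (O y)).hom.range := fun y =>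
    RingEquiv.ofBijective (q.app (O y)).hom.rangeRestrict
      ⟨fun a b hab => hq.injective _ (congrArg Subtype.val hab), (q.app (O y)).hom.rangeRestrict_surjective⟩
  let φ : ∀ y, Γ(Z, W y) ⟶ Γ(Y, O y) := fun y => CommRingCat.ofHom
    ((e y).symm.toRingHom.comp ((h.appLE (W y) (q ⁻¹ᵁ O y) (hPW y)).hom.codRestrict _ (hinv y)))
  have hφ : ∀ y, φ y ≫ q.app (O y) = h.appLE (W y) (q ⁻¹ᵁ O y) (hPW y) := fun y => by
    ext a
    exact congrArg Subtype.val ((e y).apply_symm_apply _)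
  let 𝒰 : Y.OpenCover := Y.openCoverOfIsOpenCover O
    (.mk (eq_top_iff.2 fun y _ => TopologicalSpace.Opens.mem_iSup.2 ⟨y, hyO y⟩))
  let F : ∀ y, (O y).toScheme ⟶ Z := fun y =>
    (hO y).isoSpec.hom ≫ Spec.map (φ y) ≫ (hW y).fromSpec
  have hF : ∀ y, (q ∣_ O y) ≫ F y = (q ⁻¹ᵁ O y).ι ≫ h := fun y => by
    have hP := (hO y).preimage q
    have hfac : hP.isoSpec.hom ≫ hP.fromSpec = (q ⁻¹ᵁ O y).ι := by
      rw [← hP.isoSpec_inv_ι, Iso.hom_inv_id_assoc]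
    have e1 : (q ∣_ O y) ≫ (hO y).isoSpec.hom = hP.isoSpec.hom ≫ Spec.map (q.app (O y)) := by
      rw [← cancel_mono (hO y).fromSpec, Category.assoc, Category.assoc, Scheme.Hom.app_eq_appLE,
        IsAffineOpen.SpecMap_appLE_fromSpec q (hO y) hP le_rfl, reassoc_of% hfac,
        ← (hO y).isoSpec_inv_ι, Iso.hom_inv_id_assoc, morphismRestrict_ι]
    simp only [F]
    rw [reassoc_of% e1, ← Spec.map_comp_assoc, hφ,
      IsAffineOpen.SpecMap_appLE_fromSpec h (hW y) hP (hPW y), reassoc_of% hfac]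
  have hcompat : ∀ i j, pullback.fst (𝒰.f i) (𝒰.f j) ≫ F i = pullback.snd (𝒰.f i) (𝒰.f j) ≫ F j := by
    intro i j
    let k : pullback (O i).ι (O j).ι ⟶ Y := pullback.fst (O i).ι (O j).ι ≫ (O i).ι
    have key : ∀ (y : Y) (c : pullback (O i).ι (O j).ι ⟶ (O y).toScheme), c ≫ (O y).ι = k →
        pullback.snd q k ≫ c ≫ F y = pullback.fst q k ≫ h := fun y c hc => by
      have hr : Set.range (pullback.fst q k) ⊆ Set.range (q ⁻¹ᵁ O y).ι := by
        rw [Scheme.Opens.range_ι]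
        rintro _ ⟨z, rfl⟩
        change q.base (pullback.fst q k z) ∈ O y
        have e : pullback.fst q k ≫ q = (pullback.snd q k ≫ c) ≫ (O y).ι :=
          pullback.condition.trans ((congrArg (pullback.snd q k ≫ ·) hc.symm).trans
            (Category.assoc _ _ _).symm)
        rw [← Scheme.Hom.comp_apply, e, Scheme.Hom.comp_apply]
        exact ((pullback.snd q k ≫ c) z).2
      let L := IsOpenImmersion.lift (q ⁻¹ᵁ O y).ι _ hr
      have e1 : L ≫ (q ⁻¹ᵁ O y).ι = pullback.fst q k := IsOpenImmersion.lift_fac _ _ hr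
      have e2 : L ≫ (q ∣_ O y) = pullback.snd q k ≫ c := by
        rw [← cancel_mono (O y).ι, Category.assoc, morphismRestrict_ι, reassoc_of% e1,
          Category.assoc, hc, pullback.condition]
      rw [← reassoc_of% e2, hF, reassoc_of% e1]
    exact hq.hom_ext_of_openImmersion k _ _
      ((key i _ rfl).trans (key j _ pullback.condition.symm).symm)
  refine ⟨𝒰.glueMorphisms F hcompat, ?_⟩
  let 𝒱 : U.OpenCover := U.openCoverOfIsOpenCover (fun y => q ⁻¹ᵁ O y)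
    (.mk (eq_top_iff.2 fun z _ => TopologicalSpace.Opens.mem_iSup.2 ⟨q.base z, hyO _⟩))
  refine 𝒱.hom_ext _ _ fun y => ?_
  change (q ⁻¹ᵁ O y).ι ≫ q ≫ 𝒰.glueMorphisms F hcompat = (q ⁻¹ᵁ O y).ι ≫ h
  rw [← morphismRestrict_ι_assoc, ← hF]
  exact congrArg ((q ∣_ O y) ≫ ·) (𝒰.ι_glueMorphisms F hcompat y)

/-- The quotient is a coequalizer of schemes. -/
theorem IsQ.nonempty_isColimit (hq : IsQ s t q) : Nonempty (IsColimit (Cofork.ofπ q hq.inv)) :=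
  ⟨Cofork.IsColimit.mk _ (fun c => (hq.exists_desc c.π c.condition).choose)
    (fun c => (hq.exists_desc c.π c.condition).choose_spec)
    (fun c m hm => hq.hom_ext _ _ (hm.trans (hq.exists_desc c.π c.condition).choose_spec.symm))⟩

theorem appLE_res {X X' : Scheme.{u}} (f : X' ⟶ X) {A B : X.Opens} {A' B' : X'.Opens} (h : B ≤ A)
    (h' : B' ≤ A') (eA : A' ≤ f ⁻¹ᵁ A) (eB : B' ≤ f ⁻¹ᵁ B) (a : Γ(X, A)) :
    (f.appLE B B' eB).hom ((X.presheaf.map (homOfLE h).op).hom a) =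
      (X'.presheaf.map (homOfLE h').op).hom ((f.appLE A A' eA).hom a) := by
  have h1 : X.presheaf.map (homOfLE h).op ≫ f.appLE B B' eB =
      f.appLE A A' eA ≫ X'.presheaf.map (homOfLE h').op := by
    rw [Scheme.Hom.map_appLE, Scheme.Hom.appLE_map]
  exact congrArg (fun m => m.hom a) h1

/-- Functions being the equalizer can be checked on sufficiently many opens. -/
theorem sections_of_forall_exists (hinv : s ≫ q = t ≫ q)
    (h : ∀ (V : Y.Opens), ∀ y ∈ V, ∃ O : Y.Opens, y ∈ O ∧ O ≤ V ∧ Function.Injective (q.app O).hom ∧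
      ∀ a : Γ(U, q ⁻¹ᵁ O), Fixed s t q O a → a ∈ Set.range (q.app O).hom) :
    (∀ V : Y.Opens, Function.Injective (q.app V).hom) ∧
      ∀ (V : Y.Opens) (a : Γ(U, q ⁻¹ᵁ V)), Fixed s t q V a → a ∈ Set.range (q.app V).hom := by
  choose O hyO hOV hOi hOr using h
  have hinjU : ∀ V : Y.Opens, Function.Injective (q.app V).hom := fun V => by
    intro a b hab
    refine Y.sheaf.eq_of_locally_eq' (fun y : V => O V y.1 y.2) V (fun y => homOfLE (hOV _ _ y.2))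
      (fun y hy => Opens.mem_iSup.2 ⟨⟨y, hy⟩, hyO _ _ _⟩) a b fun y => hOi V y.1 y.2 ?_
    change (q.app _).hom ((Y.presheaf.map _).hom a) = (q.app _).hom ((Y.presheaf.map _).hom b)
    rw [SGA1QuotLib.app_map_apply, SGA1QuotLib.app_map_apply, hab]
  refine ⟨hinjU, fun V a ha => ?_⟩
  have hle : ∀ y : V, q ⁻¹ᵁ O V y.1 y.2 ≤ q ⁻¹ᵁ V := fun y =>
    ((Opens.map q.base).map (homOfLE (hOV V y.1 y.2))).le
  have hloc : ∀ y : V, ∃ b, (q.app (O V y.1 y.2)).hom b =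
      (U.presheaf.map (homOfLE (hle y)).op).hom a := fun y => by
    refine hOr V y.1 y.2 _ fun e => ?_
    have hs : s ⁻¹ᵁ q ⁻¹ᵁ O V y.1 y.2 ≤ s ⁻¹ᵁ q ⁻¹ᵁ V := fun z hz => hle y hz
    rw [Scheme.Hom.app_eq_appLE, appLE_res s (hle y) hs le_rfl le_rfl,
      appLE_res t (hle y) hs (preimage_le_preimage hinv V) e, ← Scheme.Hom.app_eq_appLE,
      ha (preimage_le_preimage hinv V)]
  choose b hb using hloc
  obtain ⟨r, hr, -⟩ := Y.sheaf.existsUnique_gluing' (fun y : V => O V y.1 y.2) V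
    (fun y => homOfLE (hOV V y.1 y.2))
    (fun y hy => Opens.mem_iSup.2 ⟨⟨y, hy⟩, hyO _ _ _⟩) b fun i j => hinjU _ (by
      change (q.app _).hom ((Y.presheaf.map (homOfLE _).op).hom (b i)) =
        (q.app _).hom ((Y.presheaf.map (homOfLE _).op).hom (b j))
      rw [SGA1QuotLib.app_map_apply, SGA1QuotLib.app_map_apply, hb, hb, ← RingHom.comp_apply,
        ← RingHom.comp_apply, ← CommRingCat.hom_comp, ← CommRingCat.hom_comp, ← Functor.map_comp,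
        ← Functor.map_comp]
      rfl)
  refine ⟨r, ?_⟩
  refine U.sheaf.eq_of_locally_eq' (fun y : V => q ⁻¹ᵁ O V y.1 y.2) (q ⁻¹ᵁ V)
    (fun y => homOfLE (hle y))
    (fun x hx => Opens.mem_iSup.2 ⟨⟨q.base x, hx⟩, hyO _ _ _⟩) _ _ fun y => ?_
  change (U.presheaf.map _).hom ((q.app V).hom r) = (U.presheaf.map _).hom a
  rw [← SGA1QuotLib.app_map_apply q (hOV V y.1 y.2), ← hb y]
  exact congrArg (q.app _).hom (hr y)

/-- Comparison of the sections along a cartesian open restriction. -/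
theorem sections_iff_of_openImmersion {U' R' Y' : Scheme.{u}} {s' t' : R' ⟶ U'} {q' : U' ⟶ Y'}
    (k : U' ⟶ U) (kR : R' ⟶ R) (j : Y' ⟶ Y) [IsOpenImmersion k] [IsOpenImmersion kR] [IsOpenImmersion j]
    (hk : k ≫ q = q' ≫ j) (hs : kR ≫ s = s' ≫ k) (ht : kR ≫ t = t' ≫ k)
    (hinv : s ≫ q = t ≫ q) (hinv' : s' ≫ q' = t' ≫ q')
    (hpre : q ⁻¹ᵁ j.opensRange ≤ k.opensRange) (hpreR : s ⁻¹ᵁ k.opensRange ≤ kR.opensRange)
    (O : Y.Opens) (hO : O ≤ j.opensRange) :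
    (Function.Injective (q'.app (j ⁻¹ᵁ O)).hom ↔ Function.Injective (q.app O).hom) ∧
      ((∀ a, Fixed s' t' q' (j ⁻¹ᵁ O) a → a ∈ Set.range (q'.app (j ⁻¹ᵁ O)).hom) ↔
        ∀ a, Fixed s t q O a → a ∈ Set.range (q.app O).hom) := by
  haveI : IsIso (j.app O) := j.isIso_app O hO
  have hjb := ConcreteCategory.bijective_of_isIso (j.app O)
  have hV0 : q' ⁻¹ᵁ j ⁻¹ᵁ O = k ⁻¹ᵁ q ⁻¹ᵁ O := by
    rw [← Scheme.Hom.comp_preimage, ← Scheme.Hom.comp_preimage, hk]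
  have hR0 : s' ⁻¹ᵁ q' ⁻¹ᵁ j ⁻¹ᵁ O = kR ⁻¹ᵁ s ⁻¹ᵁ q ⁻¹ᵁ O := by
    rw [hV0, ← Scheme.Hom.comp_preimage, ← Scheme.Hom.comp_preimage (f := kR), hs]
  have hkO : q ⁻¹ᵁ O ≤ k.opensRange := fun z hz => hpre (hO hz)
  have hRO : s ⁻¹ᵁ q ⁻¹ᵁ O ≤ kR.opensRange := fun z hz => hpreR (hkO hz)
  let m := k.appLE (q ⁻¹ᵁ O) (q' ⁻¹ᵁ j ⁻¹ᵁ O) hV0.le
  let mR := kR.appLE (s ⁻¹ᵁ q ⁻¹ᵁ O) (s' ⁻¹ᵁ q' ⁻¹ᵁ j ⁻¹ᵁ O) hR0.le
  have hm : Function.Bijective m.hom := by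
    haveI : IsIso (k.app (q ⁻¹ᵁ O)) := k.isIso_app _ hkO
    haveI : IsIso (U'.presheaf.map (homOfLE hV0.le).op) := by
      have : IsIso (homOfLE hV0.le) := ⟨homOfLE hV0.ge, Subsingleton.elim _ _, Subsingleton.elim _ _⟩
      infer_instance
    haveI : IsIso m := by
      change IsIso (k.app (q ⁻¹ᵁ O) ≫ U'.presheaf.map (homOfLE hV0.le).op)
      infer_instance
    exact ConcreteCategory.bijective_of_isIso m
  have hmR : Function.Bijective mR.hom := by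
    haveI : IsIso (kR.app (s ⁻¹ᵁ q ⁻¹ᵁ O)) := kR.isIso_app _ hRO
    haveI : IsIso (R'.presheaf.map (homOfLE hR0.le).op) := by
      have : IsIso (homOfLE hR0.le) := ⟨homOfLE hR0.ge, Subsingleton.elim _ _, Subsingleton.elim _ _⟩
      infer_instance
    haveI : IsIso mR := by
      change IsIso (kR.app (s ⁻¹ᵁ q ⁻¹ᵁ O) ≫ R'.presheaf.map (homOfLE hR0.le).op)
      infer_instance
    exact ConcreteCategory.bijective_of_isIso mR
  have hsq : q.app O ≫ m = j.app O ≫ q'.app (j ⁻¹ᵁ O) := by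
    simp only [m, Scheme.Hom.app_eq_appLE, Scheme.Hom.appLE_comp_appLE, hk]
  have hsq' : ∀ b, m.hom ((q.app O).hom b) = (q'.app (j ⁻¹ᵁ O)).hom ((j.app O).hom b) := fun b =>
    congrArg (fun f => f.hom b) hsq
  have e0 := preimage_le_preimage hinv O
  have e0' := preimage_le_preimage hinv' (j ⁻¹ᵁ O)
  have hS : s.app (q ⁻¹ᵁ O) ≫ mR = m ≫ s'.app (q' ⁻¹ᵁ j ⁻¹ᵁ O) := by
    simp only [m, mR, Scheme.Hom.app_eq_appLE, Scheme.Hom.appLE_comp_appLE, hs]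
  have hT : t.appLE (q ⁻¹ᵁ O) (s ⁻¹ᵁ q ⁻¹ᵁ O) e0 ≫ mR =
      m ≫ t'.appLE (q' ⁻¹ᵁ j ⁻¹ᵁ O) (s' ⁻¹ᵁ q' ⁻¹ᵁ j ⁻¹ᵁ O) e0' := by
    simp only [m, mR, Scheme.Hom.appLE_comp_appLE, ht]
  have hfix : ∀ a, Fixed s' t' q' (j ⁻¹ᵁ O) (m.hom a) ↔ Fixed s t q O a := fun a => by
    have h1 : mR.hom ((s.app (q ⁻¹ᵁ O)).hom a) = (s'.app _).hom (m.hom a) :=
      congrArg (fun f => f.hom a) hS
    have h2 : mR.hom ((t.appLE _ _ e0).hom a) = (t'.appLE _ _ e0').hom (m.hom a) :=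
      congrArg (fun f => f.hom a) hT
    exact ⟨fun h _ => hmR.1 (h1.trans ((h e0').trans h2.symm)),
      fun h _ => h1.symm.trans ((congrArg mR.hom (h e0)).trans h2)⟩
  refine ⟨⟨fun h a b hab => hjb.1 (h ?_), fun h a b hab => ?_⟩, ⟨fun h a ha => ?_, fun h a ha => ?_⟩⟩
  · rw [← hsq', ← hsq', hab]
  · obtain ⟨a, rfl⟩ := hjb.2 a
    obtain ⟨b, rfl⟩ := hjb.2 b
    rw [← hsq', ← hsq'] at hab
    rw [h (hm.1 hab)]
  · obtain ⟨b, hb⟩ := h _ ((hfix a).2 ha)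
    obtain ⟨b, rfl⟩ := hjb.2 b
    exact ⟨b, hm.1 ((hsq' b).trans hb)⟩
  · obtain ⟨a, rfl⟩ := hm.2 a
    obtain ⟨b, hb⟩ := h a ((hfix a).1 ha)
    exact ⟨_, (hsq' b).symm.trans (congrArg m.hom hb)⟩

/-- The affine criterion for the sections. -/
theorem sections_of_isAffine [IsAffine U] [IsAffine R] [IsAffine Y] (hinv : s ≫ q = t ≫ q)
    (hinj : Function.Injective (q.app ⊤).hom)
    (hrange : ∀ a : Γ(U, q ⁻¹ᵁ ⊤), Fixed s t q ⊤ a → a ∈ Set.range (q.app ⊤).hom) :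
    (∀ V : Y.Opens, Function.Injective (q.app V).hom) ∧
      ∀ (V : Y.Opens) (a : Γ(U, q ⁻¹ᵁ V)), Fixed s t q V a → a ∈ Set.range (q.app V).hom := by
  refine sections_of_forall_exists hinv fun V y hy => ?_
  obtain ⟨b, hbV, hyb⟩ := (isAffineOpen_top Y).exists_basicOpen_le (V := V) ⟨y, hy⟩ trivial
  refine ⟨Y.basicOpen b, hyb, hbV, ?_⟩
  let β : Γ(U, q ⁻¹ᵁ ⊤) := (q.app ⊤).hom b
  let βR : Γ(R, s ⁻¹ᵁ q ⁻¹ᵁ ⊤) := (s.app (q ⁻¹ᵁ ⊤)).hom β
  have hβ : q ⁻¹ᵁ Y.basicOpen b = U.basicOpen β := Scheme.preimage_basicOpen q b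
  have hβR : s ⁻¹ᵁ q ⁻¹ᵁ Y.basicOpen b = R.basicOpen βR := by
    rw [hβ]; exact Scheme.preimage_basicOpen s β
  have hle : q ⁻¹ᵁ Y.basicOpen b ≤ q ⁻¹ᵁ ⊤ := le_top
  have hleR : s ⁻¹ᵁ q ⁻¹ᵁ Y.basicOpen b ≤ s ⁻¹ᵁ q ⁻¹ᵁ ⊤ := le_top
  letI : Algebra Γ(U, q ⁻¹ᵁ ⊤) Γ(U, q ⁻¹ᵁ Y.basicOpen b) :=
    (U.presheaf.map (homOfLE hle).op).hom.toAlgebra
  haveI : IsLocalization.Away β Γ(U, q ⁻¹ᵁ Y.basicOpen b) :=
    (isAffineOpen_top U).isLocalization_of_eq_basicOpen β (homOfLE hle) hβ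
  letI : Algebra Γ(R, s ⁻¹ᵁ q ⁻¹ᵁ ⊤) Γ(R, s ⁻¹ᵁ q ⁻¹ᵁ Y.basicOpen b) :=
    (R.presheaf.map (homOfLE hleR).op).hom.toAlgebra
  haveI : IsLocalization.Away βR Γ(R, s ⁻¹ᵁ q ⁻¹ᵁ Y.basicOpen b) :=
    (isAffineOpen_top R).isLocalization_of_eq_basicOpen βR (homOfLE hleR) hβR
  letI : Algebra Γ(Y, ⊤) Γ(Y, Y.basicOpen b) :=
    (Y.presheaf.map (homOfLE (Y.basicOpen_le b)).op).hom.toAlgebra
  haveI : IsLocalization.Away b Γ(Y, Y.basicOpen b) :=
    (isAffineOpen_top Y).isLocalization_of_eq_basicOpen b (homOfLE (Y.basicOpen_le b)) rfl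
  have hnat : ∀ a : Γ(Y, ⊤), (q.app (Y.basicOpen b)).hom (algebraMap _ _ a) =
      algebraMap _ Γ(U, q ⁻¹ᵁ Y.basicOpen b) ((q.app ⊤).hom a) := fun a =>
    SGA1QuotLib.app_map_apply q (Y.basicOpen_le b) a
  have e1 := preimage_le_preimage hinv ⊤
  have e2 := preimage_le_preimage hinv (Y.basicOpen b)
  let sb := (s.app (q ⁻¹ᵁ Y.basicOpen b)).hom
  let tb := (t.appLE (q ⁻¹ᵁ Y.basicOpen b) (s ⁻¹ᵁ q ⁻¹ᵁ Y.basicOpen b) e2).hom
  let tt := (t.appLE (q ⁻¹ᵁ ⊤) (s ⁻¹ᵁ q ⁻¹ᵁ ⊤) e1).hom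
  have hsnat : ∀ a, sb (algebraMap _ _ a) =
      algebraMap _ Γ(R, s ⁻¹ᵁ q ⁻¹ᵁ Y.basicOpen b) ((s.app (q ⁻¹ᵁ ⊤)).hom a) := fun a => by
    simp only [sb, Scheme.Hom.app_eq_appLE]
    exact appLE_res s hle hleR le_rfl le_rfl a
  have htnat : ∀ a, tb (algebraMap _ _ a) =
      algebraMap _ Γ(R, s ⁻¹ᵁ q ⁻¹ᵁ Y.basicOpen b) (tt a) := fun a =>
    appLE_res t hle hleR e1 e2 a
  have htβ : tt β = βR := by
    simp only [tt, βR, β]
    rw [← RingHom.comp_apply, ← RingHom.comp_apply, ← CommRingCat.hom_comp, ← CommRingCat.hom_comp,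
      Scheme.Hom.app_eq_appLE, Scheme.Hom.app_eq_appLE, Scheme.Hom.appLE_comp_appLE,
      Scheme.Hom.appLE_comp_appLE]
    simp only [hinv]
  refine ⟨(injective_iff_map_eq_zero _).2 fun a ha => ?_, fun a ha => ?_⟩
  · obtain ⟨⟨c, ⟨_, n, rfl⟩⟩, hc⟩ := IsLocalization.surj (Submonoid.powers b) a
    have h0 := congrArg (q.app (Y.basicOpen b)).hom hc
    rw [map_mul, ha, zero_mul, hnat] at h0
    obtain ⟨⟨_, m, rfl⟩, hm⟩ :=
      (IsLocalization.map_eq_zero_iff (Submonoid.powers β) _ _).1 h0.symm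
    have hm' : b ^ m * c = 0 := hinj (by rw [map_zero, map_mul, map_pow]; exact hm)
    have h1 := congrArg (algebraMap Γ(Y, ⊤) Γ(Y, Y.basicOpen b)) hm'
    rw [map_mul, map_zero, map_pow] at h1
    rw [((IsLocalization.Away.algebraMap_isUnit b).pow m).mul_right_eq_zero] at h1
    rw [h1] at hc
    exact ((IsLocalization.map_units _ (⟨b ^ n, n, rfl⟩ : Submonoid.powers b))).mul_left_eq_zero.1 hc
  · obtain ⟨⟨x, ⟨_, n, rfl⟩⟩, hx⟩ := IsLocalization.surj (Submonoid.powers β) a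
    have h1 := congrArg sb hx
    have h2 := congrArg tb hx
    dsimp only at h1 h2
    rw [map_mul, hsnat, hsnat, map_pow] at h1
    rw [map_mul, htnat, htnat, map_pow, htβ] at h2
    have hab : sb a = tb a := ha e2
    rw [hab] at h1
    obtain ⟨⟨_, m, rfl⟩, hm⟩ := (IsLocalization.eq_iff_exists (Submonoid.powers βR)
      Γ(R, s ⁻¹ᵁ q ⁻¹ᵁ Y.basicOpen b)).1 (h1.symm.trans h2)
    obtain ⟨c, hc⟩ := hrange (β ^ m * x) fun _ => by
      show (s.app (q ⁻¹ᵁ ⊤)).hom (β ^ m * x) = tt (β ^ m * x)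
      rw [map_mul, map_mul, map_pow, map_pow, htβ]
      exact hm
    obtain ⟨u, hu⟩ := ((IsLocalization.Away.algebraMap_isUnit (S := Γ(Y, Y.basicOpen b)) b).pow (n + m)).exists_left_inv
    refine ⟨algebraMap _ _ c * u, ?_⟩
    have h3 := congrArg (q.app (Y.basicOpen b)).hom hu
    rw [map_mul, map_pow, hnat, map_one] at h3
    dsimp only at hx
    have h4 := congrArg (algebraMap Γ(U, q ⁻¹ᵁ ⊤) Γ(U, q ⁻¹ᵁ Y.basicOpen b)) hc
    rw [map_mul, map_pow] at h4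
    rw [map_pow] at hx
    rw [map_mul, hnat, h4, ← hx]
    linear_combination a * h3

variable {S : Scheme.{u}} (G : Grpd.GroupoidScheme S)

theorem s_toQuot : G.s ≫ G.toQuot = G.t ≫ G.toQuot := by
  let incl : CommRingCat.of G.invariants ⟶ Γ(G.U, ⊤) := CommRingCat.ofHom G.invariants.subtype
  have key : ∀ f : G.R ⟶ G.U, f ≫ G.toQuot = G.R.toSpecΓ ≫ Spec.map (incl ≫ f.appTop) := fun f => by
    rw [Spec.map_comp, ← Scheme.toSpecΓ_naturality_assoc]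
    rfl
  rw [key, key]
  congr 2
  ext c
  exact c.2

/-- The affine case. -/
theorem isQ_toQuot [IsAffine G.U] [IsAffine G.R] [IsFinite G.s] [Flat G.s]
    [LocallyOfFinitePresentation G.s] [IsFinite G.t] [Flat G.t] [LocallyOfFinitePresentation G.t] :
    IsQ G.s G.t G.toQuot := by
  obtain ⟨⟨hsurj, horb⟩, -⟩ := Groth.Agent.S1878.result S G
  have hint : Algebra.IsIntegral G.invariants Γ(G.U, ⊤) := Groth.Agent.S1879.result S G
  let incl : CommRingCat.of G.invariants ⟶ Γ(G.U, ⊤) := CommRingCat.ofHom G.invariants.subtype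
  have happ : G.toQuot.appTop = (Scheme.ΓSpecIso (CommRingCat.of G.invariants)).hom ≫ incl := by
    simp [Grpd.GroupoidScheme.toQuot, incl, Scheme.toSpecΓ_appTop, Scheme.ΓSpecIso_naturality]
  have hbij := ConcreteCategory.bijective_of_isIso (Scheme.ΓSpecIso (CommRingCat.of G.invariants)).hom
  have hinj : Function.Injective (G.toQuot.app ⊤).hom := by
    change Function.Injective G.toQuot.appTop.hom
    rw [happ]
    exact (Subtype.val_injective).comp hbij.1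
  obtain ⟨h1, h2⟩ := sections_of_isAffine (s := G.s) (t := G.t) (q := G.toQuot) (s_toQuot G) hinj
    fun a ha => by
      have hmem : a ∈ G.invariants := by
        change (G.s.app ⊤).hom a = (G.t.app ⊤).hom a
        refine (ha le_rfl).trans ?_
        rw [Scheme.Hom.app_eq_appLE]
        rfl
      obtain ⟨r, hr⟩ := hbij.2 ⟨a, hmem⟩
      refine ⟨r, ?_⟩
      change G.toQuot.appTop.hom r = a
      rw [happ]
      exact congrArg Subtype.val hr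
  refine ⟨?_, s_toQuot G, hsurj, fun x x' h => (horb x x').1 h, h1, h2⟩
  have : IsIntegralHom (Spec.map incl) := IsIntegralHom.SpecMap_iff.2 hint.isIntegral
  have e : G.toQuot = G.U.isoSpec.hom ≫ Spec.map incl := rfl
  rw [e]
  infer_instance

end Groth.Agent.GrpdBasic
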