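import Groth.Agent.GrpdBasic.QuotGlue

/-!
# The free case: the quotient is finite locally free and the relation is its kernel pair
-/

universe u
open CategoryTheory CategoryTheory.Limits AlgebraicGeometry TopologicalSpace

namespace Groth.Agent.GrpdBasic

set_option linter.style.haveILetI false
set_option backward.isDefEq.respectTransparency false

section Free

variable {S : Scheme.{u}} {G : Grpd.GroupoidScheme S} [IsFinite G.s] [Flat G.s]
  [LocallyOfFinitePresentation G.s] [Mono G.j]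

theorem chart_finLocFree (W : InvAffine G) :
    IsFinite (resA G W).toQuot ∧ Flat (resA G W).toQuot ∧ LocallyOfFinitePresentation (resA G W).toQuot ∧
      ∀ {T : Scheme.{u}} (f g : T ⟶ W.1.toScheme), f ≫ (resA G W).toQuot = g ≫ (resA G W).toQuot →
        ∃ r : T ⟶ G.R, r ≫ G.t = f ≫ W.1.ι ∧ r ≫ G.s = g ≫ W.1.ι := by
  obtain ⟨_, _, _⟩ := finLocFree_t (resA G W)
  haveI := mono_res_j G W.1 W.2.2
  obtain ⟨⟨h1, h2, h3⟩, φ, hφt, hφs⟩ := Groth.Agent.S1877.result S (resA G W)
  refine ⟨h1, h2, h3, fun f g h => ⟨pullback.lift f g h ≫ φ.inv ≫ (G.s ⁻¹ᵁ W.1).ι, ?_, ?_⟩⟩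
  · rw [Category.assoc, Category.assoc, ← resA_t_ι]
    have : φ.inv ≫ (resA G W).t = pullback.fst (resA G W).toQuot (resA G W).toQuot := by
      rw [← hφt, Iso.inv_hom_id_assoc]
    rw [reassoc_of% this, pullback.lift_fst_assoc]
  · rw [Category.assoc, Category.assoc, ← resA_s_ι]
    have : φ.inv ≫ (resA G W).s = pullback.snd (resA G W).toQuot (resA G W).toQuot := by
      rw [← hφs, Iso.inv_hom_id_assoc]
    rw [reassoc_of% this, pullback.lift_snd_assoc]

variable {Y : Scheme.{u}} {q : G.U ⟶ Y}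
  (hch : ∀ y : Y, ∃ (W : InvAffine G) (j : qObj G W ⟶ Y) (_ : IsOpenImmersion j),
    y ∈ j.opensRange ∧ IsPullback W.1.ι (resA G W).toQuot q j)

include hch in
theorem of_charts (P : MorphismProperty Scheme.{u}) [IsZariskiLocalAtTarget P] [P.RespectsIso]
    (h : ∀ W : InvAffine G, P (resA G W).toQuot) : P q := by
  choose W j hj hy hpb using hch
  let 𝒰 : Y.OpenCover :=
    { I₀ := Y
      X := fun y => qObj G (W y)
      f := j
      mem₀ := by
        rw [Scheme.presieve₀_mem_precoverage_iff]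
        exact ⟨fun y => ⟨y, hy y⟩, hj⟩ }
  refine IsZariskiLocalAtTarget.of_openCover (P := P) 𝒰 fun y => ?_
  show P (pullback.snd q (j y))
  rw [← (hpb y).isoPullback_inv_snd, MorphismProperty.cancel_left_of_respectsIso P]
  exact h (W y)

include hch in
theorem isPullback_t_s (hq : IsQ G.s G.t q) : IsPullback G.t G.s q q := by
  have key : ∀ {T : Scheme.{u}} (f g : T ⟶ G.U), f ≫ q = g ≫ q →
      ∃ r : T ⟶ G.R, r ≫ G.t = f ∧ r ≫ G.s = g := by
    intro T f g h
    choose W j hj hy hpb using fun z : T => hch (q.base (f.base z))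
    have hrange : ∀ z, q ⁻¹ᵁ (j z).opensRange ≤ (W z).1 := fun z x hx => by
      obtain ⟨a, ha⟩ := hx
      obtain ⟨b, hb, -⟩ := Scheme.Pullback.exists_preimage_pullback x a ha.symm
      have : (W z).1.ι ((hpb z).isoPullback.inv b) = x := by
        rw [← Scheme.Hom.comp_apply, (hpb z).isoPullback_inv_fst, hb]
      rw [← this]
      exact ((hpb z).isoPullback.inv b).2
    let O : T → T.Opens := fun z => (f ≫ q) ⁻¹ᵁ (j z).opensRange
    let 𝒰 : T.OpenCover := T.openCoverOfIsOpenCover O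
      (.mk (eq_top_iff.2 fun z _ => TopologicalSpace.Opens.mem_iSup.2 ⟨z, hy z⟩))
    have hf : ∀ z, Set.range ((O z).ι ≫ f) ⊆ Set.range (W z).1.ι := fun z => by
      rw [Scheme.Opens.range_ι]
      rintro _ ⟨x, rfl⟩
      exact hrange z x.2
    have hg : ∀ z, Set.range ((O z).ι ≫ g) ⊆ Set.range (W z).1.ι := fun z => by
      rw [Scheme.Opens.range_ι]
      rintro _ ⟨x, rfl⟩
      refine hrange z ?_
      show q.base (g.base x.1) ∈ (j z).opensRange
      rw [← Scheme.Hom.comp_apply, ← h]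
      exact x.2
    have hr : ∀ z, ∃ r : (O z).toScheme ⟶ G.R, r ≫ G.t = (O z).ι ≫ f ∧ r ≫ G.s = (O z).ι ≫ g := fun z => by
      haveI := hj z
      have e1 := IsOpenImmersion.lift_fac (W z).1.ι _ (hf z)
      have e2 := IsOpenImmersion.lift_fac (W z).1.ι _ (hg z)
      obtain ⟨r, h1, h2⟩ := (chart_finLocFree (W z)).2.2.2 (IsOpenImmersion.lift _ _ (hf z))
        (IsOpenImmersion.lift _ _ (hg z)) (by
          rw [← cancel_mono (j z), Category.assoc, Category.assoc, ← (hpb z).w, reassoc_of% e1,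
            reassoc_of% e2, h])
      exact ⟨r, h1.trans e1, h2.trans e2⟩
    choose r hrt hrs using hr
    refine ⟨𝒰.glueMorphisms r fun a b => ?_, 𝒰.hom_ext _ _ fun z => ?_, 𝒰.hom_ext _ _ fun z => ?_⟩
    · refine t_s_ext G ?_ ?_
      · rw [Category.assoc, Category.assoc, hrt, hrt]
        exact pullback.condition_assoc f
      · rw [Category.assoc, Category.assoc, hrs, hrs]
        exact pullback.condition_assoc g
    · rw [𝒰.ι_glueMorphisms_assoc]; exact hrt z
    · rw [𝒰.ι_glueMorphisms_assoc]; exact hrs z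
  choose r hrt hrs using @key
  exact ⟨⟨hq.inv.symm⟩, ⟨PullbackCone.IsLimit.mk hq.inv.symm (fun c => r c.fst c.snd c.condition)
    (fun c => hrt c.fst c.snd c.condition) (fun c => hrs c.fst c.snd c.condition)
    (fun c m h1 h2 => t_s_ext G (h1.trans (hrt c.fst c.snd c.condition).symm)
      (h2.trans (hrs c.fst c.snd c.condition).symm))⟩⟩


variable (G) in
/-- Quotient of a finite locally free equivalence relation with classes in affine opens. -/
theorem exists_free_quotient (haff : AffClasses G) :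
    ∃ (Y : Scheme.{u}) (q : G.U ⟶ Y), IsQ G.s G.t q ∧ IsFinite q ∧ Flat q ∧
      LocallyOfFinitePresentation q ∧ IsPullback G.t G.s q q := by
  obtain ⟨Y, q, hq, hch⟩ := exists_isQ haff
  exact ⟨Y, q, hq, of_charts hch @IsFinite fun W => (chart_finLocFree W).1,
    of_charts hch @Flat fun W => (chart_finLocFree W).2.1,
    of_charts hch @LocallyOfFinitePresentation fun W => (chart_finLocFree W).2.2.1, isPullback_t_s hch hq⟩

variable (G) in
/-- A point in each nonempty closed set with class in an affine open suffices. -/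
theorem affClasses_of_closed (h3 : ∀ Z : Set ↥G.U, IsClosed Z → Z.Nonempty →
      ∃ u ∈ Z, ∃ W : G.U.Opens, IsAffineOpen W ∧ ∀ r : ↥G.R, G.s r = u → G.t r ∈ W) : AffClasses G := by
  obtain ⟨_, _, _⟩ := finLocFree_t G
  let Good : Set ↥G.U := {x | ∃ V : G.U.Opens, IsAffineOpen V ∧ x ∈ V ∧ Inv G V}
  have hopen : IsOpen Good := by
    rw [isOpen_iff_forall_mem_open]
    rintro x ⟨V, hV, hxV, hi⟩
    exact ⟨V, fun y hy => ⟨V, hV, hy, hi⟩, V.2, hxV⟩
  intro x
  by_cases hx : x ∈ Good
  · obtain ⟨V, hV, hxV, hi⟩ := hx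
    refine ⟨V, hV, ?_⟩
    rintro _ ⟨r, hr, rfl⟩
    exact (hi.mem_iff r).1 (by
      show G.s r ∈ V
      rw [Set.mem_singleton_iff.1 hr]; exact hxV)
  · obtain ⟨u, hu, W, hW, huW⟩ := h3 Goodᶜ hopen.isClosed_compl ⟨x, hx⟩
    obtain ⟨W', hW', huW', hi⟩ := exists_invariant_affine_open G u W hW huW
    exact absurd ⟨W', hW', huW', hi⟩ hu

end Free

end Groth.Agent.GrpdBasic
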