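import Groth.Agent.GrpdBasic.Basic

/-! `R ×_j R ≅ G ×_{U,t} R` and the diagonal of `j`. -/

set_option autoImplicit false
universe u
open CategoryTheory CategoryTheory.Limits AlgebraicGeometry

namespace Groth.Agent.GrpdBasic

variable {S : Scheme.{u}} (G : Grpd.GroupoidScheme S) {T : Scheme.{u}}

theorem j_fst : G.j ≫ pullback.fst G.pU G.pU = G.t := pullback.lift_fst _ _ _

theorem j_snd : G.j ≫ pullback.snd G.pU G.pU = G.s := pullback.lift_snd _ _ _

theorem diag_fst : G.diag ≫ pullback.fst G.pU G.pU = 𝟙 G.U := pullback.lift_fst _ _ _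

theorem diag_snd : G.diag ≫ pullback.snd G.pU G.pU = 𝟙 G.U := pullback.lift_snd _ _ _

theorem j_eq_iff (a b : T ⟶ G.R) : a ≫ G.j = b ≫ G.j ↔ a ≫ G.t = b ≫ G.t ∧ a ≫ G.s = b ≫ G.s := by
  constructor
  · intro h
    exact ⟨by rw [← j_fst G, ← Category.assoc, ← Category.assoc, h],
      by rw [← j_snd G, ← Category.assoc, ← Category.assoc, h]⟩
  · rintro ⟨h₁, h₂⟩
    refine pullback.hom_ext ?_ ?_
    · rw [Category.assoc, Category.assoc, j_fst]; exact h₁
    · rw [Category.assoc, Category.assoc, j_snd]; exact h₂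

/-- the arrow of a stabilizer point -/
noncomputable def stFst : G.stabilizer ⟶ G.R := pullback.fst G.j G.diag

theorem stab_cond : stFst G ≫ G.t = G.stabilizerToU ∧ stFst G ≫ G.s = G.stabilizerToU := by
  have h₁ : pullback.fst G.j G.diag ≫ G.t = pullback.snd G.j G.diag := by
    rw [← j_fst G, pullback.condition_assoc, diag_fst, Category.comp_id]
  have h₂ : pullback.fst G.j G.diag ≫ G.s = pullback.snd G.j G.diag := by
    rw [← j_snd G, pullback.condition_assoc, diag_snd, Category.comp_id]
  exact ⟨h₁, h₂⟩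

/-- a stabilizer point from an arrow with equal source and target -/
noncomputable def toStab (γ : T ⟶ G.R) (x : T ⟶ G.U) (h₁ : γ ≫ G.t = x) (h₂ : γ ≫ G.s = x) :
    T ⟶ G.stabilizer :=
  pullback.lift γ x (by
    refine pullback.hom_ext ?_ ?_
    · rw [Category.assoc, Category.assoc, j_fst, diag_fst, h₁, Category.comp_id]
    · rw [Category.assoc, Category.assoc, j_snd, diag_snd, h₂, Category.comp_id])

theorem toStab_fst (γ : T ⟶ G.R) (x : T ⟶ G.U) (h₁ h₂) :
    toStab G γ x h₁ h₂ ≫ stFst G = γ := pullback.lift_fst _ _ _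

theorem toStab_toU (γ : T ⟶ G.R) (x : T ⟶ G.U) (h₁ h₂) :
    toStab G γ x h₁ h₂ ≫ G.stabilizerToU = x := pullback.lift_snd _ _ _

theorem stab_ext {f g : T ⟶ G.stabilizer}
    (h₁ : f ≫ stFst G = g ≫ stFst G)
    (h₂ : f ≫ G.stabilizerToU = g ≫ G.stabilizerToU) : f = g := pullback.hom_ext h₁ h₂

theorem shear_cond : (pullback.fst G.stabilizerToU G.t ≫ stFst G) ≫ G.s =
    pullback.snd G.stabilizerToU G.t ≫ G.t := by
  exact (Category.assoc _ _ _).trans
    ((congrArg (_ ≫ ·) (stab_cond G).2).trans pullback.condition)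

/-- `(γ, r) ↦ (γ ∘ r, r)` -/
noncomputable def shear : pullback G.stabilizerToU G.t ⟶ pullback G.j G.j :=
  pullback.lift (mul G _ _ (shear_cond G)) (pullback.snd G.stabilizerToU G.t) (by
    rw [j_eq_iff]
    refine ⟨?_, mul_s G _ _ _⟩
    exact (mul_t G _ _ _).trans ((Category.assoc _ _ _).trans
      ((congrArg (_ ≫ ·) (stab_cond G).1).trans pullback.condition)))

theorem unshear_cond : pullback.fst G.j G.j ≫ G.s = (pullback.snd G.j G.j ≫ G.i) ≫ G.t := by
  rw [Category.assoc, G.i_t]
  exact ((j_eq_iff G _ _).1 pullback.condition).2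

/-- `(a, b) ↦ (a ∘ b⁻¹, b)` -/
noncomputable def unshear : pullback G.j G.j ⟶ pullback G.stabilizerToU G.t :=
  pullback.lift
    (toStab G (mul G _ _ (unshear_cond G)) (pullback.snd G.j G.j ≫ G.t)
      ((mul_t G _ _ _).trans ((j_eq_iff G _ _).1 pullback.condition).1)
      ((mul_s G _ _ _).trans (by rw [Category.assoc, G.i_s])))
    (pullback.snd G.j G.j) (toStab_toU G _ _ _ _)

theorem unshear_fst : unshear G ≫ pullback.fst G.stabilizerToU G.t ≫ stFst G =
    mul G _ _ (unshear_cond G) := by
  rw [unshear, pullback.lift_fst_assoc, toStab_fst]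

theorem unshear_snd : unshear G ≫ pullback.snd G.stabilizerToU G.t = pullback.snd G.j G.j :=
  pullback.lift_snd _ _ _

theorem pb_ext {f g : T ⟶ pullback G.stabilizerToU G.t}
    (h₁ : f ≫ pullback.fst G.stabilizerToU G.t ≫ stFst G =
      g ≫ pullback.fst G.stabilizerToU G.t ≫ stFst G)
    (h₂ : f ≫ pullback.snd G.stabilizerToU G.t = g ≫ pullback.snd G.stabilizerToU G.t) : f = g := by
  refine pullback.hom_ext (stab_ext G (by rw [Category.assoc, Category.assoc]; exact h₁) ?_) h₂
  rw [Category.assoc, Category.assoc, pullback.condition, ← Category.assoc, ← Category.assoc, h₂]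

theorem shear_unshear : shear G ≫ unshear G = 𝟙 _ := by
  refine pb_ext G ?_ ?_
  · rw [Category.assoc, unshear_fst, comp_mul, Category.id_comp]
    refine (mul_congr G (pullback.lift_fst _ _ _) ?_ _).trans
      (mul_inv_cancel_right G _ (pullback.snd G.stabilizerToU G.t) (shear_cond G))
    rw [← Category.assoc]
    exact congrArg (· ≫ G.i) (pullback.lift_snd _ _ _)
  · rw [Category.assoc, unshear_snd, Category.id_comp]
    exact pullback.lift_snd _ _ _

theorem unshear_shear : unshear G ≫ shear G = 𝟙 _ := by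
  refine pullback.hom_ext ?_ (by rw [shear, Category.assoc, pullback.lift_snd, unshear_snd, Category.id_comp])
  rw [shear, Category.assoc, pullback.lift_fst, comp_mul, Category.id_comp]
  refine (mul_congr G (α' := mul G _ _ (unshear_cond G)) (β' := pullback.snd G.j G.j) ?_ ?_ _).trans
    (inv_mul_cancel_right G _ _ ((j_eq_iff G _ _).1 pullback.condition).2)
  · rw [unshear, pullback.lift_fst_assoc, toStab_fst]
  · rw [unshear, pullback.lift_snd]

instance : IsIso (shear G) := ⟨unshear G, shear_unshear G, unshear_shear G⟩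

theorem eStab_toU : G.eStab ≫ G.stabilizerToU = 𝟙 G.U := pullback.lift_snd _ _ _

theorem diagonal_unshear : pullback.diagonal G.j ≫ unshear G =
    pullback.lift (G.t ≫ G.eStab) (𝟙 G.R) (by
      rw [Category.assoc, eStab_toU, Category.comp_id, Category.id_comp]) := by
  have he : G.eStab ≫ stFst G = G.e := pullback.lift_fst _ _ _
  refine pb_ext G ?_ (by rw [Category.assoc, unshear_snd, pullback.diagonal_snd, pullback.lift_snd])
  · rw [Category.assoc, unshear_fst, comp_mul, pullback.lift_fst_assoc]
    refine (mul_congr G (pullback.diagonal_fst _) (β' := G.i) ?_ _).trans ?_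
    · rw [pullback.diagonal_snd_assoc]
    · rw [← mul_congr G rfl (Category.id_comp G.i)
        (show (𝟙 G.R) ≫ G.s = (𝟙 G.R ≫ G.i) ≫ G.t by simp [G.i_t]), mul_inv]
      exact (Category.id_comp _).trans
        ((congrArg (G.t ≫ ·) he.symm).trans (Category.assoc _ _ _).symm)

theorem isPullback_eStab : IsPullback G.t (pullback.diagonal G.j ≫ unshear G) G.eStab
    (pullback.fst G.stabilizerToU G.t) := by
  have hw : G.t ≫ G.eStab = (pullback.diagonal G.j ≫ unshear G) ≫ pullback.fst G.stabilizerToU G.t := by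
    rw [diagonal_unshear, pullback.lift_fst]
  have he : G.eStab ≫ G.stabilizerToU = 𝟙 G.U := pullback.lift_snd _ _ _
  refine IsPullback.of_isLimit (c := PullbackCone.mk G.t _ hw)
    (PullbackCone.IsLimit.mk _ (fun q => q.snd ≫ pullback.snd G.stabilizerToU G.t) (fun q => ?_)
      (fun q => ?_) fun q m _ h₂ => ?_)
  · rw [Category.assoc, ← pullback.condition, ← Category.assoc, ← q.condition, Category.assoc,
      he, Category.comp_id]
  · have ht : (q.snd ≫ pullback.snd G.stabilizerToU G.t) ≫ G.t = q.fst := by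
      rw [Category.assoc, ← pullback.condition, ← Category.assoc, ← q.condition, Category.assoc,
        he, Category.comp_id]
    refine pullback.hom_ext ?_ ?_
    · rw [diagonal_unshear, Category.assoc, pullback.lift_fst, ← Category.assoc, ht, q.condition]
    · rw [diagonal_unshear, Category.assoc, pullback.lift_snd, Category.comp_id]
  · rw [← h₂, diagonal_unshear, Category.assoc, pullback.lift_snd, Category.comp_id]

end Groth.Agent.GrpdBasic
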