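import Groth.Agent.GrpdBasic.QuotDef
import Groth.Agent.GrpdBasic.Torsor
import Groth.Agent.GrpdBasic.NormOpen
import Groth.Agent.SGA1QuotLib.Existence
import Groth.Agent.S1877

/-!
# Quotients of finite locally free groupoids with classes in affine opens: gluing the affine case
-/

universe u
open CategoryTheory CategoryTheory.Limits AlgebraicGeometry Opposite TopologicalSpace

namespace Groth.Agent.GrpdBasic

set_option linter.style.haveILetI false
set_option backward.isDefEq.respectTransparency false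

/-- Restriction of a quotient along a cartesian open immersion. -/
theorem IsQ.restrict {U R Y U' R' Y' : Scheme.{u}} {s t : R ⟶ U} {q : U ⟶ Y} (hq : IsQ s t q)
    {s' t' : R' ⟶ U'} {q' : U' ⟶ Y'}
    (k : U' ⟶ U) (kR : R' ⟶ R) (j : Y' ⟶ Y) [IsOpenImmersion k] [IsOpenImmersion kR] [IsOpenImmersion j]
    (hk : k ≫ q = q' ≫ j) (hs : kR ≫ s = s' ≫ k) (ht : kR ≫ t = t' ≫ k)
    (hpre : q ⁻¹ᵁ j.opensRange = k.opensRange) (hpreR : s ⁻¹ᵁ k.opensRange ≤ kR.opensRange) :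
    IsQ s' t' q' := by
  have hinv' : s' ≫ q' = t' ≫ q' := by
    rw [← cancel_mono j, Category.assoc, Category.assoc, ← hk, ← reassoc_of% hs, ← reassoc_of% ht, hq.inv]
  have hkk : ∀ x, q.base (k.base x) = j.base (q'.base x) := fun x => congrArg (fun f => f.base x) hk
  refine ⟨?_, hinv', fun y => ?_, fun x x' h => ?_, fun V => ?_, fun V => ?_⟩
  · exact MorphismProperty.of_isPullback (IsOpenImmersion.isPullback q' k j q hk hpre).flip hq.integral
  · obtain ⟨x, hx⟩ := hq.surj (j.base y)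
    have hxk : x ∈ k.opensRange := hpre.le (show q.base x ∈ j.opensRange from ⟨y, hx.symm⟩)
    obtain ⟨x', rfl⟩ := hxk
    exact ⟨x', j.isOpenEmbedding.injective ((hkk x').symm.trans hx)⟩
  · obtain ⟨r, hr, hr'⟩ := hq.orbit (k.base x) (k.base x') (by rw [hkk, hkk, h])
    obtain ⟨r', rfl⟩ : r ∈ kR.opensRange := hpreR (show s.base r ∈ k.opensRange from ⟨x', hr'.symm⟩)
    exact ⟨r', k.isOpenEmbedding.injective ((congrArg (fun f => f.base r') ht).symm.trans hr),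
      k.isOpenEmbedding.injective ((congrArg (fun f => f.base r') hs).symm.trans hr')⟩
  all_goals
    have h0 := sections_iff_of_openImmersion k kR j hk hs ht hq.inv hinv' hpre.le hpreR (j ''ᵁ V)
      (by rintro _ ⟨z, _, rfl⟩; exact ⟨z, rfl⟩)
    rw [Scheme.Hom.preimage_image_eq] at h0
  · exact h0.1.2 (hq.injective _)
  · exact h0.2.2 (hq.range _)

variable {S : Scheme.{u}} (G : Grpd.GroupoidScheme S)

instance isIso_i : IsIso G.i := ⟨G.i, i_i G, i_i G⟩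

theorem finLocFree_t [IsFinite G.s] [Flat G.s] [LocallyOfFinitePresentation G.s] :
    IsFinite G.t ∧ Flat G.t ∧ LocallyOfFinitePresentation G.t := by
  rw [← G.i_s]
  exact ⟨inferInstance, inferInstance, inferInstance⟩

/-- An invariant open. -/
abbrev Inv (W : G.U.Opens) : Prop := G.s ⁻¹ᵁ W = G.t ⁻¹ᵁ W

variable {G}

theorem Inv.mem_iff {W : G.U.Opens} (hW : Inv G W) (r : G.R) : G.s r ∈ W ↔ G.t r ∈ W :=
  (SetLike.ext_iff.1 hW r)

theorem Inv.inf {W W' : G.U.Opens} (hW : Inv G W) (hW' : Inv G W') : Inv G (W ⊓ W') := by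
  unfold Inv at *
  rw [Scheme.Hom.preimage_inf, Scheme.Hom.preimage_inf, hW, hW']

section restrict

variable (G) (W : G.U.Opens) (hW : Inv G W)

theorem resC_range {T : Scheme.{u}} (α β : T ⟶ (G.s ⁻¹ᵁ W).toScheme)
    (h : (α ≫ (G.s ⁻¹ᵁ W).ι) ≫ G.s = (β ≫ (G.s ⁻¹ᵁ W).ι) ≫ G.t) :
    Set.range (mul G _ _ h) ⊆ Set.range (G.s ⁻¹ᵁ W).ι := by
  rw [Scheme.Opens.range_ι]
  rintro _ ⟨z, rfl⟩
  show G.s (mul G _ _ h z) ∈ W
  rw [← Scheme.Hom.comp_apply, mul_s, Category.assoc, Scheme.Hom.comp_apply]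
  exact (β z).2

theorem res_cond {T : Scheme.{u}} (α β : T ⟶ (G.s ⁻¹ᵁ W).toScheme)
    (h : α ≫ (G.s ∣_ W) = β ≫ G.t.resLE W (G.s ⁻¹ᵁ W) hW.le) :
    (α ≫ (G.s ⁻¹ᵁ W).ι) ≫ G.s = (β ≫ (G.s ⁻¹ᵁ W).ι) ≫ G.t := by
  have := congrArg (· ≫ W.ι) h
  simp only [Category.assoc, morphismRestrict_ι, Scheme.Hom.resLE_comp_ι] at this
  simp only [Category.assoc]
  exact this

theorem e_le : W ≤ G.e ⁻¹ᵁ (G.s ⁻¹ᵁ W) := by
  rw [← Scheme.Hom.comp_preimage, G.e_s]
  exact le_rfl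

include hW in
theorem i_le : G.s ⁻¹ᵁ W ≤ G.i ⁻¹ᵁ (G.s ⁻¹ᵁ W) := by
  rw [← Scheme.Hom.comp_preimage, G.i_s]
  exact hW.le

/-- The composition of the restricted groupoid. -/
noncomputable def resC : pullback (G.s ∣_ W) (G.t.resLE W (G.s ⁻¹ᵁ W) hW.le) ⟶ (G.s ⁻¹ᵁ W).toScheme :=
  IsOpenImmersion.lift (G.s ⁻¹ᵁ W).ι
    (mul G _ _ (res_cond G W hW (pullback.fst _ _) (pullback.snd _ _) pullback.condition))
    (resC_range G W _ _ _)

theorem resC_ι {T : Scheme.{u}} (α β : T ⟶ (G.s ⁻¹ᵁ W).toScheme)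
    (h : α ≫ (G.s ∣_ W) = β ≫ G.t.resLE W (G.s ⁻¹ᵁ W) hW.le) :
    (pullback.lift α β h ≫ resC G W hW) ≫ (G.s ⁻¹ᵁ W).ι =
      mul G _ _ (res_cond G W hW α β h) := by
  rw [Category.assoc, resC, IsOpenImmersion.lift_fac, comp_mul]
  exact mul_congr G (by rw [← Category.assoc, pullback.lift_fst]) (by rw [← Category.assoc, pullback.lift_snd]) _

/-- The groupoid restricted to an invariant open. -/
noncomputable abbrev res : Grpd.GroupoidScheme S where
  U := W.toScheme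
  R := (G.s ⁻¹ᵁ W).toScheme
  pU := W.ι ≫ G.pU
  pR := (G.s ⁻¹ᵁ W).ι ≫ G.pR
  s := G.s ∣_ W
  t := G.t.resLE W (G.s ⁻¹ᵁ W) hW.le
  e := G.e.resLE (G.s ⁻¹ᵁ W) W (e_le G W)
  i := G.i.resLE (G.s ⁻¹ᵁ W) (G.s ⁻¹ᵁ W) (i_le G W hW)
  c := resC G W hW
  s_over := by rw [morphismRestrict_ι_assoc, G.s_over]
  t_over := by rw [Scheme.Hom.resLE_comp_ι_assoc, G.t_over]
  comp_s α β h := by
    rw [← cancel_mono W.ι, Category.assoc, morphismRestrict_ι, ← Category.assoc, resC_ι, mul_s,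
      Category.assoc, Category.assoc, morphismRestrict_ι]
  comp_t α β h := by
    rw [← cancel_mono W.ι, Category.assoc, Scheme.Hom.resLE_comp_ι, ← Category.assoc, resC_ι, mul_t,
      Category.assoc, Category.assoc, Scheme.Hom.resLE_comp_ι]
  assoc α β γ h₁ h₂ := by
    have a₁ := res_cond G W hW α β h₁
    have a₂ := res_cond G W hW β γ h₂
    rw [← cancel_mono (G.s ⁻¹ᵁ W).ι, resC_ι G W hW (pullback.lift α β h₁ ≫ resC G W hW) γ,
      resC_ι G W hW α (pullback.lift β γ h₂ ≫ resC G W hW)]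
    refine (mul_congr G (resC_ι G W hW α β h₁) rfl _).trans ((mul_assoc G _ _ _ a₁ a₂).trans ?_)
    exact (mul_congr G rfl (resC_ι G W hW β γ h₂).symm _)
  e_s := by
    rw [← cancel_mono W.ι, Category.assoc, morphismRestrict_ι, Scheme.Hom.resLE_comp_ι_assoc, G.e_s,
      Category.id_comp, Category.comp_id]
  e_t := by
    rw [← cancel_mono W.ι, Category.assoc, Scheme.Hom.resLE_comp_ι, Scheme.Hom.resLE_comp_ι_assoc, G.e_t,
      Category.id_comp, Category.comp_id]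
  comp_e α := by
    rw [← cancel_mono (G.s ⁻¹ᵁ W).ι, resC_ι]
    refine mul_one G _ _ ?_ _
    simp only [Category.assoc, Scheme.Hom.resLE_comp_ι, morphismRestrict_ι_assoc]
  e_comp α := by
    rw [← cancel_mono (G.s ⁻¹ᵁ W).ι, resC_ι]
    refine one_mul G _ _ ?_ _
    simp only [Category.assoc, Scheme.Hom.resLE_comp_ι, Scheme.Hom.resLE_comp_ι_assoc]
  i_s := by
    rw [← cancel_mono W.ι, Category.assoc, morphismRestrict_ι, Scheme.Hom.resLE_comp_ι_assoc, G.i_s,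
      Scheme.Hom.resLE_comp_ι]
  i_t := by
    rw [← cancel_mono W.ι, Category.assoc, Scheme.Hom.resLE_comp_ι, Scheme.Hom.resLE_comp_ι_assoc, G.i_t,
      morphismRestrict_ι]
  comp_i α := by
    have hh : (α ≫ (G.s ⁻¹ᵁ W).ι) ≫ G.s = ((α ≫ (G.s ⁻¹ᵁ W).ι) ≫ G.i) ≫ G.t := by
      rw [Category.assoc _ G.i, G.i_t]
    rw [← cancel_mono (G.s ⁻¹ᵁ W).ι, resC_ι,
      mul_congr G (α' := α ≫ (G.s ⁻¹ᵁ W).ι) rfl
        (show (α ≫ G.i.resLE _ _ (i_le G W hW)) ≫ (G.s ⁻¹ᵁ W).ι = (α ≫ (G.s ⁻¹ᵁ W).ι) ≫ G.i by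
          simp only [Category.assoc, Scheme.Hom.resLE_comp_ι]),
      mul_inv]
    simp only [Category.assoc, Scheme.Hom.resLE_comp_ι, Scheme.Hom.resLE_comp_ι_assoc]
  i_comp α := by
    rw [← cancel_mono (G.s ⁻¹ᵁ W).ι, resC_ι,
      mul_congr G (β' := α ≫ (G.s ⁻¹ᵁ W).ι)
        (show (α ≫ G.i.resLE _ _ (i_le G W hW)) ≫ (G.s ⁻¹ᵁ W).ι = (α ≫ (G.s ⁻¹ᵁ W).ι) ≫ G.i by
          simp only [Category.assoc, Scheme.Hom.resLE_comp_ι]) rfl,
      inv_mul]
    simp only [Category.assoc, Scheme.Hom.resLE_comp_ι, morphismRestrict_ι_assoc]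

instance [IsFinite G.s] : IsFinite (res G W hW).s := IsZariskiLocalAtTarget.restrict ‹_› W
instance [Flat G.s] : Flat (res G W hW).s := IsZariskiLocalAtTarget.restrict ‹_› W
instance [LocallyOfFinitePresentation G.s] : LocallyOfFinitePresentation (res G W hW).s :=
  IsZariskiLocalAtTarget.restrict ‹_› W

theorem mono_res_j [Mono G.j] : Mono (res G W hW).j := by
  refine ⟨fun {T} f g h => ?_⟩
  rw [j_eq_iff] at h
  obtain ⟨ht, hs⟩ := h
  rw [← cancel_mono (G.s ⁻¹ᵁ W).ι]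
  refine t_s_ext G ?_ ?_
  · have := congrArg (· ≫ W.ι) ht
    simp only [res, Category.assoc, Scheme.Hom.resLE_comp_ι] at this
    simp only [Category.assoc]
    exact this
  · have := congrArg (· ≫ W.ι) hs
    simp only [res, Category.assoc, morphismRestrict_ι] at this
    simp only [Category.assoc]
    exact this

end restrict

variable [IsFinite G.s] [Flat G.s] [LocallyOfFinitePresentation G.s]

variable (G) in
/-- Every class lies in an affine open. -/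
def AffClasses : Prop :=
  ∀ x : ↥G.U, ∃ V : G.U.Opens, IsAffineOpen V ∧ G.t.base '' (G.s.base ⁻¹' {x}) ⊆ (V : Set ↥G.U)

/-- Invariant affine neighbourhoods inside an invariant open. -/
theorem exists_invariant_affine_le (haff : AffClasses G) (u : G.U) (O : G.U.Opens) (hO : Inv G O)
    (huO : u ∈ O) : ∃ W : G.U.Opens, IsAffineOpen W ∧ Inv G W ∧ u ∈ W ∧ W ≤ O := by
  classical
  obtain ⟨V₀, hV₀, hu⟩ := haff u
  have : IsAffine V₀ := hV₀
  have hfin : (G.s ⁻¹' {u}).Finite := G.s.finite_preimage_singleton u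
  let T : Finset V₀ := hfin.toFinset.attach.image fun r : {x // x ∈ hfin.toFinset} =>
    ⟨G.t r.1, hu ⟨r.1, (Set.Finite.mem_toFinset hfin).1 r.2, rfl⟩⟩
  obtain ⟨f, hfO, hfT⟩ := exists_basicOpen_subset_of_finite (V := (V₀ : Scheme)) (V₀.ι ⁻¹ᵁ O) T
    fun x hx => by
      obtain ⟨r, -, rfl⟩ := Finset.mem_image.1 hx
      have hr : G.s r.1 = u := (Set.Finite.mem_toFinset hfin).1 r.2
      exact (hO.mem_iff r.1).1 (by rw [hr]; exact huO)
  let D : G.U.Opens := V₀.ι ''ᵁ (V₀ : Scheme).basicOpen f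
  have hD : IsAffineOpen D := (isAffineOpen_top (V₀ : Scheme)).basicOpen f |>.image_of_isOpenImmersion _
  have hDO : D ≤ O := by
    rintro _ ⟨y, hy, rfl⟩
    exact hfO hy
  have hD' : IsAffineOpen (O.ι ⁻¹ᵁ D) := by
    rw [← O.ι.isAffineOpen_iff_of_isOpenImmersion, Scheme.Hom.image_preimage_eq_opensRange_inf,
      Scheme.Opens.opensRange_ι, inf_eq_right.2 hDO]
    exact hD
  let GO := res G O hO
  obtain ⟨_, _, _⟩ := finLocFree_t GO
  obtain ⟨W', hW', huW', hinv⟩ := exists_invariant_affine_open GO (⟨u, huO⟩ : O.toScheme) (O.ι ⁻¹ᵁ D) hD'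
    fun r hr => by
      have hs : G.s r.1 = u := by
        have := congrArg (fun x => O.ι x) hr
        change O.ι ((G.s ∣_ O) r) = u at this
        rw [← Scheme.Hom.comp_apply, morphismRestrict_ι] at this
        exact this
      show O.ι ((G.t.resLE O _ hO.le) r) ∈ D
      rw [← Scheme.Hom.comp_apply, Scheme.Hom.resLE_comp_ι]
      show G.t r.1 ∈ D
      refine ⟨⟨G.t r.1, hu ⟨r.1, hs, rfl⟩⟩, hfT _ (Finset.mem_image.2
        ⟨⟨r.1, (Set.Finite.mem_toFinset hfin).2 hs⟩, Finset.mem_attach _ _, rfl⟩), rfl⟩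
  refine ⟨O.ι ''ᵁ W', hW'.image_of_isOpenImmersion _, ?_, ⟨⟨u, huO⟩, huW', rfl⟩, ?_⟩
  · refine SetLike.ext fun r => ?_
    have key : ∀ (hr : r ∈ G.s ⁻¹ᵁ O), (G.s r ∈ O.ι ''ᵁ W' ↔ GO.s ⟨r, hr⟩ ∈ W') ∧
        (G.t r ∈ O.ι ''ᵁ W' ↔ GO.t ⟨r, hr⟩ ∈ W') := fun hr => by
      have e1 : O.ι (GO.s ⟨r, hr⟩) = G.s r := by
        show O.ι ((G.s ∣_ O) ⟨r, hr⟩) = _
        rw [← Scheme.Hom.comp_apply, morphismRestrict_ι]; rfl
      have e2 : O.ι (GO.t ⟨r, hr⟩) = G.t r := by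
        show O.ι ((G.t.resLE O _ hO.le) ⟨r, hr⟩) = _
        rw [← Scheme.Hom.comp_apply, Scheme.Hom.resLE_comp_ι]; rfl
      exact ⟨⟨fun ⟨z, hz, e⟩ => O.ι.isOpenEmbedding.injective (e.trans e1.symm) ▸ hz, fun h => ⟨_, h, e1⟩⟩,
        ⟨fun ⟨z, hz, e⟩ => O.ι.isOpenEmbedding.injective (e.trans e2.symm) ▸ hz, fun h => ⟨_, h, e2⟩⟩⟩
    show G.s r ∈ O.ι ''ᵁ W' ↔ G.t r ∈ O.ι ''ᵁ W'
    constructor
    · intro h
      have hr : r ∈ G.s ⁻¹ᵁ O := by
        obtain ⟨z, -, e⟩ := h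
        show G.s r ∈ O
        rw [← e]; exact z.2
      exact (key hr).2.2 ((SetLike.ext_iff.1 hinv ⟨r, hr⟩).1 ((key hr).1.1 h))
    · intro h
      have hr : r ∈ G.s ⁻¹ᵁ O := by
        obtain ⟨z, -, e⟩ := h
        refine (hO.mem_iff r).2 ?_
        rw [← e]; exact z.2
      exact (key hr).1.2 ((SetLike.ext_iff.1 hinv ⟨r, hr⟩).2 ((key hr).2.1 h))
  · rintro _ ⟨z, -, rfl⟩
    exact z.2

variable (G) in
/-- The invariant affine opens. -/
abbrev InvAffine : Type u := {W : G.U.Opens // IsAffineOpen W ∧ Inv G W}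

variable (G) in
/-- The restricted groupoid of an invariant affine open. -/
noncomputable abbrev resA (W : InvAffine G) : Grpd.GroupoidScheme S := res G W.1 W.2.2

instance (W : InvAffine G) : IsAffine (resA G W).U := W.2.1
instance (W : InvAffine G) : IsAffine (resA G W).R := W.2.1.preimage G.s

theorem isQ_resA (W : InvAffine G) : IsQ (resA G W).s (resA G W).t (resA G W).toQuot := by
  obtain ⟨_, _, _⟩ := finLocFree_t (resA G W)
  exact isQ_toQuot _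

theorem resA_s_ι (W : InvAffine G) : (resA G W).s ≫ W.1.ι = (G.s ⁻¹ᵁ W.1).ι ≫ G.s :=
  morphismRestrict_ι _ _

theorem resA_t_ι (W : InvAffine G) : (resA G W).t ≫ W.1.ι = (G.s ⁻¹ᵁ W.1).ι ≫ G.t :=
  Scheme.Hom.resLE_comp_ι _ _

theorem resA_hom_s {W W' : InvAffine G} (h : W ≤ W') :
    G.R.homOfLE (G.s.preimage_mono h) ≫ (resA G W').s = (resA G W).s ≫ G.U.homOfLE h := by
  rw [← cancel_mono W'.1.ι, Category.assoc, Category.assoc, resA_s_ι, Scheme.homOfLE_ι,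
    Scheme.homOfLE_ι_assoc, resA_s_ι]

theorem resA_hom_t {W W' : InvAffine G} (h : W ≤ W') :
    G.R.homOfLE (G.s.preimage_mono h) ≫ (resA G W').t = (resA G W).t ≫ G.U.homOfLE h := by
  rw [← cancel_mono W'.1.ι, Category.assoc, Category.assoc, resA_t_ι, Scheme.homOfLE_ι,
    Scheme.homOfLE_ι_assoc, resA_t_ι]

variable (G) in
/-- The quotient of an invariant affine open. -/
noncomputable abbrev qObj (W : InvAffine G) : Scheme.{u} := Spec (CommRingCat.of (resA G W).invariants)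

/-- The transition maps. -/
noncomputable def qMap {W W' : InvAffine G} (h : W ≤ W') : qObj G W ⟶ qObj G W' :=
  ((isQ_resA W).exists_desc (G.U.homOfLE h ≫ (resA G W').toQuot) (by
    rw [← reassoc_of% (resA_hom_s h), ← reassoc_of% (resA_hom_t h), (isQ_resA W').inv])).choose

theorem toQuot_qMap {W W' : InvAffine G} (h : W ≤ W') :
    (resA G W).toQuot ≫ qMap h = G.U.homOfLE h ≫ (resA G W').toQuot :=
  ((isQ_resA W).exists_desc (G.U.homOfLE h ≫ (resA G W').toQuot) (by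
    rw [← reassoc_of% (resA_hom_s h), ← reassoc_of% (resA_hom_t h), (isQ_resA W').inv])).choose_spec

variable (G) in
/-- The diagram of quotients. -/
noncomputable def qFunctor : InvAffine G ⥤ Scheme.{u} where
  obj W := qObj G W
  map f := qMap f.le
  map_id W := (isQ_resA W).hom_ext _ _ (by
    rw [toQuot_qMap, Scheme.homOfLE_rfl]
    erw [Category.id_comp])
  map_comp {W₁ W₂ W₃} f g := (isQ_resA W₁).hom_ext _ _ (by
    rw [toQuot_qMap, reassoc_of% (toQuot_qMap f.le), toQuot_qMap, Scheme.homOfLE_homOfLE_assoc])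

theorem isOpenImmersion_qMap {W W' : InvAffine G} (h : W ≤ W') : IsOpenImmersion (qMap h) := by
  have hq := isQ_resA W'
  haveI := hq.integral
  let T : W'.1.toScheme.Opens := W'.1.ι ⁻¹ᵁ W.1
  have hTc : ∀ r, (resA G W').s.base r ∈ ((T : Set W'.1.toScheme))ᶜ →
      (resA G W').t.base r ∈ ((T : Set W'.1.toScheme))ᶜ := by
    intro r hr hr'
    apply hr
    change W'.1.ι ((resA G W').t r) ∈ W.1 at hr'
    rw [← Scheme.Hom.comp_apply, resA_t_ι, Scheme.Hom.comp_apply] at hr'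
    show W'.1.ι ((resA G W').s r) ∈ W.1
    rw [← Scheme.Hom.comp_apply, resA_s_ι, Scheme.Hom.comp_apply]
    exact (W.2.2.mem_iff _).2 hr'
  let V : (qObj G W').Opens := ⟨((resA G W').toQuot.base '' ((T : Set W'.1.toScheme))ᶜ)ᶜ,
    ((resA G W').toQuot.isClosedMap _ T.isOpen.isClosed_compl).isOpen_compl⟩
  have hpre : (resA G W').toQuot ⁻¹ᵁ V = T := Opens.ext (by
    change (resA G W').toQuot.base ⁻¹'
      (((resA G W').toQuot.base '' ((T : Set W'.1.toScheme))ᶜ)ᶜ) = (T : Set W'.1.toScheme)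
    rw [Set.preimage_compl, hq.preimage_image_eq _ hTc, compl_compl])
  have hkr : (G.U.homOfLE h).opensRange = T := Opens.ext (Set.ext fun z => ⟨fun ⟨a, ha⟩ => by
      show W'.1.ι z ∈ W.1
      rw [← ha, ← Scheme.Hom.comp_apply, Scheme.homOfLE_ι]
      exact a.2,
    fun hz => ⟨⟨W'.1.ι z, hz⟩, W'.1.ι.isOpenEmbedding.injective (by
      rw [← Scheme.Hom.comp_apply, Scheme.homOfLE_ι]; rfl)⟩⟩)
  have hr : Set.range (G.U.homOfLE h ≫ (resA G W').toQuot) ⊆ Set.range V.ι := by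
    rw [Scheme.Opens.range_ι]
    rintro _ ⟨z, rfl⟩
    have hz : G.U.homOfLE h z ∈ (resA G W').toQuot ⁻¹ᵁ V := by
      rw [hpre, ← hkr]; exact ⟨z, rfl⟩
    rw [Scheme.Hom.comp_apply]
    exact hz
  let q₂ : W.1.toScheme ⟶ V.toScheme := IsOpenImmersion.lift V.ι _ hr
  have hq₂ : q₂ ≫ V.ι = G.U.homOfLE h ≫ (resA G W').toQuot := IsOpenImmersion.lift_fac _ _ _
  have hV : IsQ (resA G W).s (resA G W).t q₂ := hq.restrict (G.U.homOfLE h)
    (G.R.homOfLE (G.s.preimage_mono h)) V.ι hq₂.symm (resA_hom_s h) (resA_hom_t h)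
    (by rw [Scheme.Opens.opensRange_ι, hpre, hkr])
    (fun z hz => by
      have h1 : G.s z.1 ∈ W.1 := by
        have h2 : (resA G W').s z ∈ T := hkr.le hz
        change W'.1.ι ((resA G W').s z) ∈ W.1 at h2
        rw [← Scheme.Hom.comp_apply, resA_s_ι] at h2
        exact h2
      exact ⟨⟨z.1, h1⟩, (G.s ⁻¹ᵁ W'.1).ι.isOpenEmbedding.injective (by
        rw [← Scheme.Hom.comp_apply, Scheme.homOfLE_ι]; rfl)⟩)
  obtain ⟨a, ha⟩ := (isQ_resA W).exists_desc q₂ hV.inv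
  obtain ⟨b, hb⟩ := hV.exists_desc (resA G W).toQuot (isQ_resA W).inv
  have hab : a ≫ b = 𝟙 _ := (isQ_resA W).hom_ext _ _ (by rw [reassoc_of% ha, hb, Category.comp_id])
  have hba : b ≫ a = 𝟙 _ := hV.hom_ext _ _ (by rw [reassoc_of% hb, ha, Category.comp_id])
  haveI : IsIso a := ⟨b, hab, hba⟩
  have : qMap h = a ≫ V.ι := (isQ_resA W).hom_ext _ _ (by rw [toQuot_qMap, reassoc_of% ha, hq₂])
  rw [this]
  infer_instance

/-- Existence of the quotient, with the chart property. -/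
theorem exists_isQ (haff : AffClasses G) :
    ∃ (Y : Scheme.{u}) (q : G.U ⟶ Y), IsQ G.s G.t q ∧
      ∀ y : Y, ∃ (W : InvAffine G) (j : qObj G W ⟶ Y) (_ : IsOpenImmersion j),
        y ∈ j.opensRange ∧ IsPullback W.1.ι (resA G W).toQuot q j := by
  classical
  let F := qFunctor G
  haveI hoi : ∀ {i j : InvAffine G} (f : i ⟶ j), IsOpenImmersion (F.map f) :=
    fun f => isOpenImmersion_qMap f.le
  have hnbhd : ∀ (x : G.U) (O : G.U.Opens), Inv G O → x ∈ O →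
      ∃ W : InvAffine G, x ∈ W.1 ∧ W.1 ≤ O := fun x O hO hx => by
    obtain ⟨W, h1, h2, h3, h4⟩ := exists_invariant_affine_le haff x O hO hx
    exact ⟨⟨W, h1, h2⟩, h3, h4⟩
  have horb : ∀ (k : InvAffine G) (a b : k.1.toScheme),
      (resA G k).toQuot.base a = (resA G k).toQuot.base b → ∃ r : G.R, G.t r = a.1 ∧ G.s r = b.1 := by
    intro k a b h
    obtain ⟨r, hr, hr'⟩ := (isQ_resA k).orbit a b h
    exact ⟨(G.s ⁻¹ᵁ k.1).ι r,
      (congrArg (fun f => f.base r) (resA_t_ι k)).symm.trans (congrArg k.1.ι.base hr),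
      (congrArg (fun f => f.base r) (resA_s_ι k)).symm.trans (congrArg k.1.ι.base hr')⟩
  have hmap : ∀ {i j : InvAffine G} (f : i ⟶ j) (a : i.1.toScheme),
      (F.map f).base ((resA G i).toQuot.base a) = (resA G j).toQuot.base ((G.U.homOfLE f.le).base a) :=
    fun {i j} f a => congrArg (fun m => m.base a) (toQuot_qMap f.le)
  haveI : (F ⋙ Scheme.forget).IsLocallyDirected := ⟨fun {i j k} fi fj xi xj hx => by
    obtain ⟨a, rfl⟩ := (isQ_resA i).surj xi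
    obtain ⟨b, rfl⟩ := (isQ_resA j).surj xj
    have hx' : (resA G k).toQuot.base ((G.U.homOfLE fi.le).base a) =
        (resA G k).toQuot.base ((G.U.homOfLE fj.le).base b) := by
      rw [← hmap, ← hmap]; exact hx
    obtain ⟨r, hr, hr'⟩ := horb k _ _ hx'
    have e1 : ((G.U.homOfLE fi.le).base a).1 = a.1 := congrArg (fun m => m.base a) (G.U.homOfLE_ι fi.le)
    have e2 : ((G.U.homOfLE fj.le).base b).1 = b.1 := congrArg (fun m => m.base b) (G.U.homOfLE_ι fj.le)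
    rw [e1] at hr
    rw [e2] at hr'
    have hbi : b.1 ∈ i.1 := hr' ▸ (i.2.2.mem_iff r).2 (hr.symm ▸ a.2)
    obtain ⟨l, hl, hle⟩ := hnbhd b.1 _ (i.2.2.inf j.2.2) ⟨hbi, b.2⟩
    have hli : l ≤ i := hle.trans inf_le_left
    have hlj : l ≤ j := hle.trans inf_le_right
    refine ⟨l, homOfLE hli, homOfLE hlj, (resA G l).toQuot.base ⟨b.1, hl⟩, ?_, ?_⟩
    · refine (hmap (homOfLE hli) ⟨b.1, hl⟩).trans ?_
      have hrW : r ∈ G.s ⁻¹ᵁ i.1 := by
        show G.s r ∈ i.1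
        rw [hr']; exact hbi
      have h1 : (resA G i).t.base ⟨r, hrW⟩ = a := Subtype.ext
        ((congrArg (fun m => m.base (⟨r, hrW⟩ : (G.s ⁻¹ᵁ i.1).toScheme)) (resA_t_ι i)).trans hr)
      have h2 : (resA G i).s.base ⟨r, hrW⟩ = (G.U.homOfLE hli).base ⟨b.1, hl⟩ := Subtype.ext
        (((congrArg (fun m => m.base (⟨r, hrW⟩ : (G.s ⁻¹ᵁ i.1).toScheme)) (resA_s_ι i)).trans hr').trans
          (congrArg (fun m => m.base (⟨b.1, hl⟩ : l.1.toScheme)) (G.U.homOfLE_ι hli)).symm)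
      rw [← h1, ← h2, ← Scheme.Hom.comp_apply, (isQ_resA i).inv, Scheme.Hom.comp_apply]
    · refine (hmap (homOfLE hlj) ⟨b.1, hl⟩).trans ?_
      congr 1
      exact Subtype.ext (congrArg (fun m => m.base (⟨b.1, hl⟩ : l.1.toScheme)) (G.U.homOfLE_ι hlj))⟩
  let Y := colimit F
  let ι : ∀ W : InvAffine G, qObj G W ⟶ Y := fun W => colimit.ι F W
  haveI : ∀ W : InvAffine G, IsOpenImmersion (ι W) := fun W =>
    inferInstanceAs (IsOpenImmersion (colimit.ι F W))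
  choose Wx hWx using fun x : G.U =>
    (hnbhd x ⊤ (by unfold Inv; rfl) trivial).imp fun _ h => h.1
  let 𝒰 : G.U.OpenCover := G.U.openCoverOfIsOpenCover (fun x => (Wx x).1)
    (.mk (eq_top_iff.2 fun x _ => Opens.mem_iSup.2 ⟨x, hWx x⟩))
  have hagree : ∀ {i j : InvAffine G} (hij : i ≤ j),
      (resA G i).toQuot ≫ ι i = G.U.homOfLE hij ≫ (resA G j).toQuot ≫ ι j := fun {i j} hij => by
    have : qMap hij ≫ ι j = ι i := colimit.w F (homOfLE hij)
    rw [← this, reassoc_of% (toQuot_qMap hij)]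
  have hcompat : ∀ i j : InvAffine G,
      pullback.fst i.1.ι j.1.ι ≫ (resA G i).toQuot ≫ ι i =
        pullback.snd i.1.ι j.1.ι ≫ (resA G j).toQuot ≫ ι j := by
    intro i j
    let k := pullback.fst i.1.ι j.1.ι ≫ i.1.ι
    have hk : ∀ z, k z ∈ i.1 ⊓ j.1 := fun z => by
      refine ⟨(pullback.fst i.1.ι j.1.ι z).2, ?_⟩
      have : k = pullback.snd i.1.ι j.1.ι ≫ j.1.ι := pullback.condition
      rw [this]
      exact (pullback.snd i.1.ι j.1.ι z).2
    choose l hl hle using fun z => hnbhd (k z) _ (i.2.2.inf j.2.2) (hk z)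
    let 𝒱 := (pullback i.1.ι j.1.ι).openCoverOfIsOpenCover (fun z => k ⁻¹ᵁ (l z).1)
      (.mk (eq_top_iff.2 fun z _ => Opens.mem_iSup.2 ⟨z, hl z⟩))
    refine 𝒱.hom_ext _ _ fun z => ?_
    let c : (k ⁻¹ᵁ (l z).1).toScheme ⟶ (l z).1.toScheme := k.resLE (l z).1 _ le_rfl
    have hc : c ≫ (l z).1.ι = (k ⁻¹ᵁ (l z).1).ι ≫ k := Scheme.Hom.resLE_comp_ι _ _
    have hi : (l z) ≤ i := (hle z).trans inf_le_left
    have hj : (l z) ≤ j := (hle z).trans inf_le_right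
    have e1 : c ≫ G.U.homOfLE hi = (k ⁻¹ᵁ (l z).1).ι ≫ pullback.fst i.1.ι j.1.ι := by
      rw [← cancel_mono i.1.ι, Category.assoc, Scheme.homOfLE_ι, hc, Category.assoc]
    have e2 : c ≫ G.U.homOfLE hj = (k ⁻¹ᵁ (l z).1).ι ≫ pullback.snd i.1.ι j.1.ι := by
      rw [← cancel_mono j.1.ι, Category.assoc, Scheme.homOfLE_ι, hc, Category.assoc]
      simp only [k, pullback.condition]
    change (k ⁻¹ᵁ (l z).1).ι ≫ _ = (k ⁻¹ᵁ (l z).1).ι ≫ _
    rw [← reassoc_of% e1, ← reassoc_of% e2, ← hagree hi, ← hagree hj]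
  let q : G.U ⟶ Y := 𝒰.glueMorphisms (fun x => (resA G (Wx x)).toQuot ≫ ι (Wx x))
    fun a b => hcompat (Wx a) (Wx b)
  have hp : ∀ W : InvAffine G, W.1.ι ≫ q = (resA G W).toQuot ≫ ι W := fun W => by
    let 𝒱 := W.1.toScheme.openCoverOfIsOpenCover (fun z : W.1.toScheme => W.1.ι ⁻¹ᵁ (Wx z.1).1)
      (.mk (eq_top_iff.2 fun z _ => Opens.mem_iSup.2 ⟨z, hWx z.1⟩))
    refine 𝒱.hom_ext _ _ fun z => ?_
    let V := W.1.ι ⁻¹ᵁ (Wx z.1).1
    let c : V.toScheme ⟶ (Wx z.1).1.toScheme := W.1.ι.resLE _ _ le_rfl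
    have hc : c ≫ (Wx z.1).1.ι = V.ι ≫ W.1.ι := Scheme.Hom.resLE_comp_ι _ _
    have h1 : (Wx z.1).1.ι ≫ q = (resA G (Wx z.1)).toQuot ≫ ι (Wx z.1) := 𝒰.ι_glueMorphisms _ _ z.1
    change V.ι ≫ W.1.ι ≫ q = V.ι ≫ (resA G W).toQuot ≫ ι W
    rw [← reassoc_of% hc, h1]
    have h2 := pullback.lift_fst (f := (Wx z.1).1.ι) (g := W.1.ι) c V.ι hc
    have h3 := pullback.lift_snd (f := (Wx z.1).1.ι) (g := W.1.ι) c V.ι hc
    rw [← h2, Category.assoc, hcompat, reassoc_of% h3]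
  have hinv : G.s ≫ q = G.t ≫ q := by
    let 𝒲 : G.R.OpenCover := G.R.openCoverOfIsOpenCover (fun x => G.s ⁻¹ᵁ (Wx x).1)
      (.mk (eq_top_iff.2 fun r _ => Opens.mem_iSup.2 ⟨G.s r, hWx _⟩))
    refine 𝒲.hom_ext _ _ fun x => ?_
    change (G.s ⁻¹ᵁ (Wx x).1).ι ≫ G.s ≫ q = (G.s ⁻¹ᵁ (Wx x).1).ι ≫ G.t ≫ q
    rw [← reassoc_of% (resA_s_ι (Wx x)), ← reassoc_of% (resA_t_ι (Wx x)), hp,
      reassoc_of% (isQ_resA (Wx x)).inv]
  have hpre : ∀ W : InvAffine G, q ⁻¹ᵁ (ι W).opensRange = W.1.ι.opensRange := fun W => by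
    rw [Scheme.Opens.opensRange_ι]
    refine le_antisymm (fun z hz => ?_) fun z hz =>
      ⟨(resA G W).toQuot.base ⟨z, hz⟩, (congrArg (fun m => m.base (⟨z, hz⟩ : W.1.toScheme)) (hp W)).symm⟩
    obtain ⟨a, ha⟩ := hz
    have h1 : (ι (Wx z)).base ((resA G (Wx z)).toQuot.base ⟨z, hWx z⟩) = q.base z :=
      (congrArg (fun m => m.base (⟨z, hWx z⟩ : (Wx z).1.toScheme)) (hp (Wx z))).symm
    obtain ⟨l, fi, fj, x, hx1, -⟩ := (Scheme.IsLocallyDirected.ι_eq_ι_iff F).1 (h1.trans ha.symm)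
    obtain ⟨b, rfl⟩ := (isQ_resA l).surj x
    rw [hmap] at hx1
    obtain ⟨r, hr, hr'⟩ := horb _ _ _ hx1
    have e1 : ((G.U.homOfLE fi.le).base b).1 = b.1 := congrArg (fun m => m.base b) (G.U.homOfLE_ι fi.le)
    rw [e1] at hr
    refine fj.le ?_
    have hr'' : G.s r = z := hr'.trans rfl
    rw [← hr'']
    exact (l.2.2.mem_iff r).2 (hr.symm ▸ b.2)
  have hpb : ∀ W : InvAffine G, IsPullback W.1.ι (resA G W).toQuot q (ι W) := fun W =>
    (IsOpenImmersion.isPullback (resA G W).toQuot W.1.ι (ι W) q (hp W) (hpre W)).flip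
  have hsurj : ∀ y : Y, ∃ (W : InvAffine G) (a : qObj G W), (ι W).base a = y := fun y => by
    obtain ⟨W, a, rfl⟩ := Scheme.IsLocallyDirected.ι_jointly_surjective F y
    exact ⟨W, a, rfl⟩
  obtain ⟨hi, hrg⟩ := sections_of_forall_exists (s := G.s) (t := G.t) hinv (by
    intro V y hy
    obtain ⟨W, a, rfl⟩ := hsurj y
    have hR : G.s ⁻¹ᵁ W.1.ι.opensRange ≤ (G.s ⁻¹ᵁ W.1).ι.opensRange := by
      rw [Scheme.Opens.opensRange_ι, Scheme.Opens.opensRange_ι]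
    have h0 := sections_iff_of_openImmersion W.1.ι (G.s ⁻¹ᵁ W.1).ι (ι W) (hp W) (resA_s_ι W).symm
      (resA_t_ι W).symm hinv (isQ_resA W).inv (hpre W).le hR (V ⊓ (ι W).opensRange) inf_le_right
    exact ⟨V ⊓ (ι W).opensRange, ⟨hy, a, rfl⟩, inf_le_left, h0.1.1 ((isQ_resA W).injective _),
      h0.2.1 ((isQ_resA W).range _)⟩)
  refine ⟨Y, q, ⟨?_, hinv, fun y => ?_, fun x x' h => ?_, hi, hrg⟩, fun y => ?_⟩
  · refine IsZariskiLocalAtTarget.of_openCover (P := @IsIntegralHom) (Scheme.IsLocallyDirected.openCover F)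
      fun W => ?_
    haveI := (isQ_resA W).integral
    change IsIntegralHom (pullback.snd q (ι W))
    rw [← (hpb W).isoPullback_inv_snd]
    infer_instance
  · obtain ⟨W, a, rfl⟩ := hsurj y
    obtain ⟨b, rfl⟩ := (isQ_resA W).surj a
    exact ⟨W.1.ι b, congrArg (fun m => m.base b) (hp W)⟩
  · have hx' : x' ∈ (Wx x).1 := by
      have : x' ∈ q ⁻¹ᵁ (ι (Wx x)).opensRange := by
        show q.base x' ∈ (ι (Wx x)).opensRange
        rw [← h]
        exact ⟨(resA G (Wx x)).toQuot.base ⟨x, hWx x⟩,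
          (congrArg (fun m => m.base (⟨x, hWx x⟩ : (Wx x).1.toScheme)) (hp (Wx x))).symm⟩
      rw [hpre, Scheme.Opens.opensRange_ι] at this
      exact this
    refine horb (Wx x) ⟨x, hWx x⟩ ⟨x', hx'⟩ ((ι (Wx x)).isOpenEmbedding.injective ?_)
    exact ((congrArg (fun m => m.base (⟨x, hWx x⟩ : (Wx x).1.toScheme)) (hp (Wx x))).symm.trans h).trans
      (congrArg (fun m => m.base (⟨x', hx'⟩ : (Wx x).1.toScheme)) (hp (Wx x)))
  · obtain ⟨W, a, rfl⟩ := hsurj y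
    exact ⟨W, ι W, inferInstance, ⟨a, rfl⟩, hpb W⟩

end Groth.Agent.GrpdBasic
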