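import Groth.Agent.GrpdBasic.QuotGlue

/-!
# Geometric points of the quotient of a finite locally free groupoid
-/

universe u
open CategoryTheory CategoryTheory.Limits AlgebraicGeometry TopologicalSpace

namespace Groth.Agent.GrpdBasic

set_option linter.style.haveILetI false
set_option backward.isDefEq.respectTransparency false

variable {S : Scheme.{u}} {G : Grpd.GroupoidScheme S} [IsFinite G.s] [Flat G.s]
  [LocallyOfFinitePresentation G.s] {Y : Scheme.{u}} {q : G.U ⟶ Y}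

theorem isOpenMap_of_isQ (hq : IsQ G.s G.t q) : IsOpenMap q.base := by
  obtain ⟨_, _, _⟩ := finLocFree_t G
  haveI := hq.integral
  have hqm : Topology.IsQuotientMap q.base := q.isClosedMap.isQuotientMap q.continuous hq.surj
  intro U hU
  rw [← hqm.isOpen_preimage]
  have : q.base ⁻¹' (q.base '' U) = G.t.base '' (G.s.base ⁻¹' U) := by
    ext x
    constructor
    · rintro ⟨y, hy, h⟩
      obtain ⟨r, hr, hr'⟩ := hq.orbit x y h.symm
      exact ⟨r, (by show G.s.base r ∈ U; rw [hr']; exact hy), hr⟩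
    · rintro ⟨r, hr, rfl⟩
      exact ⟨_, hr, congrArg (fun f => f.base r) hq.inv⟩
  rw [this]
  exact G.t.isOpenMap _ (hU.preimage G.s.continuous)

/-- Two geometric points with the same image in the quotient are related. -/
theorem exists_point_of_eq
    (hch : ∀ y : Y, ∃ (W : InvAffine G) (j : qObj G W ⟶ Y) (_ : IsOpenImmersion j),
      y ∈ j.opensRange ∧ IsPullback W.1.ι (resA G W).toQuot q j)
    {K : Type u} [Field K] [IsAlgClosed K] (x₀ x₁ : Spec (CommRingCat.of K) ⟶ G.U)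
    (h : x₀ ≫ q = x₁ ≫ q) :
    ∃ r : Spec (CommRingCat.of K) ⟶ G.R, r ≫ G.t = x₀ ∧ r ≫ G.s = x₁ := by
  let c : Spec (CommRingCat.of K) := IsLocalRing.closedPoint K
  obtain ⟨W, j, hj, hy, hpb⟩ := hch (q.base (x₀.base c))
  obtain ⟨_, _, _⟩ := finLocFree_t (resA G W)
  have hin : ∀ (x : Spec (CommRingCat.of K) ⟶ G.U), x ≫ q = x₀ ≫ q → Set.range x ⊆ Set.range W.1.ι := by
    intro x hx
    rintro _ ⟨a, rfl⟩
    have ha : a = c := Subsingleton.elim (α := PrimeSpectrum K) _ _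
    subst ha
    have hm : q.base (x.base c) ∈ j.opensRange := by
      rw [← Scheme.Hom.comp_apply, hx, Scheme.Hom.comp_apply]
      exact hy
    obtain ⟨b, hb⟩ := hm
    obtain ⟨d, hd, -⟩ := Scheme.Pullback.exists_preimage_pullback (x.base c) b hb.symm
    refine ⟨hpb.isoPullback.inv d, ?_⟩
    rw [← Scheme.Hom.comp_apply, hpb.isoPullback_inv_fst, hd]
  obtain ⟨l0, e0⟩ : ∃ l, l ≫ W.1.ι = x₀ := ⟨_, IsOpenImmersion.lift_fac W.1.ι _ (hin x₀ rfl)⟩
  obtain ⟨l1, e1⟩ : ∃ l, l ≫ W.1.ι = x₁ := ⟨_, IsOpenImmersion.lift_fac W.1.ι _ (hin x₁ h.symm)⟩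
  obtain ⟨r, hr0, hr1⟩ := (((Groth.Agent.S1878.result S (resA G W)).2 K).2 l0 l1).1 (by
      rw [← cancel_mono j, Category.assoc, Category.assoc, ← hpb.w, reassoc_of% e0, reassoc_of% e1, h])
  exact ⟨r ≫ (G.s ⁻¹ᵁ W.1).ι, by rw [Category.assoc, ← resA_t_ι, reassoc_of% hr0, e0],
    by rw [Category.assoc, ← resA_s_ι, reassoc_of% hr1, e1]⟩

end Groth.Agent.GrpdBasic
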