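import Groth.Prelude.Def_QuotSh
import Mathlib.CategoryTheory.Sites.RegularEpi
import Mathlib.CategoryTheory.Sites.EpiMono
import Mathlib.CategoryTheory.Limits.Shapes.KernelPair

/-! A covering morphism is the quotient of its kernel pair in sheaves. -/

set_option autoImplicit false
universe u
open CategoryTheory CategoryTheory.Limits AlgebraicGeometry Opposite

namespace Groth.Agent.QuotShBasic

variable (K : Precoverage Scheme.{u}) {S : Scheme.{u}}

theorem generate_singleton_mem {U M : Over S} (q : U ⟶ M)
    (hq : Presieve.singleton q.left ∈ K M.left) :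
    Sieve.generate (Presieve.singleton q) ∈ QuotSh.J K S M := by
  rw [GrothendieckTopology.mem_over_iff]
  refine (K.toGrothendieck).superset_covering ?_ (Precoverage.generate_mem_toGrothendieck hq)
  rw [Sieve.generate_le_iff]
  rintro _ _ ⟨⟩
  exact ⟨U, q, 𝟙 _, Sieve.le_generate _ _ _ ⟨⟩, by simp⟩

theorem isLocallySurjective_repPre {U M : Over S} (q : U ⟶ M)
    (hq : Sieve.generate (Presieve.singleton q) ∈ QuotSh.J K S M) :
    Presheaf.IsLocallySurjective (QuotSh.J K S)
      (Functor.whiskerRight (yoneda.map q) uliftFunctor.{u + 1, u}) where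
  imageSieve_mem {T} x := by
    refine (QuotSh.J K S).superset_covering ?_ ((QuotSh.J K S).pullback_stable x.down hq)
    rintro Z f ⟨W, a, _, ⟨⟩, ha⟩
    exact ⟨ULift.up a, ULift.ext _ _ ha⟩

theorem epi_repMap {U M : Over S} (q : U ⟶ M)
    (hq : Sieve.generate (Presieve.singleton q) ∈ QuotSh.J K S M) :
    Epi (QuotSh.repMap K q) := by
  have := isLocallySurjective_repPre K q hq
  have : Sheaf.IsLocallySurjective (QuotSh.repMap K q) :=
    (Presheaf.isLocallySurjective_presheafToSheaf_map_iff _ _).2 this
  exact Sheaf.epi_of_isLocallySurjective _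

theorem isQuotient_of_isPullback {R U M : Over S} (s t : R ⟶ U) (q : U ⟶ M)
    (hp : IsPullback t s q q) (hq : Sieve.generate (Presieve.singleton q) ∈ QuotSh.J K S M) :
    QuotSh.IsQuotient K s t q := by
  refine ⟨hp.w.symm, ?_⟩
  let Φ : Over S ⥤ QuotSh.Sh K S := yoneda ⋙
    (Functor.whiskeringRight _ _ _).obj uliftFunctor.{u + 1, u} ⋙
    presheafToSheaf (QuotSh.J K S) (Type (u + 1))
  have hk : IsKernelPair (QuotSh.repMap K q) (QuotSh.repMap K s) (QuotSh.repMap K t) :=
    (hp.flip.map Φ)
  have := epi_repMap K q hq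
  have : IsRegularEpi (QuotSh.repMap K q) := isRegularEpi_of_regularEpi (regularEpiOfEpi _)
  have hc := hk.toCoequalizer'
  let e := (coequalizerIsCoequalizer (QuotSh.repMap K s) (QuotSh.repMap K t)).coconePointUniqueUpToIso hc
  have he : e.hom = QuotSh.quotDesc K q hp.w.symm := by
    refine coequalizer.hom_ext ?_
    refine ((coequalizerIsCoequalizer _ _).comp_coconePointUniqueUpToIso_hom hc
      WalkingParallelPair.one).trans ?_
    exact (coequalizer.π_desc _ _).symm
  exact he ▸ e.isIso_hom

end Groth.Agent.QuotShBasic
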