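import Groth.Agent.GrpdBasic.Basic
import Groth.Agent.FittMor.Basic

/-! Fitting strata of a groupoid scheme with finite source and target. -/

set_option autoImplicit false
universe u
open CategoryTheory CategoryTheory.Limits AlgebraicGeometry

namespace Groth.Agent.GrpdBasic

open Groth.Agent.FittMor

variable {S : Scheme.{u}} (G : Grpd.GroupoidScheme S) [IsFinite G.s] [IsFinite G.t]

theorem comap_subschemeι_self {X : Scheme.{u}} (I : X.IdealSheafData) :
    I.comap I.subschemeι = ⊥ := by
  rw [eq_bot_iff, ← Scheme.IdealSheafData.le_map_iff_comap_le, Scheme.IdealSheafData.map_bot,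
    Scheme.IdealSheafData.ker_subschemeι]

theorem fittSheaf_comap_s_eq_comap_t (r : ℕ) :
    (fittSheaf G.s r).comap G.s = (fittSheaf G.s r).comap G.t :=
  (fittSheaf_comap G.s (isPullback_c G) r).trans
    (fittSheaf_comap G.s (IsPullback.of_hasPullback G.s G.t) r).symm

/-- The stratum where the fibre rank of `s` is `r + 1`. -/
def stratum (r : ℕ) : Set G.U :=
  ((fittSheaf G.s r).support : Set G.U) \ (fittSheaf G.s (r + 1)).support

theorem mem_support_iff_s_t (r : ℕ) (x : G.R) :
    G.s x ∈ (fittSheaf G.s r).support ↔ G.t x ∈ (fittSheaf G.s r).support := by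
  have h := congrArg (fun I : G.R.IdealSheafData => x ∈ I.support) (fittSheaf_comap_s_eq_comap_t G r)
  simp only [Scheme.IdealSheafData.support_comap, eq_iff_iff] at h
  exact h

theorem mem_stratum_iff_s_t (r : ℕ) (x : G.R) : G.s x ∈ stratum G r ↔ G.t x ∈ stratum G r :=
  and_congr (mem_support_iff_s_t G r x) (not_congr (mem_support_iff_s_t G (r + 1) x))

theorem fittSheaf_s_zero : fittSheaf G.s 0 = ⊥ := fittSheaf_zero_eq_bot G.s G.e G.e_s

theorem exists_mem_stratum (x : G.U) : ∃ r, x ∈ stratum G r := by
  classical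
  have hex := exists_notMem_support G.s x
  obtain ⟨k, hk⟩ : ∃ k, Nat.find hex = k + 1 := by
    refine Nat.exists_eq_succ_of_ne_zero fun h0 => ?_
    have h := Nat.find_spec hex
    rw [h0, fittSheaf_s_zero, Scheme.IdealSheafData.support_bot] at h
    exact h trivial
  exact ⟨k, not_not.mp (Nat.find_min hex (m := k) (by omega)), hk ▸ Nat.find_spec hex⟩

theorem support_anti {r k : ℕ} (h : r ≤ k) :
    ((fittSheaf G.s k).support : Set G.U) ⊆ (fittSheaf G.s r).support :=
  Scheme.IdealSheafData.support_antitone (fittSheaf_mono G.s h)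

theorem stratum_disjoint {r k : ℕ} {x : G.U} (hr : x ∈ stratum G r) (hk : x ∈ stratum G k) :
    r = k := by
  rcases lt_trichotomy r k with h | h | h
  · exact absurd (support_anti G (r := r + 1) h hk.1) hr.2
  · exact h
  · exact absurd (support_anti G (r := k + 1) h hr.1) hk.2

/-- Over a morphism killing `Fit_r` and missing its successor, `s` is locally free of rank `r + 1`. -/
theorem isFinLocFreeOfDeg_snd {T : Scheme.{u}} (j : T ⟶ G.U) (r : ℕ)
    (h1 : (fittSheaf G.s r).comap j = ⊥) (h2 : ∀ x : T, j x ∉ (fittSheaf G.s (r + 1)).support) :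
    Mor2.IsFinLocFreeOfDeg (r + 1) (pullback.snd G.s j) := by
  have H := IsPullback.of_hasPullback G.s j
  refine isFinLocFreeOfDeg_of_fittSheaf _ _ (fun k hk => ?_) ?_
  · rw [← fittSheaf_comap G.s H k, eq_bot_iff, ← h1]
    exact Scheme.IdealSheafData.comap_mono j (fittSheaf_mono G.s (Nat.lt_succ_iff.mp hk))
  · rw [← fittSheaf_comap G.s H (r + 1), ← Scheme.IdealSheafData.support_eq_bot_iff,
      Scheme.IdealSheafData.support_comap]
    ext x
    exact iff_of_false (h2 x) fun h => h

/-- Closed immersions over `R` defined by ideals with equal pullbacks. -/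
theorem exists_iso_of_comap_eq (I : G.U.IdealSheafData) (h : I.comap G.s = I.comap G.t) :
    ∃ φ : pullback G.s I.subschemeι ≅ pullback G.t I.subschemeι,
      φ.hom ≫ pullback.fst G.t I.subschemeι = pullback.fst G.s I.subschemeι := by
  refine ⟨(I.comapIso G.s).symm ≪≫ eqToIso (by rw [h]) ≪≫ I.comapIso G.t, ?_⟩
  simp only [Iso.trans_hom, Iso.symm_hom, Category.assoc, eqToIso.hom,
    Scheme.IdealSheafData.comapIso_hom_fst]
  have key : ∀ (J : G.R.IdealSheafData) (hJ : I.comap G.s = J)
      (p : (I.comap G.s).subscheme = J.subscheme),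
      eqToHom p ≫ J.subschemeι = (I.comap G.s).subschemeι := by
    rintro J rfl p
    simp
  rw [key _ h, Scheme.IdealSheafData.comapIso_inv_subschemeι]

end Groth.Agent.GrpdBasic
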