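import Groth.Agent.GrpdBasic.Strata
import Groth.Agent.AdmBlowUp.Multi

/-! The maximal invariant open with locally constant rank and its invariant thickening. -/

set_option autoImplicit false
universe u
open CategoryTheory CategoryTheory.Limits AlgebraicGeometry TopologicalSpace

namespace Groth.Agent.GrpdBasic

open Groth.Agent.FittMor

/-! ### Ideal sheaves and opens -/

theorem comap_ι_congr {X : Scheme.{u}} {I J : X.IdealSheafData} (P : X.Opens)
    (h : ∀ V : X.affineOpens, V.1 ≤ P → I.ideal V = J.ideal V) : I.comap P.ι = J.comap P.ι := by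
  apply Scheme.IdealSheafData.ext
  funext U
  rw [Scheme.IdealSheafData.ideal_comap_of_isOpenImmersion,
    Scheme.IdealSheafData.ideal_comap_of_isOpenImmersion, h]
  exact P.ι_image_le U.1

theorem eq_bot_of_comap_ι {X : Scheme.{u}} {I : X.IdealSheafData} {ι : Type*} (O : ι → X.Opens)
    (hO : ⨆ i, O i = ⊤) (h : ∀ i, I.comap (O i).ι = ⊥) : I = ⊥ := by
  have hx : ∀ x : X, ∃ i, x ∈ O i := fun x => TopologicalSpace.Opens.mem_iSup.mp (hO ▸ trivial)
  choose j hj using hx
  have hV : ∀ x : X, ∃ V : (O (j x) : Scheme.{u}).affineOpens, (⟨x, hj x⟩ : O (j x)) ∈ V.1 := by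
    intro x
    obtain ⟨V, hV, hxV, -⟩ := exists_isAffineOpen_mem_and_subset (X := (O (j x) : Scheme.{u}))
      (x := (⟨x, hj x⟩ : O (j x))) (U := ⊤) (by trivial)
    exact ⟨⟨V, hV⟩, hxV⟩
  choose V hV using hV
  refine Scheme.IdealSheafData.ext_of_iSup_eq_top
    (fun x => ⟨(O (j x)).ι ''ᵁ (V x).1, (V x).2.image_of_isOpenImmersion _⟩)
    (eq_top_iff.mpr fun x _ => TopologicalSpace.Opens.mem_iSup.mpr ⟨x, ⟨x, hj x⟩, hV x, rfl⟩)
    fun x => ?_
  have hb := congrArg (fun K : Scheme.IdealSheafData _ => K.ideal (V x)) (h (j x))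
  simp only [Scheme.IdealSheafData.ideal_comap_of_isOpenImmersion, Scheme.IdealSheafData.ideal_bot,
    Pi.bot_apply] at hb
  rw [Scheme.IdealSheafData.ideal_bot, Pi.bot_apply, eq_bot_iff]
  intro a ha
  obtain ⟨b, rfl⟩ :=
    (ConcreteCategory.bijective_of_isIso ((O (j x)).ι.appIso (V x).1).inv).2 a
  have hb' : b ∈ (⊥ : Ideal _) := hb ▸ Ideal.mem_comap.mpr ha
  rw [(Submodule.mem_bot _).mp hb']
  exact (Submodule.mem_bot _).mpr (map_zero _)

/-! ### The opens -/

variable {S : Scheme.{u}} (G : Grpd.GroupoidScheme S) [IsFinite G.s] [IsFinite G.t]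

/-- The largest invariant open inside a stratum. -/
noncomputable def goodOpen (r : ℕ) : G.U.Opens :=
  sSup {V | (∀ x : G.R, G.s x ∈ V ↔ G.t x ∈ V) ∧ (V : Set G.U) ⊆ stratum G r}

/-- The open where the rank is constant on an invariant neighbourhood. -/
noncomputable def goodW : G.U.Opens := ⨆ r, goodOpen G r

theorem goodOpen_subset (r : ℕ) : (goodOpen G r : Set G.U) ⊆ stratum G r := by
  intro x hx
  obtain ⟨V, hV, hxV⟩ := TopologicalSpace.Opens.mem_sSup.mp hx
  exact hV.2 hxV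

theorem goodOpen_inv (r : ℕ) (x : G.R) : G.s x ∈ goodOpen G r ↔ G.t x ∈ goodOpen G r := by
  constructor
  all_goals
    intro h
    obtain ⟨V, hV, hxV⟩ := TopologicalSpace.Opens.mem_sSup.mp h
    refine TopologicalSpace.Opens.mem_sSup.mpr ⟨V, hV, ?_⟩
  · exact (hV.1 x).mp hxV
  · exact (hV.1 x).mpr hxV

theorem le_goodOpen {r : ℕ} {V : G.U.Opens} (h1 : ∀ x : G.R, G.s x ∈ V ↔ G.t x ∈ V)
    (h2 : (V : Set G.U) ⊆ stratum G r) : V ≤ goodOpen G r :=
  le_sSup (show V ∈ {V : G.U.Opens | (∀ x : G.R, G.s x ∈ V ↔ G.t x ∈ V) ∧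
    (V : Set G.U) ⊆ stratum G r} from ⟨h1, h2⟩)

theorem goodW_inv (x : G.R) : G.s x ∈ goodW G ↔ G.t x ∈ goodW G := by
  simp only [goodW, TopologicalSpace.Opens.mem_iSup, goodOpen_inv G _ x]

theorem goodW_preimage : G.s ⁻¹ᵁ goodW G = G.t ⁻¹ᵁ goodW G :=
  TopologicalSpace.Opens.ext (Set.ext fun x => goodW_inv G x)

/-- The invariant open of points whose orbit avoids a closed subset. -/
noncomputable def avoid (C : Set G.U) (hC : IsClosed C) : G.U.Opens :=
  ⟨(G.t '' (G.s ⁻¹' C))ᶜ, (G.t.isClosedMap _ (hC.preimage G.s.continuous)).isOpen_compl⟩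

theorem avoid_inv (C : Set G.U) (hC : IsClosed C) (x : G.R) :
    G.s x ∈ avoid G C hC ↔ G.t x ∈ avoid G C hC := by
  refine not_congr ⟨?_, ?_⟩
  · rintro ⟨r, hr, he⟩
    obtain ⟨w, hw1, hw2⟩ := exists_comp G x r he.symm
    exact ⟨w, show G.s w ∈ C from hw2 ▸ hr, hw1⟩
  · rintro ⟨r, hr, he⟩
    obtain ⟨w, hw1, hw2⟩ := exists_comp G (G.i x) r (by rw [s_i, he])
    exact ⟨w, show G.s w ∈ C from hw2 ▸ hr, hw1.trans (t_i G x)⟩

theorem exists_s_mem_closure_goodW (u : G.U) :
    ∃ r : G.R, G.t r = u ∧ G.s r ∈ closure (goodW G : Set G.U) := by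
  classical
  by_contra hne
  set O := avoid G (closure (goodW G : Set G.U)) isClosed_closure
  have huO : u ∈ O := fun ⟨r, hr, he⟩ => hne ⟨r, he, hr⟩
  have hex : ∃ k, ∃ v ∈ O, v ∈ stratum G k := by
    obtain ⟨k, hk⟩ := exists_mem_stratum G u
    exact ⟨k, u, huO, hk⟩
  obtain ⟨v, hvO, hv⟩ := Nat.find_spec hex
  set r := Nat.find hex
  let V : G.U.Opens := O ⊓ (fittSheaf G.s (r + 1)).support.compl
  have hV1 : ∀ x : G.R, G.s x ∈ V ↔ G.t x ∈ V := fun x =>
    and_congr (avoid_inv G _ _ x) (not_congr (mem_support_iff_s_t G (r + 1) x))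
  have hV2 : (V : Set G.U) ⊆ stratum G r := by
    intro w hw
    obtain ⟨k, hk⟩ := exists_mem_stratum G w
    have hrk : r ≤ k := Nat.find_min' hex ⟨w, hw.1, hk⟩
    exact ⟨support_anti G hrk hk.1, hw.2⟩
  have hvW : v ∈ goodW G :=
    TopologicalSpace.Opens.mem_iSup.mpr ⟨r, le_goodOpen G hV1 hV2 ⟨hvO, hv.2⟩⟩
  exact hvO ⟨G.e v, show G.s (G.e v) ∈ _ by rw [s_e]; exact subset_closure hvW, t_e G v⟩

/-! ### The thickened stratum -/

/-- The trace of a good open on `goodW`. -/
noncomputable def piece (r : ℕ) : (goodW G : Scheme.{u}).Opens := (goodW G).ι ⁻¹ᵁ goodOpen G r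

theorem exists_mem_piece (x : (goodW G : Scheme.{u})) : ∃ r, x ∈ piece G r := by
  have h : x.1 ∈ ⨆ r, goodOpen G r := x.2
  obtain ⟨r, hr⟩ := TopologicalSpace.Opens.mem_iSup.mp h
  exact ⟨r, hr⟩

theorem piece_disjoint {r k : ℕ} {x : (goodW G : Scheme.{u})} (hr : x ∈ piece G r)
    (hk : x ∈ piece G k) : r = k :=
  stratum_disjoint G (goodOpen_subset G r hr) (goodOpen_subset G k hk)

/-- The other pieces. -/
noncomputable def rest (r : ℕ) : (goodW G : Scheme.{u}).Opens := ⨆ k : {k // k ≠ r}, piece G k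

theorem mem_rest_iff (r : ℕ) (x : (goodW G : Scheme.{u})) : x ∈ rest G r ↔ x ∉ piece G r := by
  refine ⟨fun h h' => ?_, fun h => ?_⟩
  · obtain ⟨k, hk⟩ := TopologicalSpace.Opens.mem_iSup.mp h
    exact k.2 (piece_disjoint G hk h')
  · obtain ⟨k, hk⟩ := exists_mem_piece G x
    exact TopologicalSpace.Opens.mem_iSup.mpr ⟨⟨k, fun e => h (e ▸ hk)⟩, hk⟩

instance isClosedImmersion_rest_ι (r : ℕ) : IsClosedImmersion (rest G r).ι := by
  refine IsClosedImmersion.of_isPreimmersion _ ?_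
  rw [Scheme.Opens.range_ι, show ((rest G r : Set (goodW G : Scheme.{u}))) =
    (piece G r : Set (goodW G : Scheme.{u}))ᶜ from Set.ext (mem_rest_iff G r)]
  exact (piece G r).2.isClosed_compl

/-- The ideal which is the Fitting ideal on each piece. -/
noncomputable def goodIdeal : (goodW G : Scheme.{u}).IdealSheafData :=
  ⨆ r, (fittSheaf G.s r).comap (goodW G).ι ⊓ (rest G r).ι.ker

theorem goodIdeal_ideal {r : ℕ} (V : (goodW G : Scheme.{u}).affineOpens) (hV : V.1 ≤ piece G r) :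
    (goodIdeal G).ideal V = ((fittSheaf G.s r).comap (goodW G).ι).ideal V := by
  have hself : (rest G r).ι.ker.ideal V = ⊤ := by
    have he : (rest G r).ι ⁻¹ᵁ V.1 = ⊥ := eq_bot_iff.mpr fun x hx =>
      ((mem_rest_iff G r x.1).mp x.2 (hV hx)).elim
    rw [Scheme.Hom.ker_apply, eq_top_iff]
    intro a _
    rw [RingHom.mem_ker]
    haveI : Subsingleton Γ((rest G r : Scheme.{u}), (rest G r).ι ⁻¹ᵁ V.1) := by
      rw [he]; infer_instance
    exact Subsingleton.elim _ _
  have hother : ∀ k, k ≠ r → (rest G k).ι.ker.ideal V = ⊥ := by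
    intro k hk
    have hle : V.1 ≤ rest G k := fun x hx =>
      (mem_rest_iff G k x).mpr fun h => hk (piece_disjoint G h (hV hx))
    rw [Scheme.Hom.ker_apply, eq_bot_iff]
    intro a ha
    rw [RingHom.mem_ker] at ha
    have hinj : Function.Injective ((rest G k).ι.app V.1) := by
      haveI : IsIso ((rest G k).ι.app V.1) := (rest G k).ι.isIso_app V.1 (by simpa using hle)
      exact (ConcreteCategory.bijective_of_isIso _).1
    exact (Submodule.mem_bot _).mpr (hinj (ha.trans (map_zero _).symm))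
  rw [goodIdeal, Scheme.IdealSheafData.ideal_iSup, iSup_apply]
  refine le_antisymm (iSup_le fun k => ?_) ?_
  · rw [Scheme.IdealSheafData.ideal_inf, Pi.inf_apply]
    by_cases hk : k = r
    · subst hk; exact inf_le_left
    · rw [hother k hk, inf_bot_eq]; exact bot_le
  · refine le_trans ?_ (le_iSup _ r)
    rw [Scheme.IdealSheafData.ideal_inf, Pi.inf_apply, hself, inf_top_eq]

theorem goodIdeal_comap {T : Scheme.{u}} (h : T ⟶ (goodW G : Scheme.{u})) (r : ℕ)
    (hh : ∀ x : T, h x ∈ piece G r) :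
    (goodIdeal G).comap h = (fittSheaf G.s r).comap (h ≫ (goodW G).ι) := by
  have hl : Set.range h ⊆ Set.range (piece G r).ι := by
    rintro _ ⟨x, rfl⟩
    rw [Scheme.Opens.range_ι]
    exact hh x
  rw [← IsOpenImmersion.lift_fac (piece G r).ι h hl, Scheme.IdealSheafData.comap_comp,
    comap_ι_congr (piece G r) (fun V hV => goodIdeal_ideal G V hV),
    ← Scheme.IdealSheafData.comap_comp, ← Scheme.IdealSheafData.comap_comp]

theorem goodIdeal_support : (goodIdeal G).support = ⊤ := by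
  rw [eq_top_iff]
  intro x _
  obtain ⟨r, hr⟩ := exists_mem_piece G x
  have h : (goodIdeal G).support.preimage (piece G r).ι.continuous =
      (fittSheaf G.s r).support.preimage ((piece G r).ι ≫ (goodW G).ι).continuous := by
    rw [← Scheme.IdealSheafData.support_comap, ← Scheme.IdealSheafData.support_comap,
      goodIdeal_comap G (piece G r).ι r fun y => y.2]
  exact (Set.ext_iff.mp (congrArg SetLike.coe h) ⟨x, hr⟩).mpr (goodOpen_subset G r hr).1

/-- The thickened stratum inside `U`. -/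
noncomputable abbrev goodι : (goodIdeal G).subscheme ⟶ G.U :=
  (goodIdeal G).subschemeι ≫ (goodW G).ι

theorem isFinLocFree_of_isPullback {P : Scheme.{u}} {f : P ⟶ (goodIdeal G).subscheme} [IsFinite f]
    {g : P ⟶ G.R} (H : IsPullback g f G.s (goodι G)) : Mor2.IsFinLocFree f := by
  let O : ℕ → (goodIdeal G).subscheme.Opens := fun r => (goodIdeal G).subschemeι ⁻¹ᵁ piece G r
  have hO : ⨆ r, O r = ⊤ := eq_top_iff.mpr fun z _ =>
    TopologicalSpace.Opens.mem_iSup.mpr (exists_mem_piece G ((goodIdeal G).subschemeι z))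
  have key : ∀ r, Mor2.IsFinLocFreeOfDeg (r + 1) (f ∣_ O r) := by
    intro r
    have H' := (isPullback_morphismRestrict f (O r)).flip.paste_horiz H
    refine isFinLocFreeOfDeg_of_fittSheaf _ _ (fun k hk => ?_) ?_
    · rw [← fittSheaf_comap G.s H' k, eq_bot_iff]
      refine (Scheme.IdealSheafData.comap_mono _
        (fittSheaf_mono G.s (Nat.lt_succ_iff.mp hk))).trans ?_
      change (fittSheaf G.s r).comap ((O r).ι ≫ (goodIdeal G).subschemeι ≫ (goodW G).ι) ≤ ⊥
      rw [← Category.assoc, ← goodIdeal_comap G ((O r).ι ≫ (goodIdeal G).subschemeι) r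
        (fun z => z.2), Scheme.IdealSheafData.comap_comp, comap_subschemeι_self,
        Scheme.IdealSheafData.comap_bot]
    · rw [← fittSheaf_comap G.s H' (r + 1), ← Scheme.IdealSheafData.support_eq_bot_iff,
        Scheme.IdealSheafData.support_comap]
      ext z
      exact iff_of_false (goodOpen_subset G r (show _ ∈ goodOpen G r from z.2)).2 fun h => h
  exact ⟨inferInstance,
    (IsZariskiLocalAtTarget.iff_of_iSup_eq_top (P := @Flat) O hO).mpr fun r => (key r).1.2.1,
    (IsZariskiLocalAtTarget.iff_of_iSup_eq_top (P := @LocallyOfFinitePresentation) O hO).mpr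
      fun r => (key r).1.2.2⟩

theorem isFinLocFree_snd_s : Mor2.IsFinLocFree (pullback.snd G.s (goodι G)) :=
  isFinLocFree_of_isPullback G (IsPullback.of_hasPullback _ _)

theorem isFinLocFree_snd_t : Mor2.IsFinLocFree (pullback.snd G.t (goodι G)) := by
  haveI : IsIso G.i := ⟨G.i, i_i G, i_i G⟩
  have h : IsPullback G.i G.t G.s (𝟙 G.U) :=
    IsPullback.of_horiz_isIso ⟨by rw [G.i_s, Category.comp_id]⟩
  have H := (IsPullback.of_hasPullback G.t (goodι G)).paste_horiz h
  rw [Category.comp_id] at H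
  exact isFinLocFree_of_isPullback G H

/-- Two maps into `U` related by `s` and `t` through a common map to `R` factor simultaneously. -/
theorem exists_factor {P : Scheme.{u}} (x : P ⟶ G.R) (a b : G.R ⟶ G.U)
    (hab : (a = G.s ∧ b = G.t) ∨ (a = G.t ∧ b = G.s))
    (y : P ⟶ (goodIdeal G).subscheme) (hy : y ≫ goodι G = x ≫ a) :
    ∃ z : P ⟶ (goodIdeal G).subscheme, z ≫ goodι G = x ≫ b := by
  have hinv : ∀ r, ∀ w : G.R, a w ∈ goodOpen G r ↔ b w ∈ goodOpen G r := by
    intro r w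
    rcases hab with ⟨rfl, rfl⟩ | ⟨rfl, rfl⟩
    · exact goodOpen_inv G r w
    · exact (goodOpen_inv G r w).symm
  have hZ : ∀ r, (fittSheaf G.s r).comap a = (fittSheaf G.s r).comap b := by
    intro r
    rcases hab with ⟨rfl, rfl⟩ | ⟨rfl, rfl⟩
    · exact fittSheaf_comap_s_eq_comap_t G r
    · exact (fittSheaf_comap_s_eq_comap_t G r).symm
  let p : P ⟶ (goodW G : Scheme.{u}) := y ≫ (goodIdeal G).subschemeι
  have hp : p ≫ (goodW G).ι = x ≫ a := by rw [Category.assoc]; exact hy
  have hbW : Set.range (x ≫ b) ⊆ Set.range (goodW G).ι := by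
    rintro _ ⟨w, rfl⟩
    rw [Scheme.Opens.range_ι]
    have h1 : a (x w) ∈ goodW G := by
      rw [← Scheme.Hom.comp_apply, ← hp, Scheme.Hom.comp_apply]
      exact (p w).2
    obtain ⟨r, hr⟩ := TopologicalSpace.Opens.mem_iSup.mp h1
    exact TopologicalSpace.Opens.mem_iSup.mpr ⟨r, (hinv r _).mp hr⟩
  let q : P ⟶ (goodW G : Scheme.{u}) := IsOpenImmersion.lift (goodW G).ι (x ≫ b) hbW
  have hq : q ≫ (goodW G).ι = x ≫ b := IsOpenImmersion.lift_fac _ _ _
  have hp0 : (goodIdeal G).comap p = ⊥ := by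
    rw [Scheme.IdealSheafData.comap_comp, comap_subschemeι_self, Scheme.IdealSheafData.comap_bot]
  have hker : (goodIdeal G).comap q = ⊥ := by
    refine eq_bot_of_comap_ι (fun r => p ⁻¹ᵁ piece G r)
      (eq_top_iff.mpr fun w _ => TopologicalSpace.Opens.mem_iSup.mpr (exists_mem_piece G (p w)))
      fun r => ?_
    have hpq : ∀ w : (↑(p ⁻¹ᵁ piece G r) : Scheme.{u}),
        ((p ⁻¹ᵁ piece G r).ι ≫ q) w ∈ piece G r := by
      intro w
      have h1 : a (x w.1) ∈ goodOpen G r := by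
        rw [← Scheme.Hom.comp_apply, ← hp, Scheme.Hom.comp_apply]
        exact w.2
      have h2 := (hinv r _).mp h1
      rw [← Scheme.Hom.comp_apply, ← hq, Scheme.Hom.comp_apply] at h2
      exact h2
    rw [← Scheme.IdealSheafData.comap_comp, goodIdeal_comap G _ r hpq, Category.assoc, hq,
      ← Category.assoc, Scheme.IdealSheafData.comap_comp, ← hZ r,
      ← Scheme.IdealSheafData.comap_comp, Category.assoc, ← hp, ← Category.assoc,
      ← goodIdeal_comap G ((p ⁻¹ᵁ piece G r).ι ≫ p) r (fun w => w.2),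
      Scheme.IdealSheafData.comap_comp, hp0,
      Scheme.IdealSheafData.comap_bot]
  have hle : (goodIdeal G).subschemeι.ker ≤ q.ker := by
    rw [Scheme.IdealSheafData.ker_subschemeι, ← Scheme.IdealSheafData.map_bot,
      Scheme.IdealSheafData.le_map_iff_comap_le, hker]
  refine ⟨IsClosedImmersion.lift (goodIdeal G).subschemeι q hle, ?_⟩
  rw [← Category.assoc, IsClosedImmersion.lift_fac, hq]

theorem exists_iso_goodι :
    ∃ φ : pullback G.s (goodι G) ≅ pullback G.t (goodι G),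
      φ.hom ≫ pullback.fst G.t (goodι G) = pullback.fst G.s (goodι G) := by
  obtain ⟨z, hz⟩ := exists_factor G (pullback.fst G.s (goodι G)) G.s G.t (Or.inl ⟨rfl, rfl⟩)
    _ pullback.condition.symm
  obtain ⟨z', hz'⟩ := exists_factor G (pullback.fst G.t (goodι G)) G.t G.s (Or.inr ⟨rfl, rfl⟩)
    _ pullback.condition.symm
  refine ⟨⟨pullback.lift _ z hz.symm, pullback.lift _ z' hz'.symm, ?_, ?_⟩, pullback.lift_fst _ _ _⟩
  all_goals
    rw [← cancel_mono (pullback.fst _ _), Category.assoc, Category.id_comp]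
    erw [pullback.lift_fst, pullback.lift_fst]

end Groth.Agent.GrpdBasic
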